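import Groth.Agent.DualVar.Irred
import Groth.Agent.AlgSpLib.Reduced
import Groth.Agent.WeilLib.Trdeg

/-!
# Not every form is singular somewhere
-/

set_option autoImplicit false
set_option linter.style.haveILetI false
set_option linter.unusedSectionVars false
set_option backward.isDefEq.respectTransparency false
set_option backward.isDefEq.respectTransparency.types false

universe u

open CategoryTheory CategoryTheory.Limits AlgebraicGeometry TopologicalSpace Opposite
open Groth.Agent.WeilLib (secStr)

noncomputable section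

namespace Groth.Agent.DualVar

/-- Algebraically independent elements of a polynomial ring over a domain of dimension `≤ n`. -/
theorem exists_rel_of_dim {k A : Type u} [Field k] [CommRing A] [IsDomain A] [Algebra k A] [Algebra.FiniteType k A]
    {n m N : ℕ} (hA : ringKrullDim A ≤ n) (hN : n + m < N) (z : Fin N → MvPolynomial (Fin m) A) :
    ∃ P : MvPolynomial (Fin N) k, P ≠ 0 ∧ MvPolynomial.aeval z P = 0 := by
  by_contra hc
  have hind : AlgebraicIndependent k z := by
    rw [algebraicIndependent_iff]
    intro P hP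
    by_contra hne
    exact hc ⟨P, hne, hP⟩
  obtain ⟨s, hs, hds⟩ := WeilLib.exists_dim_eq_trdeg (k := k) (D := A) (L := FractionRing A)
    (IsScalarTower.toAlgHom k A (FractionRing A)) (IsFractionRing.injective A (FractionRing A)) fun w => by
      obtain ⟨⟨b, d⟩, hbd⟩ := IsLocalization.surj (nonZeroDivisors A) w
      exact ⟨b, d, IsFractionRing.to_map_ne_zero_of_mem_nonZeroDivisors d.2, hbd⟩
  have hsn : s ≤ n := by
    rw [hds] at hA
    exact_mod_cast hA
  have h1 : Algebra.trdeg k A ≤ s := hs ▸ trdeg_le_of_injective (IsScalarTower.toAlgHom k A (FractionRing A))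
    (IsFractionRing.injective A (FractionRing A))
  have h2 := hind.lift_cardinalMk_le_trdeg
  have h3 : Algebra.trdeg k (MvPolynomial (Fin m) A) = Algebra.trdeg k A + (m : Cardinal.{u}) := by
    rw [← trdeg_add_eq k A (A := MvPolynomial (Fin m) A), MvPolynomial.trdeg_of_isDomain]
    simp
  rw [h3] at h2
  simp only [Cardinal.mk_fin, Cardinal.lift_natCast, Cardinal.lift_add] at h2
  have h4 : (N : Cardinal.{u}) ≤ (s : Cardinal.{u}) + (m : Cardinal.{u}) := by
    refine le_trans ?_ (add_le_add_left h1 _)
    simpa using h2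
  have : N ≤ s + m := by exact_mod_cast h4
  omega

variable {k : Type u} [Field k] [IsAlgClosed k] {r d : ℕ} (n : ℕ) {X : Scheme.{u}} (i : X ⟶ CohB1.ProjSpace r k)
  [IsClosedImmersion i] [SmoothOfRelativeDimension n (str i)] [LocallyOfFiniteType (str i)] [IrreducibleSpace X]

include n

theorem exists_poly_of_frame (F : Frame i n d) :
    ∃ P : MvPolynomial (Fin (Module.finrank k (LefPen.Form r k d))) k, P ≠ 0 ∧
      ∀ (x : X), IsClosed ({x} : Set X) → x ∈ F.V.1 → ∀ H, Bad i H x → MvPolynomial.eval (co H) P = 0 := by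
  classical
  by_cases hpt : ∃ y : X, IsClosed ({y} : Set X) ∧ y ∈ F.V.1
  swap
  · exact ⟨1, one_ne_zero, fun x hx hxV => absurd ⟨x, hx, hxV⟩ hpt⟩
  obtain ⟨y, hy, hyV⟩ := hpt
  let V := F.V.1
  haveI : Smooth (str i) := SmoothOfRelativeDimension.smooth n (str i)
  haveI : IsReduced (Spec (CommRingCat.of k)) := inferInstance
  haveI : IsReduced X := AlgSpLib.isReduced_of_smooth (str i)
  haveI : IsIntegral X := isIntegral_of_irreducibleSpace_of_isReduced X
  haveI : Nonempty V := ⟨⟨y, hyV⟩⟩
  letI : Algebra k Γ(X, V) := (secStr (str i) V).toAlgebra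
  haveI : Algebra.FiniteType k Γ(X, V) := WeilLib.finiteType_secStr (str i) F.V.2
  let M : Matrix (Option (Fin n)) (Option (Fin n)) Γ(X, V) := fun o p => F.Φ o (F.E p)
  obtain ⟨Minv, hMinv⟩ := (Matrix.isUnit_iff_isUnit_det M).2 F.inv |>.exists_left_inv
  -- a complement of the span of the chosen forms
  have hE : LinearIndependent k F.E := by
    refine Fintype.linearIndependent_iff.2 fun c hc p => ?_
    have h1 : (M.map (ev (str i) hy hyV)).mulVec c = 0 := by
      funext o
      have h := congrArg (fun H => F.lmap i hy hyV H o) hc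
      simp only [map_sum, map_smul, map_zero, Finset.sum_apply, Pi.smul_apply, smul_eq_mul, Pi.zero_apply] at h
      rw [Pi.zero_apply, ← h]
      show ∑ p, ev (str i) hy hyV (M o p) * c p = _
      exact Finset.sum_congr rfl fun p _ => mul_comm (ev (str i) hy hyV (M o p)) (c p)
    have h2 := congrArg ((Minv.map (ev (str i) hy hyV)).mulVec) h1
    rw [Matrix.mulVec_mulVec, ← Matrix.map_mul, hMinv, Matrix.map_one _ (map_zero _) (map_one _), Matrix.one_mulVec,
      Matrix.mulVec_zero] at h2
    exact congrFun h2 p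
  obtain ⟨C, hC⟩ := Submodule.exists_isCompl (Submodule.span k (Set.range F.E))
  let m := Module.finrank k C
  haveI : Module.Free k C := Module.Free.of_divisionRing k C
  let G := Module.finBasis k C
  have hcard : n + m < Module.finrank k (LefPen.Form r k d) := by
    have h := Submodule.finrank_add_eq_of_isCompl hC
    rw [finrank_span_eq_card hE, Fintype.card_option, Fintype.card_fin] at h
    omega
  -- the parametrisation of the singular forms
  let vec : Option (Fin n) → MvPolynomial (Fin m) Γ(X, V) := fun o =>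
    ∑ q, MvPolynomial.X q * MvPolynomial.C (F.Φ o (G q : LefPen.Form r k d))
  let aP : Option (Fin n) → MvPolynomial (Fin m) Γ(X, V) := fun p => -∑ o, MvPolynomial.C (Minv p o) * vec o
  let cst : k → MvPolynomial (Fin m) Γ(X, V) := fun a => MvPolynomial.C (secStr (str i) V a)
  let z : Fin (Module.finrank k (LefPen.Form r k d)) → MvPolynomial (Fin m) Γ(X, V) := fun c =>
    ∑ q, MvPolynomial.X q * cst (co (G q : LefPen.Form r k d) c) + ∑ p, aP p * cst (co (F.E p) c)
  obtain ⟨P, hP0, hP⟩ := exists_rel_of_dim (k := k) (A := Γ(X, V)) (ringKrullDim_le n (str i) F.V.2) hcard z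
  refine ⟨P, hP0, fun x hx hxV H hH => ?_⟩
  obtain ⟨w₁, hw₁, w₂, hw₂, hsum⟩ := Submodule.mem_sup.1 (hC.sup_eq_top.ge (Submodule.mem_top (x := H)))
  obtain ⟨a, ha⟩ := (Submodule.mem_span_range_iff_exists_fun k).1 hw₁
  let y' : Fin m → k := fun q => G.repr ⟨w₂, hw₂⟩ q
  have hw₂' : ∑ q, y' q • (G q : LefPen.Form r k d) = w₂ := by
    have := congrArg Subtype.val (G.sum_repr ⟨w₂, hw₂⟩)
    rw [Submodule.coe_sum] at this
    exact this
  let e : MvPolynomial (Fin m) Γ(X, V) →+* k := MvPolynomial.eval₂Hom (ev (str i) hx hxV) y'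
  have hecst : ∀ c : k, e (cst c) = c := fun c => by simp [e, cst, ev_secStr]
  have hvec : ∀ o, e (vec o) = F.lmap i hx hxV w₂ o := fun o => by
    rw [← hw₂']
    simp only [map_sum, map_smul, Finset.sum_apply, Pi.smul_apply, smul_eq_mul, vec, map_mul]
    refine Finset.sum_congr rfl fun q _ => ?_
    rw [show e (MvPolynomial.X q) = y' q from MvPolynomial.eval₂_X _ _ _,
      show e (MvPolynomial.C (F.Φ o (G q : LefPen.Form r k d))) = ev (str i) hx hxV (F.Φ o (G q : LefPen.Form r k d)) from
        MvPolynomial.eval₂_C _ _ _]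
    rfl
  have haP : ∀ p, e (aP p) = a p := by
    have hbad := (F.bad_iff_lmap i hx hxV H).1 hH
    rw [← hsum, ← ha, map_add] at hbad
    have h1 : (fun o => e (vec o)) = -((M.map (ev (str i) hx hxV)).mulVec a) := by
      funext o
      have h := congrFun hbad o
      simp only [map_sum, map_smul, Pi.add_apply, Finset.sum_apply, Pi.smul_apply, smul_eq_mul, Pi.zero_apply] at h
      rw [hvec, Pi.neg_apply, eq_neg_iff_add_eq_zero, ← h, add_comm]
      congr 1
      show ∑ p, ev (str i) hx hxV (M o p) * a p = _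
      exact Finset.sum_congr rfl fun p _ => mul_comm (ev (str i) hx hxV (M o p)) (a p)
    intro p
    have h2 : (Minv.map (ev (str i) hx hxV)).mulVec (fun o => e (vec o)) = -a := by
      rw [h1, Matrix.mulVec_neg, Matrix.mulVec_mulVec, ← Matrix.map_mul, hMinv,
        Matrix.map_one _ (map_zero _) (map_one _), Matrix.one_mulVec]
    have h3 := congrFun h2 p
    simp only [aP, map_neg, map_sum, map_mul]
    rw [neg_eq_iff_eq_neg, ← Pi.neg_apply, ← h3]
    show _ = ∑ o, ev (str i) hx hxV (Minv p o) * e (vec o)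
    refine Finset.sum_congr rfl fun o _ => ?_
    rw [show e (MvPolynomial.C (Minv p o)) = ev (str i) hx hxV (Minv p o) from MvPolynomial.eval₂_C _ _ _]
  have hz : (fun c => e (z c)) = co H := by
    funext c
    simp only [z, map_add, map_sum, map_mul, hecst, haP]
    have hX : ∀ q, e (MvPolynomial.X q) = y' q := fun q => MvPolynomial.eval₂_X _ _ _
    simp only [hX]
    rw [← hsum, ← ha, ← hw₂']
    have hco : ∀ H, co H c = ((bF r k d).coord c) H := fun H => rfl
    simp only [hco, map_add, map_sum, map_smul, smul_eq_mul]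
    exact add_comm _ _
  have h := congrArg e hP
  rw [map_zero, MvPolynomial.aeval_def, MvPolynomial.eval₂_comp_left e] at h
  have hk : e.comp (algebraMap k (MvPolynomial (Fin m) Γ(X, V))) = RingHom.id k := RingHom.ext fun c => hecst c
  rw [hk, show (⇑e ∘ z) = co H from hz] at h
  exact h

/-- The good forms contain a dense open set. -/
theorem isGeneric_good (hd : 1 ≤ d) :
    LefPen.IsGeneric k {H : LefPen.Form r k d | ∀ x : X, IsClosed ({x} : Set X) → ¬ Bad i H x} := by
  classical
  haveI : JacobsonSpace X := LocallyOfFiniteType.jacobsonSpace (str i)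
  haveI : IsProper (CohB1.ProjSpace.toSpec r k) := ProjMor.isProper_toSpec r k
  haveI : IsProper (str i) := inferInstance
  haveI : CompactSpace X := QuasiCompact.compactSpace_of_compactSpace (str i)
  choose F hF using fun x : closedPoints X => exists_frame (n := n) (d := d) i hd x.2
  have hcov : (Set.univ : Set X) ⊆ ⋃ x, ((F x).V.1 : Set X) := by
    intro y _
    by_contra hy
    obtain ⟨z, hz, hzc⟩ := nonempty_inter_closedPoints (⟨y, hy⟩ : ((⋃ x, ((F x).V.1 : Set X))ᶜ).Nonempty)
      ((isOpen_iUnion fun x => (F x).V.1.isOpen).isClosed_compl.isLocallyClosed)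
    exact hz (Set.mem_iUnion.2 ⟨⟨z, hzc⟩, hF ⟨z, hzc⟩⟩)
  obtain ⟨t, ht⟩ := isCompact_univ.elim_finite_subcover _ (fun x => (F x).V.1.isOpen) hcov
  choose P hP0 hP using fun x => exists_poly_of_frame n i (F x)
  refine ⟨fun H => MvPolynomial.eval (co H) (∏ x ∈ t, P x), isPolyFun_co _, ?_, fun H hH x hx hB => hH ?_⟩
  · have hne : (∏ x ∈ t, P x) ≠ 0 := Finset.prod_ne_zero_iff.2 fun x _ => hP0 x
    by_contra hc
    push Not at hc
    refine hne (MvPolynomial.funext fun c => ?_)
    have h1 := hc ((bF r k d).equivFun.symm c)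
    rw [show co ((bF r k d).equivFun.symm c) = c from ((bF r k d).equivFun).apply_symm_apply c] at h1
    rw [h1, map_zero]
  · obtain ⟨z, hz, hxz⟩ := Set.mem_iUnion₂.1 (ht (Set.mem_univ x))
    show MvPolynomial.eval (co H) (∏ x ∈ t, P x) = 0
    rw [map_prod]
    exact Finset.prod_eq_zero hz (hP z x hx hxz H hB)

end Groth.Agent.DualVar
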