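import Groth.Agent.DualVar.Chart
import Groth.Agent.DualVar.Proper

/-!
# The jets of forms at the closed points of a chart
-/

set_option autoImplicit false
set_option linter.style.haveILetI false
set_option linter.unusedSectionVars false
set_option backward.isDefEq.respectTransparency false
set_option backward.isDefEq.respectTransparency.types false

universe u

open CategoryTheory CategoryTheory.Limits AlgebraicGeometry TopologicalSpace Opposite IsLocalRing
open Groth.Agent.WeilLib (secStr)

noncomputable section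

namespace Groth.Agent.DualVar

variable {k : Type u} [Field k] [IsAlgClosed k] {r n : ℕ} {X : Scheme.{u}} {i : X ⟶ CohB1.ProjSpace r k}
  [IsClosedImmersion i] [SmoothOfRelativeDimension n (str i)] [LocallyOfFiniteType (str i)]

theorem exists_ch_cover : ∃ (m : ℕ) (C : Fin m → Ch i n), ∀ x : X, IsClosed ({x} : Set X) → ∃ j, x ∈ (C j).V.1 := by
  classical
  haveI : JacobsonSpace X := LocallyOfFiniteType.jacobsonSpace (str i)
  haveI : IsProper (CohB1.ProjSpace.toSpec r k) := ProjMor.isProper_toSpec r k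
  haveI : IsProper (str i) := inferInstance
  haveI : CompactSpace X := QuasiCompact.compactSpace_of_compactSpace (str i)
  choose C hC using fun x : closedPoints X => exists_ch (n := n) (i := i) x.2
  have hcov : (Set.univ : Set X) ⊆ ⋃ x, ((C x).V.1 : Set X) := by
    intro y _
    by_contra hy
    obtain ⟨z, hz, hzc⟩ := nonempty_inter_closedPoints (⟨y, hy⟩ : ((⋃ x, ((C x).V.1 : Set X))ᶜ).Nonempty)
      ((isOpen_iUnion fun x => (C x).V.1.isOpen).isClosed_compl.isLocallyClosed)
    exact hz (Set.mem_iUnion.2 ⟨⟨z, hzc⟩, hC ⟨z, hzc⟩⟩)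
  obtain ⟨t, ht⟩ := isCompact_univ.elim_finite_subcover _ (fun x => (C x).V.1.isOpen) hcov
  refine ⟨t.card, fun j => C (t.equivFin.symm j), fun x _ => ?_⟩
  obtain ⟨z, hz, hxz⟩ := Set.mem_iUnion₂.1 (ht (Set.mem_univ x))
  exact ⟨t.equivFin ⟨z, hz⟩, by simpa using hxz⟩

/-- The restriction of forms to a chart. -/
def Ch.hL (C : Ch i n) (d : ℕ) : letI := algV i C.V.1; LefPen.Form r k d →ₗ[k] Γ(X, C.V.1) :=
  letI := algV i C.V.1
  { toFun := hmap i C.l C.V.1 C.hV
    map_add' := hmap_add i C.l C.V.1 C.hV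
    map_smul' := fun c H => by rw [RingHom.id_apply, Algebra.smul_def]; exact hmap_smul i C.l C.V.1 C.hV c H }

/-- The jet of a form at a closed point. -/
def Ch.J (C : Ch i n) {x : X} (hx : IsClosed ({x} : Set X)) (hxV : x ∈ C.V.1) (d : ℕ) :
    LefPen.Form r k d →ₗ[k] (Option (Fin n) → k) :=
  letI := algV i C.V.1
  LinearMap.pi fun o => (C.pt hx hxV).toLinearMap ∘ₗ LinearMap.proj o ∘ₗ jet C.b ∘ₗ C.hL d

variable (C : Ch i n) {x : X} (hx : IsClosed ({x} : Set X)) (hxV : x ∈ C.V.1) {d : ℕ}

theorem Ch.J_apply (H : LefPen.Form r k d) (o : Option (Fin n)) :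
    letI := algV i C.V.1
    C.J hx hxV d H o = C.pt hx hxV (jet C.b (hmap i C.l C.V.1 C.hV H) o) := rfl

theorem Ch.J_sum (H : LefPen.Form r k d) (o : Option (Fin n)) :
    letI := algV i C.V.1
    C.J hx hxV d H o = ∑ c, co H c * C.pt hx hxV (jet C.b (C.h d c) o) := by
  letI := algV i C.V.1
  rw [C.J_apply, ← C.sum_h H, map_sum, Finset.sum_apply, map_sum]
  simp only [map_smul, Pi.smul_apply, smul_eq_mul]

theorem Ch.bad_iff_J (H : LefPen.Form r k d) : Bad i H x ↔ C.J hx hxV d H = 0 := by
  letI := algV i C.V.1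
  rw [(C.bad_iff hx hxV H).2.2, mem_sq_iff C.b, funext_iff]
  rfl

/-- Forms of positive degree have all first order jets. -/
theorem Ch.J_surjective (hd : 1 ≤ d) : Function.Surjective (C.J hx hxV d) := by
  classical
  obtain ⟨F, hxF⟩ := exists_frame (n := n) i hd hx
  have hker : LinearMap.ker (C.J hx hxV d) = LinearMap.ker (F.lmap i hx hxF) := by
    ext H
    rw [LinearMap.mem_ker, LinearMap.mem_ker, ← C.bad_iff_J, F.bad_iff_lmap i hx hxF]
  have hF : Function.Surjective (F.lmap i hx hxF) := by
    let M : Matrix (Option (Fin n)) (Option (Fin n)) k := fun o p => F.lmap i hx hxF (F.E p) o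
    have hM : IsUnit M.det := by
      have := F.inv.map (ev (str i) hx hxF)
      rw [RingHom.map_det] at this
      exact this
    intro w
    refine ⟨∑ p, (M⁻¹.mulVec w) p • F.E p, ?_⟩
    funext o
    simp only [map_sum, map_smul, Finset.sum_apply, Pi.smul_apply, smul_eq_mul]
    calc ∑ p, (M⁻¹.mulVec w) p * M o p = M.mulVec (M⁻¹.mulVec w) o := by
          simp only [Matrix.mulVec, dotProduct]
          exact Finset.sum_congr rfl fun p _ => mul_comm _ _
      _ = w o := by rw [Matrix.mulVec_mulVec, Matrix.mul_nonsing_inv M hM, Matrix.one_mulVec]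
  have h1 := LinearMap.finrank_range_add_finrank_ker (C.J hx hxV d)
  have h2 := LinearMap.finrank_range_add_finrank_ker (F.lmap i hx hxF)
  rw [hker, LinearMap.range_eq_top.2 hF, finrank_top] at *
  exact LinearMap.range_eq_top.1 (Submodule.eq_top_of_finrank_eq (by omega))

end Groth.Agent.DualVar
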