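import Groth.Agent.DualVar.Proper

/-!
# Families of linear subspaces of small dimension do not fill the space
-/

set_option autoImplicit false
set_option linter.style.haveILetI false
set_option linter.unusedSectionVars false
set_option maxHeartbeats 800000

universe u

noncomputable section

namespace Groth.Agent.DualVar

open MvPolynomial

variable {k : Type u} [Field k]

/-- A localization does not increase the dimension. -/
theorem ringKrullDim_away_le {A : Type u} [CommRing A] (a : A) :
    ringKrullDim (Localization.Away a) ≤ ringKrullDim A := by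
  refine Order.krullDim_le_of_strictMono (PrimeSpectrum.comap (algebraMap A (Localization.Away a))) ?_
  refine Monotone.strictMono_of_injective (fun p q h => Ideal.comap_mono h) ?_
  exact PrimeSpectrum.localization_comap_injective (Localization.Away a) (Submonoid.powers a)

variable {δ e N R : ℕ}

/-- The relation on one domain with an invertible minor. -/
theorem exists_poly_rank_unit {D : Type u} [CommRing D] [IsDomain D] [Algebra k D] [Algebra.FiniteType k D]
    (hD : ringKrullDim D ≤ δ) (hlt : δ + e < R) (Φ : Fin R → Fin N → D) (σ : Fin R → Fin N)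
    (hu : IsUnit (Matrix.det (fun o p => Φ o (σ p)))) (E : Fin e → Fin N → k) :
    ∃ P : MvPolynomial (Fin N) k, P ≠ 0 ∧ ∀ (ρ : D →ₐ[k] k) (v : Fin N → k) (t : Fin e → k),
      (∀ o, ∑ c, v c * ρ (Φ o c) = 0) → eval (v + ∑ q, t q • E q) P = 0 := by
  classical
  let Mx : Matrix (Fin R) (Fin R) D := fun o p => Φ o (σ p)
  obtain ⟨Minv, hMinv⟩ := (Matrix.isUnit_iff_isUnit_det Mx).2 hu |>.exists_left_inv
  have hσ : Function.Injective σ := by
    intro p q hpq
    by_contra hne
    have h0 : Matrix.det (Mx : Matrix (Fin R) (Fin R) D) = 0 :=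
      Matrix.det_zero_of_column_eq hne fun o => by show Φ o (σ p) = Φ o (σ q); rw [hpq]
    exact not_isUnit_zero (M₀ := D) (h0 ▸ (hu : IsUnit (Matrix.det Mx)))
  let U := {c : Fin N // c ∉ Finset.univ.image σ}
  let V := U ⊕ Fin e
  let f := Fintype.equivFin V
  have hcard : δ + Fintype.card V < N := by
    have h1 : Fintype.card U + R = N := by
      rw [Fintype.card_subtype_compl, Fintype.card_fin, Fintype.card_coe, Finset.card_image_of_injective _ hσ,
        Finset.card_univ, Fintype.card_fin]
      have := Fintype.card_le_of_injective σ hσ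
      simp only [Fintype.card_fin] at this
      omega
    rw [Fintype.card_sum, Fintype.card_fin]
    omega
  let vec : Fin R → MvPolynomial (Fin (Fintype.card V)) D := fun o => ∑ c : U, X (f (Sum.inl c)) * C (Φ o c.1)
  let aP : Fin R → MvPolynomial (Fin (Fintype.card V)) D := fun p => -∑ o, C (Minv p o) * vec o
  let z : Fin N → MvPolynomial (Fin (Fintype.card V)) D := fun c =>
    (if h : c ∉ Finset.univ.image σ then X (f (Sum.inl ⟨c, h⟩)) else 0) + (∑ p, if σ p = c then aP p else 0) +
      ∑ q, X (f (Sum.inr q)) * C (algebraMap k D (E q c))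
  obtain ⟨P, hP0, hP⟩ := exists_rel_of_dim (k := k) hD hcard z
  refine ⟨P, hP0, fun ρ v t hv => ?_⟩
  let y : Fin (Fintype.card V) → k := fun j => Sum.elim (fun c : U => v c.1) t (f.symm j)
  let φ : MvPolynomial (Fin (Fintype.card V)) D →+* k := eval₂Hom ρ.toRingHom y
  have hy : ∀ w, φ (X (f w)) = Sum.elim (fun c : U => v c.1) t w := fun w => by simp [φ, y]
  have hC : ∀ d, φ (C d) = ρ d := fun d => by simp [φ]
  have hvec : ∀ o, φ (vec o) = ∑ c : U, v c.1 * ρ (Φ o c.1) := fun o => by simp [vec, hy, hC]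
  have haP : ∀ p, φ (aP p) = v (σ p) := by
    intro p
    have hsplit : ∀ o, φ (vec o) = -∑ q, v (σ q) * ρ (Mx o q) := by
      intro o
      rw [hvec, eq_neg_iff_add_eq_zero, ← hv o, ← Finset.sum_add_sum_compl (Finset.univ.image σ)
        (fun c => v c * ρ (Φ o c)), Finset.sum_image hσ.injOn, add_comm]
      congr 1
      exact (Finset.sum_subtype _ (fun c => by simp) (fun c => v c * ρ (Φ o c))).symm
    simp only [aP, map_neg, map_sum, map_mul, hC, hsplit, mul_neg, Finset.sum_neg_distrib, neg_neg, Finset.mul_sum]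
    rw [Finset.sum_comm]
    have h1 : ∀ q, ∑ o, ρ (Minv p o) * (v (σ q) * ρ (Mx o q)) = v (σ q) * ρ ((Minv * Mx) p q) := fun q => by
      rw [Matrix.mul_apply, map_sum, Finset.mul_sum]
      exact Finset.sum_congr rfl fun o _ => by rw [map_mul]; ring
    simp only [h1, hMinv, Matrix.one_apply, apply_ite, map_one, map_zero, mul_one, mul_zero]
    simp
  have hz : (fun c => φ (z c)) = v + ∑ q, t q • E q := by
    funext c
    simp only [z, map_add, map_sum, map_mul, hy, hC, apply_ite φ, map_zero, haP, Sum.elim_inr, AlgHom.commutes,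
      Algebra.algebraMap_self, RingHom.id_apply, Pi.add_apply, Finset.sum_apply, Pi.smul_apply, smul_eq_mul]
    congr 1
    by_cases h : c ∈ Finset.univ.image σ
    · obtain ⟨p, -, rfl⟩ := Finset.mem_image.1 h
      rw [dif_neg (fun hh => hh h), map_zero, zero_add, Finset.sum_eq_single p (fun q _ hq => if_neg (hσ.ne hq)) (by simp),
        if_pos rfl]
    · rw [dif_pos h, hy, Sum.elim_inl, Finset.sum_eq_zero (fun p _ => if_neg fun (hp : σ p = c) => h (hp ▸ Finset.mem_image_of_mem σ (Finset.mem_univ p))),
        add_zero]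
  have h := congrArg φ hP
  rw [map_zero, aeval_def, eval₂_comp_left φ] at h
  have hk : φ.comp (algebraMap k (MvPolynomial (Fin (Fintype.card V)) D)) = RingHom.id k := RingHom.ext fun c => by
    rw [RingHom.comp_apply, IsScalarTower.algebraMap_apply k D (MvPolynomial (Fin (Fintype.card V)) D),
      MvPolynomial.algebraMap_eq, hC, AlgHom.commutes]
    rfl
  rw [hk, show (⇑φ ∘ z) = v + ∑ q, t q • E q from hz] at h
  exact h

/-- The relation on a finite type algebra, at the points of full rank. -/
theorem exists_poly_rank {A : Type u} [CommRing A] [Algebra k A] [Algebra.FiniteType k A] (hA : ringKrullDim A ≤ δ)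
    (hlt : δ + e < R) (Φ : Fin R → Fin N → A) (E : Fin e → Fin N → k) :
    ∃ P : MvPolynomial (Fin N) k, P ≠ 0 ∧ ∀ (ρ : A →ₐ[k] k) (v : Fin N → k) (t : Fin e → k),
      (∀ w : Fin R → k, ∃ u : Fin N → k, ∀ o, ∑ c, u c * ρ (Φ o c) = w o) →
        (∀ o, ∑ c, v c * ρ (Φ o c) = 0) → eval (v + ∑ q, t q • E q) P = 0 := by
  classical
  haveI : IsNoetherianRing A := Algebra.FiniteType.isNoetherianRing k A
  have hfin : (minimalPrimes A).Finite := minimalPrimes.finite_of_isNoetherianRing A
  have key : ∀ (x : minimalPrimes A × (Fin R → Fin N)), ∃ P : MvPolynomial (Fin N) k, P ≠ 0 ∧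
      ∀ (ρ : A →ₐ[k] k) (v : Fin N → k) (t : Fin e → k), x.1.1 ≤ RingHom.ker ρ →
        ρ (Matrix.det (fun o p => Φ o (x.2 p))) ≠ 0 → (∀ o, ∑ c, v c * ρ (Φ o c) = 0) →
          eval (v + ∑ q, t q • E q) P = 0 := by
    rintro ⟨⟨q, hq⟩, σ⟩
    haveI : q.IsPrime := Ideal.minimalPrimes_isPrime hq
    let g := Ideal.Quotient.mk q (Matrix.det (fun o p => Φ o (σ p)))
    by_cases hg : g = 0
    · exact ⟨1, one_ne_zero, fun ρ v t hle hne => absurd (hle (Ideal.Quotient.eq_zero_iff_mem.1 hg)) hne⟩
    haveI : IsDomain (Localization.Away g) :=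
      IsLocalization.isDomain_localization (powers_le_nonZeroDivisors_of_noZeroDivisors hg)
    let ι : A →ₐ[k] Localization.Away g :=
      (IsScalarTower.toAlgHom k (A ⧸ q) (Localization.Away g)).comp (Ideal.Quotient.mkₐ k q)
    haveI : Algebra.FiniteType (A ⧸ q) (Localization.Away g) := IsLocalization.finiteType_of_monoid_fg (Submonoid.powers g) _
    haveI : Algebra.FiniteType k (A ⧸ q) :=
      Algebra.FiniteType.of_surjective (Ideal.Quotient.mkₐ k q) (Ideal.Quotient.mkₐ_surjective k q)
    haveI : Algebra.FiniteType k (Localization.Away g) := Algebra.FiniteType.trans (S := A ⧸ q) inferInstance inferInstance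
    have hdim : ringKrullDim (Localization.Away g) ≤ δ :=
      (ringKrullDim_away_le g).trans ((ringKrullDim_quotient_le q).trans hA)
    have hu : IsUnit (Matrix.det (fun o p => ι (Φ o (σ p)))) := by
      rw [show (fun o p => ι (Φ o (σ p))) = ι.mapMatrix (fun o p => Φ o (σ p)) from rfl, ← AlgHom.map_det]
      exact IsLocalization.Away.algebraMap_isUnit g
    obtain ⟨P, hP0, hP⟩ := exists_poly_rank_unit hdim hlt (fun o c => ι (Φ o c)) σ hu E
    refine ⟨P, hP0, fun ρ v t hle hne hv => ?_⟩
    let ρq : A ⧸ q →ₐ[k] k := Ideal.Quotient.liftₐ q ρ hle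
    have hgu : IsUnit (ρq g) := isUnit_iff_ne_zero.2 hne
    let ρL : Localization.Away g →ₐ[k] k := IsLocalization.liftAlgHom (M := Submonoid.powers g) (f := ρq)
      (fun y => by obtain ⟨_, j, rfl⟩ := y; exact (map_pow ρq g j) ▸ hgu.pow j)
    refine hP ρL v t fun o => ?_
    rw [← hv o]
    refine Finset.sum_congr rfl fun c _ => ?_
    congr 1
    show IsLocalization.lift _ (algebraMap (A ⧸ q) (Localization.Away g) (Ideal.Quotient.mk q (Φ o c))) = _
    rw [IsLocalization.lift_eq]
    rfl
  choose P hP0 hP using key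
  haveI := hfin.fintype
  refine ⟨∏ x, P x, Finset.prod_ne_zero_iff.2 fun x _ => hP0 x, fun ρ v t hsurj hv => ?_⟩
  haveI : (RingHom.ker ρ).IsPrime := RingHom.ker_isPrime _
  obtain ⟨q, hq, hqle⟩ := Ideal.exists_minimalPrimes_le (I := (⊥ : Ideal A)) (J := RingHom.ker ρ) bot_le
  let L : (Fin N → k) →ₗ[k] (Fin R → k) :=
    { toFun := fun u o => ∑ c, u c * ρ (Φ o c)
      map_add' := fun u u' => funext fun o => by simp [add_mul, Finset.sum_add_distrib]
      map_smul' := fun a u => funext fun o => by simp [Finset.mul_sum, mul_assoc] }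
  have hL : Function.Surjective L := fun w => by obtain ⟨u, hu⟩ := hsurj w; exact ⟨u, funext hu⟩
  obtain ⟨σ, hσ⟩ : ∃ σ : Fin R → Fin N, ρ (Matrix.det (fun o p => Φ o (σ p))) ≠ 0 := by
    have hspan : Submodule.span k (Set.range fun c => L (Pi.single c 1)) = ⊤ := by
      rw [eq_top_iff]
      intro w _
      obtain ⟨u, rfl⟩ := hL w
      rw [pi_eq_sum_univ' u, map_sum]
      exact Submodule.sum_mem _ fun c _ => by
        rw [map_smul]; exact Submodule.smul_mem _ _ (Submodule.subset_span ⟨c, rfl⟩)
    obtain ⟨s, hs, hsspan, hli⟩ := exists_linearIndependent k (Set.range fun c => L (Pi.single c 1))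
    rw [hspan] at hsspan
    let bs := Module.Basis.mk hli (by rw [Subtype.range_coe]; exact hsspan.ge)
    haveI : Fintype s := ((Set.finite_range _).subset hs).fintype
    have hc : Fintype.card s = R := by
      rw [← Module.finrank_eq_card_basis bs, Module.finrank_fin_fun]
    choose τ hτ using fun w : s => hs w.2
    let eq' := (Fintype.equivFinOfCardEq hc).symm
    refine ⟨fun p => τ (eq' p), ?_⟩
    rw [AlgHom.map_det]
    have : (ρ.mapMatrix fun o p => Φ o (τ (eq' p))) = Matrix.transpose (fun p o => (eq' p).1 o) := by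
      ext o p
      rw [Matrix.transpose_apply, AlgHom.mapMatrix_apply, Matrix.map_apply, ← hτ (eq' p)]
      simp [L, Pi.single_apply]
    rw [this, Matrix.det_transpose]
    refine IsUnit.ne_zero ((Matrix.isUnit_iff_isUnit_det _).1 (Matrix.linearIndependent_rows_iff_isUnit.1 ?_))
    exact hli.comp eq' eq'.injective
  rw [map_prod]
  exact Finset.prod_eq_zero (Finset.mem_univ (⟨q, hq⟩, σ)) (hP (⟨q, hq⟩, σ) ρ v t hqle hσ hv)

end Groth.Agent.DualVar
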