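import Groth.Agent.DualVar.Jet2
import Groth.Agent.DualVar.RankDim
import Groth.Agent.DualVar.Jets

/-!
# Degenerate second order terms are special among the forms singular at a point
-/

set_option autoImplicit false
set_option linter.style.haveILetI false
set_option linter.unusedSectionVars false
set_option backward.isDefEq.respectTransparency false
set_option backward.isDefEq.respectTransparency.types false

universe u

open CategoryTheory CategoryTheory.Limits AlgebraicGeometry TopologicalSpace Opposite IsLocalRing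
open Groth.Agent.WeilLib (secStr)

noncomputable section

namespace Groth.Agent.DualVar

variable {k : Type u} [Field k] {N : ℕ}

local notation "PS" => MvPowerSeries (Fin N) k

theorem coord_mem_sq {A : Type u} [CommRing A] [Algebra k A] {ρ : A →ₐ[k] k} {ψ : A →ₐ[k] PS} (hC : Coord ρ ψ)
    {z : A} (hz : z ∈ RingHom.ker ρ ^ 2) : ψ z ∈ maximalIdeal PS ^ 2 := by
  have hle : (RingHom.ker ρ).map ψ ≤ maximalIdeal PS := by
    refine Ideal.map_le_iff_le_comap.2 fun a ha => ?_
    rw [Ideal.mem_comap, QuadSingJac.mem_max_iff, hC.const]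
    exact ha
  have := Ideal.mem_map_of_mem ψ hz
  rw [Ideal.map_pow] at this
  exact Ideal.pow_right_mono hle 2 this

theorem Qf_sum_smul {K : Type u} [Field K] [Algebra k K] (v : Fin N → K) {ι : Type} [Fintype ι] (s : ι → k)
    (g : ι → PS) : Qf v (∑ c, s c • g c) = ∑ c, algebraMap k K (s c) * Qf v (g c) := by
  simp only [Qf, map_sum]
  refine Finset.sum_congr rfl fun c _ => ?_
  rw [Algebra.smul_def, map_mul, AlgHom.commutes, IsScalarTower.algebraMap_apply k K (PowerSeries K),
    PowerSeries.algebraMap_eq, PowerSeries.coeff_C_mul]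

variable [IsAlgClosed k] {r d n : ℕ} {X : Scheme.{u}} {i : X ⟶ CohB1.ProjSpace r k}
  [IsClosedImmersion i] [SmoothOfRelativeDimension n (str i)] [LocallyOfFiniteType (str i)]

/-- The degenerate forms singular at a point lie on a hypersurface among these. -/
theorem Ch.exists_poly_deg (C : Ch i n) (hn : 1 ≤ n) (hd : 2 ≤ d) {x : X} (hx : IsClosed ({x} : Set X))
    (hxV : x ∈ C.V.1) {N' : ℕ} (bs : Fin N' → LefPen.Form r k d) (hbs : ∀ c, Bad i (bs c) x)
    (hspan : ∀ H : LefPen.Form r k d, Bad i H x → ∃ s : Fin N' → k, H = ∑ c, s c • bs c) :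
    letI := algV i C.V.1
    ∀ ψ : Γ(X, C.V.1) →ₐ[k] MvPowerSeries (Fin n) k, Coord (C.pt hx hxV) ψ →
      ∃ P : MvPolynomial (Fin N') k, P ≠ 0 ∧ ∀ s : Fin N' → k,
        Deg k (ψ (hmap i C.l C.V.1 C.hV (∑ c, s c • bs c))) → MvPolynomial.eval s P = 0 := by
  classical
  obtain ⟨m, rfl⟩ : ∃ m, n = m + 1 := ⟨n - 1, by omega⟩
  letI := algV i C.V.1
  intro ψ hC
  let g : Fin N' → MvPowerSeries (Fin (m + 1)) k := fun c => ψ (hmap i C.l C.V.1 C.hV (bs c))
  have hg : ∀ c, g c ∈ maximalIdeal (MvPowerSeries (Fin (m + 1)) k) ^ 2 := fun c =>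
    coord_mem_sq hC ((C.bad_iff hx hxV (bs c)).2.2.1 (hbs c))
  have hsum : ∀ s : Fin N' → k, ψ (hmap i C.l C.V.1 C.hV (∑ c, s c • bs c)) = ∑ c, s c • g c := by
    intro s
    show ψ (C.hL d (∑ c, s c • bs c)) = _
    simp only [map_sum, map_smul]
    rfl
  have hsum2 : ∀ s : Fin N' → k, ∑ c, s c • g c ∈ maximalIdeal (MvPowerSeries (Fin (m + 1)) k) ^ 2 := fun s =>
    Ideal.sum_mem _ fun c _ => by rw [Algebra.smul_def]; exact Ideal.mul_mem_left _ _ (hg c)
  choose q hq hqg using fun c => exists_quadPart (g c)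
  have hQ : ∀ (v : Fin (m + 1) → k) c, Qf v (g c) = MvPolynomial.aeval v (q c) := fun v c => Qf_eq_aeval v (hg c) (hq c) (hqg c)
  choose e he using hC.surj
  have hemax : ∀ l, e l ∈ RingHom.ker (C.pt hx hxV) := fun l => by
    have := (QuadSingJac.mem_max_iff _).1 (Ideal.pow_le_self two_ne_zero (he l))
    rw [map_sub, MvPowerSeries.constantCoeff_X, sub_zero, hC.const] at this
    exact this
  have key : ∀ j : Fin (m + 1), ∃ P : MvPolynomial (Fin N') k, P ≠ 0 ∧ ∀ (v : Fin (m + 1) → k) (s : Fin N' → k),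
      v j = 1 → Qf v (∑ c, s c • g c) = 0 → (∀ u, pol v u (∑ c, s c • g c) = 0) → MvPolynomial.eval s P = 0 := by
    intro j
    let A := MvPolynomial (Fin m) k
    let xv : Fin (m + 1) → A := Fin.insertNth j (1 : A) MvPolynomial.X
    let E : Fin (m + 1) → Fin (m + 1) → A := fun o => Pi.single o 1
    let Φ : Fin (m + 1) → Fin N' → A := fun o c =>
      if o = j then MvPolynomial.aeval xv (q c)
      else MvPolynomial.aeval (xv + E o) (q c) - MvPolynomial.aeval xv (q c) - MvPolynomial.aeval (E o) (q c)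
    have hA : ringKrullDim A ≤ (m : ℕ) := by
      rw [MvPolynomial.ringKrullDim_of_isNoetherianRing, ringKrullDim_eq_zero_of_field]
      simp
    obtain ⟨P, hP0, hP⟩ := exists_poly_rank (k := k) (e := 0) hA (R := m + 1) (by omega) Φ (fun a => a.elim0)
    refine ⟨P, hP0, fun v s hvj hv hp => ?_⟩
    let ρ : A →ₐ[k] k := MvPolynomial.aeval fun a => v (j.succAbove a)
    have hxv : (fun l => ρ (xv l)) = v := funext fun l => by
      refine Fin.succAboveCases j ?_ (fun a => ?_) l
      · simp [xv, hvj]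
      · simp [xv, ρ]
        exact MvPolynomial.aeval_X _ _
    have hE : ∀ o, (fun l => ρ (E o l)) = Pi.single o 1 := fun o => funext fun l => by
      by_cases h : l = o <;> simp [E, h]
    have hΦ : ∀ o c, ρ (Φ o c) = if o = j then Qf v (g c) else pol v (Pi.single o 1) (g c) := by
      intro o c
      by_cases h : o = j
      · simp only [Φ, if_pos h]
        rw [MvPolynomial.comp_aeval_apply, hxv, hQ]
      · simp only [Φ, if_neg h, map_sub]
        simp only [MvPolynomial.comp_aeval_apply, pol, hQ, Pi.add_apply, map_add, hE]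
        congr 4
        · exact funext fun l => by rw [Pi.add_apply]; exact congrArg₂ (· + ·) (congrFun hxv l) (congrFun (hE o) l)
    have h := hP ρ s (fun a => a.elim0) (fun w => ?_) fun o => ?_
    · simpa using h
    · let a := fun o => if o = j then 0 else w o
      let z : Γ(X, C.V.1) := w j • (e j * e j) + ∑ o, a o • (e j * e o - v o • (e j * e j))
      have hee : ∀ a b, e a * e b ∈ RingHom.ker (C.pt hx hxV) ^ 2 := fun a b => by
        rw [_root_.sq]; exact Ideal.mul_mem_mul (hemax a) (hemax b)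
      have hsm : ∀ (t : k) {y : Γ(X, C.V.1)}, y ∈ RingHom.ker (C.pt hx hxV) ^ 2 →
          t • y ∈ RingHom.ker (C.pt hx hxV) ^ 2 := fun t y hy => by
        rw [Algebra.smul_def]; exact Ideal.mul_mem_left _ _ hy
      have hz : z ∈ RingHom.ker (C.pt hx hxV) ^ 2 :=
        add_mem (hsm _ (hee j j)) (Ideal.sum_mem _ fun o _ => hsm _ (sub_mem (hee j o) (hsm _ (hee j j))))
      obtain ⟨H, hH, hHz⟩ := C.exists_form_sq hd hx hxV ψ hC z hz
      obtain ⟨u, rfl⟩ := hspan H hH
      rw [hsum] at hHz
      refine ⟨u, fun o => ?_⟩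
      have hlin : ∀ (p : Fin (m + 1) → k) (l : Fin (m + 1)), lin p (ψ (e l)) = p l := fun p l =>
        hC.lin_self p (e l) l (he l)
      have hemx : ∀ l, ψ (e l) ∈ maximalIdeal (MvPowerSeries (Fin (m + 1)) k) := fun l => by
        rw [QuadSingJac.mem_max_iff, hC.const]; exact hemax l
      have hQz : ∀ p, Qf p (∑ c, u c • g c) = w j * (p j * p j) + ∑ o, a o * (p j * p o - v o * (p j * p j)) := by
        intro p
        have h3 := coeff_evl_of_mem_pow p _ 3 2 (by norm_num) hHz
        rw [map_sub, map_sub, sub_eq_zero] at h3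
        rw [Qf, h3]
        simp only [z, map_add, map_sum, map_sub, map_smul]
        simp only [show ∀ x y, PowerSeries.coeff 2 (evl p (ψ (e x * e y))) = p x * p y from fun x y => by
          rw [map_mul ψ, ← hlin p x, ← hlin p y]; exact Qf_mul p (hemx x) (hemx y), smul_eq_mul]
      have hQu : Qf v (∑ c, u c • g c) = w j := by
        rw [hQz, hvj]
        simp
      by_cases ho : o = j
      · subst ho
        simp only [hΦ, if_pos]
        rw [← hQu, Qf_sum_smul]
        rfl
      · simp only [hΦ, if_neg ho]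
        have : pol v (Pi.single o 1) (∑ c, u c • g c) = w o := by
          have hso : (Pi.single o (1 : k) : Fin (m + 1) → k) j = 0 := Pi.single_eq_of_ne (Ne.symm ho) _
          have h1 : Qf (v + Pi.single o 1) (∑ c, u c • g c) = w j + w o := by
            rw [hQz, Pi.add_apply, hso, add_zero, hvj, Finset.sum_eq_single o (fun l _ hl => ?_) (by simp)]
            · simp [a, ho]
            · simp [hl]
          have h2 : Qf (Pi.single o (1 : k)) (∑ c, u c • g c) = 0 := by
            rw [hQz, hso]; simp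
          rw [pol, h1, h2, hQu]
          ring
        rw [← this]
        simp only [pol, Qf_sum_smul, ← Finset.sum_sub_distrib, mul_sub]
        rfl
    · simp only [hΦ]
      by_cases ho : o = j
      · simp only [if_pos ho]
        rw [← hv, Qf_sum_smul]
        rfl
      · simp only [if_neg ho]
        rw [← hp (Pi.single o 1)]
        simp only [pol, Qf_sum_smul, ← Finset.sum_sub_distrib, mul_sub]
        rfl
  choose P hP0 hP using key
  refine ⟨∏ j, P j, Finset.prod_ne_zero_iff.2 fun j _ => hP0 j, fun s hs => ?_⟩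
  rw [hsum] at hs
  obtain ⟨v, hv, hQv, hpv⟩ := hs
  obtain ⟨j, hj⟩ := Function.ne_iff.1 hv
  rw [map_prod]
  refine Finset.prod_eq_zero (Finset.mem_univ j) (hP j ((v j)⁻¹ • v) s ?_ ?_ fun u => ?_)
  · simp [inv_mul_cancel₀ hj]
  · rw [Qf_smul _ (hsum2 s), hQv, mul_zero]
  · rw [pol_smul_left _ (hsum2 s), hpv, mul_zero]

end Groth.Agent.DualVar
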