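import Groth.Agent.DualVar.Points
import Groth.Agent.DualVar.DegLocus

/-!
# Quadrics singular at two points, when the linear forms singular at one of them vanish identically
-/

set_option autoImplicit false
set_option linter.style.haveILetI false
set_option linter.unusedSectionVars false
set_option backward.isDefEq.respectTransparency false
set_option backward.isDefEq.respectTransparency.types false

universe u

open CategoryTheory CategoryTheory.Limits AlgebraicGeometry TopologicalSpace Opposite IsLocalRing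
open Groth.Agent.WeilLib (secStr)

noncomputable section

namespace Groth.Agent.DualVar

variable {k : Type u} [Field k] [IsAlgClosed k] {r n : ℕ} {X : Scheme.{u}} {i : X ⟶ CohB1.ProjSpace r k}
  [IsClosedImmersion i] [SmoothOfRelativeDimension n (str i)] [LocallyOfFiniteType (str i)]

omit [IsAlgClosed k] in
theorem pm_one_bilin {r : ℕ} (a b : k) (u m m' : LefPen.Form r k 1) :
    pm 1 (m + a • u) (m' + b • u) = pm 1 m m' + (pm 1 u (b • m + a • m')) + (a * b) • pm 1 u u := by
  refine Subtype.ext ?_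
  simp only [pm, pow_one, Submodule.coe_add, Submodule.coe_smul, MvPolynomial.smul_eq_C_mul, map_mul]
  ring

omit [IsAlgClosed k] in
theorem form2_span (r : ℕ) : Submodule.span k
    (Set.range fun p : Fin (r + 1) × Fin (r + 1) => pm (k := k) 1 (X1 p.1) (X1 p.2)) = ⊤ := by
  classical
  refine eq_top_iff.2 fun G _ => ?_
  have hdeg : ∀ e ∈ G.1.support, e.degree = 2 := fun e he =>
    ((MvPolynomial.mem_homogeneousSubmodule 2 _).1 G.2).degree_eq_sum_deg_support he ▸ rfl
  choose a b hab using fun e : G.1.support => exists_single_add_single (hdeg e.1 e.2)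
  have hG : G = ∑ e : G.1.support, MvPolynomial.coeff e.1 G.1 • pm 1 (X1 (a e)) (X1 (b e)) := by
    refine Subtype.ext ?_
    rw [Submodule.coe_sum]
    conv_lhs => rw [G.1.as_sum, ← Finset.sum_coe_sort]
    refine Finset.sum_congr rfl fun e _ => ?_
    simp only [Submodule.coe_smul, pm, X1, pow_one, MvPolynomial.X, MvPolynomial.monomial_mul, mul_one,
      MvPolynomial.smul_monomial, ← hab e]
    simp
  rw [hG]
  exact Submodule.sum_mem _ fun e _ => Submodule.smul_mem _ _ (Submodule.subset_span ⟨(a e, b e), rfl⟩)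

theorem deg_of_all_vanish (C₀ C : Ch i n) {x y : X} (hx : IsClosed ({x} : Set X)) (hxV : x ∈ C₀.V.1)
    (hy : IsClosed ({y} : Set X)) (hyV : y ∈ C.V.1) (hne : y ≠ x)
    (hann : ∀ μ : LefPen.Form r k 1, Bad i μ x →
      hmap i C₀.l C₀.V.1 C₀.hV μ = 0 ∧ hmap i C.l C.V.1 C.hV μ = 0)
    (H : LefPen.Form r k (1 + 1)) (hHx : Bad i H x) (hHy : Bad i H y) :
    letI := algV i C₀.V.1
    ∀ ψ : Γ(X, C₀.V.1) →ₐ[k] MvPowerSeries (Fin n) k, Coord (C₀.pt hx hxV) ψ →
      Deg k (ψ (hmap i C₀.l C₀.V.1 C₀.hV H)) := by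
  classical
  letI := algV i C₀.V.1
  letI := algV i C.V.1
  intro ψ hC
  let u := X1 (k := k) C₀.l
  let Q2 : Submodule k (LefPen.Form r k (1 + 1)) := Submodule.span k {G | ∃ m m' : LefPen.Form r k 1,
    C₀.J hx hxV 1 m none = 0 ∧ C₀.J hx hxV 1 m' none = 0 ∧ G = pm 1 m m'}
  have hu : C₀.J hx hxV 1 u none = 1 := C₀.J_X1_self hx hxV
  -- decomposition
  have hdec : ∀ G : LefPen.Form r k (1 + 1), ∃ Q ∈ Q2, ∃ (w : LefPen.Form r k 1) (a : k),
      C₀.J hx hxV 1 w none = 0 ∧ G = Q + pm 1 u w + a • pm 1 u u := by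
    intro G
    have hmem : G ∈ Submodule.span k
        (Set.range fun p : Fin (r + 1) × Fin (r + 1) => pm (k := k) 1 (X1 p.1) (X1 p.2)) := by
      rw [form2_span]; trivial
    induction hmem using Submodule.span_induction with
    | mem G hG =>
      obtain ⟨⟨a, b⟩, rfl⟩ := hG
      let ca := C₀.J hx hxV 1 (X1 a) none
      let cb := C₀.J hx hxV 1 (X1 b) none
      have hma : C₀.J hx hxV 1 (X1 a - ca • u) none = 0 := by simp [ca, hu]
      have hmb : C₀.J hx hxV 1 (X1 b - cb • u) none = 0 := by simp [cb, hu]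
      refine ⟨_, Submodule.subset_span ⟨_, _, hma, hmb, rfl⟩, cb • (X1 a - ca • u) + ca • (X1 b - cb • u), ca * cb,
        by simp [hma, hmb, ca, cb, hu], ?_⟩
      rw [← pm_one_bilin, sub_add_cancel, sub_add_cancel]
    | zero =>
      refine ⟨0, zero_mem _, 0, 0, by simp, Subtype.ext ?_⟩
      simp [pm]
    | add G G' _ _ ih ih' =>
      obtain ⟨Q, hQ, w, a, hw, rfl⟩ := ih
      obtain ⟨Q', hQ', w', a', hw', rfl⟩ := ih'
      refine ⟨Q + Q', add_mem hQ hQ', w + w', a + a', by simp [hw, hw'], Subtype.ext ?_⟩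
      simp only [pm, pow_one, Submodule.coe_add, Submodule.coe_smul, MvPolynomial.smul_eq_C_mul, map_add]
      ring
    | smul c G _ ih =>
      obtain ⟨Q, hQ, w, a, hw, rfl⟩ := ih
      refine ⟨c • Q, Q2.smul_mem c hQ, c • w, c * a, by simp [hw], Subtype.ext ?_⟩
      simp only [pm, pow_one, Submodule.coe_add, Submodule.coe_smul, MvPolynomial.smul_eq_C_mul, map_mul]
      ring
  obtain ⟨Q, hQ, w, a, hw, hH⟩ := hdec H
  have hQJ : ∀ o, C₀.J hx hxV (1 + 1) Q o = 0 := by
    intro o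
    clear hH
    induction hQ using Submodule.span_induction with
    | mem z hz =>
      obtain ⟨m, m', hm, hm', rfl⟩ := hz
      rcases o with _ | l
      · simp [C₀.J_pm_none, hm]
      · simp [C₀.J_pm_some, hm, hm']
    | zero => simp
    | add z z' _ _ ih ih' => simp only [map_add, Pi.add_apply, ih, ih', add_zero]
    | smul c z _ ih => simp only [map_smul, Pi.smul_apply, ih, smul_zero]
  have ha : a = 0 := by
    have := congrFun ((C₀.bad_iff_J hx hxV H).1 hHx) none
    simpa [hH, hQJ, C₀.J_pm_none, hw, hu] using this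
  subst ha
  have hwB : Bad i w x := (C₀.bad_iff_J hx hxV w).2 (funext fun o => by
    rcases o with _ | l
    · exact hw
    · have := congrFun ((C₀.bad_iff_J hx hxV H).1 hHx) (some l)
      simpa [hH, hQJ, C₀.J_pm_some, hw, hu] using this)
  have hHQ : ∀ (C' : Ch i n), hmap i C'.l C'.V.1 C'.hV w = 0 →
      hmap i C'.l C'.V.1 C'.hV H = hmap i C'.l C'.V.1 C'.hV Q := by
    intro C' h0
    rw [hH, zero_smul, add_zero, hmap_add, hmap_pm, h0, mul_zero, add_zero]
  have hQy : C.J hy hyV (1 + 1) Q = 0 := by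
    rw [← (C.bad_iff_J hy hyV H).1 hHy]
    funext o
    rw [C.J_apply, C.J_apply, hHQ C (hann w hwB).2]
  rw [hHQ C₀ (hann w hwB).1]
  -- the vector towards the other point
  obtain ⟨s₀, hs₀⟩ := (C₀.J hx hxV 1).exists_rightInverse_of_surjective
    (LinearMap.range_eq_top.2 (C₀.J_surjective hx hxV le_rfl))
  obtain ⟨sy, hsy⟩ := (C.J hy hyV 1).exists_rightInverse_of_surjective
    (LinearMap.range_eq_top.2 (C.J_surjective hy hyV le_rfl))
  let D₀ : Γ(X, C₀.V.1) →ₗ[k] (Option (Fin n) → k) := LinearMap.pi fun o => match o with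
    | none => 0
    | some l => (C₀.pt hx hxV).toLinearMap ∘ₗ dB C₀.b l
  let δ : Γ(X, C₀.V.1) →ₗ[k] k := LinearMap.proj none ∘ₗ C.J hy hyV 1 ∘ₗ s₀ ∘ₗ D₀
  obtain ⟨v, hv⟩ := hC.exists_vec δ (fun a c => by
    have : D₀ (a * c) = C₀.pt hx hxV a • D₀ c + C₀.pt hx hxV c • D₀ a := funext fun o => by
      rcases o with _ | l
      · simp [D₀]
      · simp [D₀, dB_mul]; ring
    simp only [δ, LinearMap.comp_apply, this, map_add, map_smul, Algebra.algebraMap_self, RingHom.id_apply,
      smul_eq_mul]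
    ring)
  have hlv : ∀ m : LefPen.Form r k 1, C₀.J hx hxV 1 m none = 0 →
      lin v (ψ (hmap i C₀.l C₀.V.1 C₀.hV m)) = C.J hy hyV 1 m none := by
    intro m hm
    have hD : D₀ (hmap i C₀.l C₀.V.1 C₀.hV m) = C₀.J hx hxV 1 m := funext fun o => by
      rcases o with _ | l
      · simp [D₀, hm]
      · simp [D₀, C₀.J_apply, jet_some_eq]; rfl
    rw [hv]
    show C.J hy hyV 1 (s₀ (D₀ _)) none = _
    rw [hD]
    have hB : Bad i (s₀ (C₀.J hx hxV 1 m) - m) x := (C₀.bad_iff_J hx hxV _).2 (by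
      rw [map_sub, ← LinearMap.comp_apply, hs₀]; simp)
    have h0 : C.J hy hyV 1 (s₀ (C₀.J hx hxV 1 m) - m) none = 0 := by rw [C.J_none, (hann _ hB).2, map_zero]
    rwa [map_sub, Pi.sub_apply, sub_eq_zero] at h0
  have hv0 : v ≠ 0 := by
    obtain ⟨m, hmx, hmy⟩ := exists_lin_sep C₀ C hx hxV hy hyV hne
    intro h0
    have := hlv m hmx
    rw [h0, hmy] at this
    simp [lin_eq_sum] at this
  -- the kernels of the jets agree
  have hker : LinearMap.ker (C₀.J hx hxV 1) = LinearMap.ker (C.J hy hyV 1) := by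
    refine Submodule.eq_of_le_of_finrank_le (fun μ hμ => ?_) ?_
    · refine LinearMap.mem_ker.2 (funext fun o => ?_)
      rw [C.J_apply, (hann μ ((C₀.bad_iff_J hx hxV μ).2 hμ)).2]
      simp
    · have h1 := LinearMap.finrank_range_add_finrank_ker (C₀.J hx hxV 1)
      have h2 := LinearMap.finrank_range_add_finrank_ker (C.J hy hyV 1)
      rw [LinearMap.range_eq_top.2 (C₀.J_surjective hx hxV le_rfl)] at h1
      rw [LinearMap.range_eq_top.2 (C.J_surjective hy hyV le_rfl)] at h2
      omega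
  have hmax : ∀ m : LefPen.Form r k 1, C₀.J hx hxV 1 m none = 0 →
      ψ (hmap i C₀.l C₀.V.1 C₀.hV m) ∈ maximalIdeal (MvPowerSeries (Fin n) k) := fun m hm => by
    rw [QuadSingJac.mem_max_iff, hC.const]; exact hm
  let G (z : LefPen.Form r k (1 + 1)) : MvPowerSeries (Fin n) k := ψ (hmap i C₀.l C₀.V.1 C₀.hV z)
  have key : ∀ (u' : Fin n → k), ∃ ν : (Option (Fin n) → k) →ₗ[k] k, ∀ z ∈ Q2,
      Qf v (G z) = C.J hy hyV (1 + 1) z none ∧
      pol v u' (G z) = ν (C.J hy hyV (1 + 1) z) + ν (Pi.single none 1) * C.J hy hyV (1 + 1) z none := by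
    intro u'
    let ν : (Option (Fin n) → k) →ₗ[k] k :=
      PowerSeries.coeff (R := k) 1 ∘ₗ (evl u').toLinearMap ∘ₗ ψ.toLinearMap ∘ₗ C₀.hL 1 ∘ₗ sy
    have hν : ∀ m, ν (C.J hy hyV 1 m) = lin u' (ψ (hmap i C₀.l C₀.V.1 C₀.hV m)) := by
      intro m
      have hB : Bad i (sy (C.J hy hyV 1 m) - m) x := (C₀.bad_iff_J hx hxV _).2 (by
        rw [← LinearMap.mem_ker, hker, LinearMap.mem_ker, map_sub, ← LinearMap.comp_apply, hsy]; simp)
      have h0 : C₀.hL 1 (sy (C.J hy hyV 1 m) - m) = 0 := (hann _ hB).1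
      rw [map_sub, sub_eq_zero] at h0
      show PowerSeries.coeff 1 (evl u' (ψ (C₀.hL 1 (sy (C.J hy hyV 1 m))))) = _
      rw [h0]
      rfl
    refine ⟨ν, fun z hz => ?_⟩
    induction hz using Submodule.span_induction with
    | mem z hz =>
      obtain ⟨m, m', hm, hm', rfl⟩ := hz
      have hg : G (pm 1 m m') = ψ (hmap i C₀.l C₀.V.1 C₀.hV m) * ψ (hmap i C₀.l C₀.V.1 C₀.hV m') := by
        simp only [G, hmap_pm, pow_one, map_mul]
      have hJ : C.J hy hyV (1 + 1) (pm 1 m m') = C.J hy hyV 1 m none • C.J hy hyV 1 m' +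
          C.J hy hyV 1 m' none • C.J hy hyV 1 m - (C.J hy hyV 1 m none * C.J hy hyV 1 m' none) • Pi.single none 1 := by
        funext o
        rcases o with _ | l
        · simp [C.J_pm_none]; ring
        · simp [C.J_pm_some]
      rw [hg, Qf_mul _ (hmax m hm) (hmax m' hm'), pol_mul _ _ (hmax m hm) (hmax m' hm'), hlv m hm, hlv m' hm', hJ,
        map_sub, map_add, map_smul, map_smul, map_smul, hν, hν]
      refine ⟨?_, ?_⟩
      · simp; ring
      · simp; ring
    | zero => simp [G, show hmap i C₀.l C₀.V.1 C₀.hV (0 : LefPen.Form r k (1 + 1)) = 0 from map_zero (C₀.hL _), Qf, pol]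
    | add z z' _ _ ih ih' =>
      have hg : G (z + z') = G z + G z' := by simp only [G, hmap_add, map_add]
      rw [hg, Qf_add, pol_add, ih.1, ih.2, ih'.1, ih'.2, map_add, map_add, Pi.add_apply]
      exact ⟨rfl, by ring⟩
    | smul c z _ ih =>
      have hg : ∀ p : Fin n → k, Qf p (G (c • z)) = c * Qf p (G z) := fun p => by
        show PowerSeries.coeff 2 (evl p (ψ (C₀.hL _ (c • z)))) = _
        rw [map_smul, map_smul, map_smul, map_smul, smul_eq_mul]
        rfl
      rw [map_smul, map_smul, Pi.smul_apply, smul_eq_mul, smul_eq_mul, hg]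
      refine ⟨by rw [ih.1], ?_⟩
      simp only [pol] at ih ⊢
      rw [hg, hg, hg]
      linear_combination c * ih.2
  refine ⟨v, hv0, ?_, fun u' => ?_⟩
  · obtain ⟨ν, hν⟩ := key 0
    rw [(hν Q hQ).1, hQy]; rfl
  · obtain ⟨ν, hν⟩ := key u'
    rw [(hν Q hQ).2, hQy]; simp

end Groth.Agent.DualVar
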