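import Groth.Agent.DualVar.Hess
import Groth.Agent.Cohen2.Regular
import Groth.Agent.FlatDepth.Quot
import Groth.Agent.AdicBasics.Dimension
import Groth.Agent.EGA41SymGr.Model

/-!
# Second order models of a regular local ring, ordinary quadratic points of its hypersurfaces
-/

set_option autoImplicit false
set_option linter.style.haveILetI false
set_option linter.unusedSectionVars false
set_option backward.isDefEq.respectTransparency false
set_option backward.isDefEq.respectTransparency.types false

universe u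

open IsLocalRing

noncomputable section

namespace Groth.Agent.DualVar

/-- A map to power series with the same jets at the closed point, completing hypersurface sections. -/
structure LocalModel (k R : Type u) [Field k] [CommRing R] [IsLocalRing R] [Algebra k R] (N : ℕ) where
  /-- the map -/
  j : R →ₐ[k] MvPowerSeries (Fin N) k
  map_pow : ∀ (e : ℕ), ∀ a ∈ maximalIdeal R ^ e, j a ∈ maximalIdeal (MvPowerSeries (Fin N) k) ^ e
  reflect : ∀ a, j a ∈ maximalIdeal (MvPowerSeries (Fin N) k) ^ 2 → a ∈ maximalIdeal R ^ 2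
  approx : ∀ (p : MvPowerSeries (Fin N) k) (e : ℕ), ∃ a, p - j a ∈ maximalIdeal (MvPowerSeries (Fin N) k) ^ e
  cpl : ∀ (f : R) (S : Type u) [CommRing S] [IsLocalRing S] [IsNoetherianRing S] (φ : R →+* S), Function.Surjective φ →
    RingHom.ker φ = Ideal.span {f} →
    ∃ e : AdicCompletion (maximalIdeal S) S ≃+* (MvPowerSeries (Fin N) k ⧸ Ideal.span {j f}),
      ∀ c : k, e (algebraMap S _ (φ (algebraMap k R c))) = Ideal.Quotient.mk _ (MvPowerSeries.C c)

theorem exists_localModel {k R : Type u} [Field k] [CommRing R] [IsRegularLocalRing R] [Algebra k R]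
    (hres : Function.Surjective ((residue R).comp (algebraMap k R))) {N : ℕ} (hN : ringKrullDim R = (N : ℕ)) :
    Nonempty (LocalModel k R N) := by
  classical
  let C := AdicCompletion (maximalIdeal R) R
  haveI : IsRegularLocalRing C := (AdicBasics.isRegularLocalRing_completion_iff R).1 inferInstance
  have hresC : Function.Surjective ((residue C).comp (algebraMap k C)) := by
    intro z
    obtain ⟨x, rfl⟩ := residue_surjective z
    obtain ⟨a, ha⟩ := Cohen.exists_sub_mem_pow x 1
    obtain ⟨c, hc⟩ := hres (residue R a)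
    refine ⟨c, ?_⟩
    have h1 : a - algebraMap k R c ∈ maximalIdeal R := by
      rw [← residue_eq_zero_iff, map_sub, sub_eq_zero]; exact hc.symm
    have h2 : algebraMap R C (a - algebraMap k R c) ∈ maximalIdeal C := by
      rw [AdicCompletion.maximalIdeal_eq_map]; exact Ideal.mem_map_of_mem _ h1
    rw [RingHom.comp_apply, IsScalarTower.algebraMap_apply k R C, eq_comm, ← sub_eq_zero, ← map_sub, residue_eq_zero_iff]
    rw [pow_one] at ha
    have h3 := add_mem ha h2
    rw [map_sub] at h3
    convert h3 using 1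
    ring
  obtain ⟨d, ⟨e₀⟩⟩ := Cohen2.exists_algEquiv C k hresC
  obtain rfl : d = N := by
    have h := ringKrullDim_eq_of_ringEquiv e₀.toRingEquiv
    rw [EGA41SymGr.Model.ringKrullDim_eq, AdicBasics.ringKrullDim_completion, hN] at h
    exact_mod_cast h.symm
  let P := MvPowerSeries (Fin d) k
  let j : R →ₐ[k] P :=
    { toRingHom := e₀.toRingEquiv.toRingHom.comp (algebraMap R C)
      commutes' := fun c => by
        show e₀ (algebraMap R C (algebraMap k R c)) = _
        rw [← IsScalarTower.algebraMap_apply, e₀.commutes] }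
  refine ⟨⟨j, fun m a ha => ?_, fun a ha => ?_, fun p m => ?_, fun f S _ _ _ φ hφ hker => ?_⟩⟩
  · have h1 : algebraMap R C a ∈ maximalIdeal C ^ m := by
      rw [AdicCompletion.maximalIdeal_eq_map, ← Ideal.map_pow]; exact Ideal.mem_map_of_mem _ ha
    have h2 := Ideal.mem_map_of_mem e₀.toRingEquiv.toRingHom h1
    rwa [Ideal.map_pow, IsLocalRing.map_maximalIdeal_of_surjective _ e₀.toRingEquiv.surjective] at h2
  · have h2 := Ideal.mem_map_of_mem e₀.symm.toRingEquiv.toRingHom ha
    rw [Ideal.map_pow, IsLocalRing.map_maximalIdeal_of_surjective _ e₀.symm.toRingEquiv.surjective] at h2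
    refine Cohen.eval_mem_pow ?_
    convert h2 using 1
    exact (e₀.symm_apply_apply _).symm
  · obtain ⟨a, ha⟩ := Cohen.exists_sub_mem_pow (e₀.symm p : C) m
    refine ⟨a, ?_⟩
    have h2 := Ideal.mem_map_of_mem e₀.toRingEquiv.toRingHom ha
    rw [Ideal.map_pow, IsLocalRing.map_maximalIdeal_of_surjective _ e₀.toRingEquiv.surjective, map_sub] at h2
    have e1 : e₀.toRingEquiv.toRingHom (e₀.symm p) = p := e₀.apply_symm_apply _
    rw [e1] at h2
    exact h2
  · obtain ⟨ψ, hψ, hψc, hψker⟩ := FlatDepth.exists_cpl_quotient φ hφ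
    rw [hker, Ideal.map_span, Set.image_singleton] at hψker
    let e₁ := (RingHom.quotientKerEquivOfSurjective hψ).symm.trans (Ideal.quotientEquiv (RingHom.ker ψ)
      (Ideal.span {j f}) e₀.toRingEquiv (by rw [hψker, Ideal.map_span, Set.image_singleton]; rfl))
    refine ⟨e₁, fun c => ?_⟩
    have h1 : algebraMap S (AdicCompletion (maximalIdeal S) S) (φ (algebraMap k R c)) = ψ (algebraMap k C c) := by
      rw [IsScalarTower.algebraMap_apply k R C]
      exact (RingHom.congr_fun hψc _).symm
    have h2 : (RingHom.quotientKerEquivOfSurjective hψ).symm (ψ (algebraMap k C c)) =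
        Ideal.Quotient.mk _ (algebraMap k C c) := by
      rw [RingEquiv.symm_apply_eq]; rfl
    rw [h1]
    refine (RingEquiv.trans_apply _ _ _).trans ?_
    rw [h2, Ideal.quotientEquiv_mk]
    show Ideal.Quotient.mk _ (e₀ (algebraMap k C c)) = _
    rw [e₀.commutes, MvPowerSeries.algebraMap_apply, Algebra.algebraMap_self, RingHom.id_apply]

variable {k R : Type u} [Field k] [CommRing R] [IsLocalRing R] [Algebra k R]

/-- A quotient by a singular equation is an ordinary quadratic point iff the equation is nondegenerate. -/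
theorem LocalModel.ordQuad_iff [IsAlgClosed k] {m : ℕ} (M : LocalModel k R (m + 1)) {f : R}
    (hf : f ∈ maximalIdeal R ^ 2) (S : Type u) [CommRing S] [IsLocalRing S] [IsNoetherianRing S] (φ : R →+* S)
    (hφ : Function.Surjective φ) (hker : RingHom.ker φ = Ideal.span {f}) :
    (∃ (Q : MvPowerSeries (Fin (m + 1)) k) (Q₂ : LefPen.Form m k 2)
      (e : AdicCompletion (maximalIdeal S) S ≃+* (MvPowerSeries (Fin (m + 1)) k ⧸ Ideal.span {Q})),
      (∀ c : k, e (algebraMap S _ (φ (algebraMap k R c))) = Ideal.Quotient.mk _ (MvPowerSeries.C c)) ∧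
        LefPen.StartsInDegTwo k Q ∧ LefPen.IsQuadPart k Q Q₂ ∧ LefPen.NondegQuad k Q₂) ↔
      ¬ Deg k (M.j f) := by
  obtain ⟨e₁, he₁⟩ := M.cpl f S φ hφ hker
  have hjf := M.map_pow 2 f hf
  constructor
  · rintro ⟨Q, Q₂, e, he, hQ2, hQP, hnd⟩
    have hQ : Q ∈ maximalIdeal _ ^ 2 := (QuadSingJac.mem_pow_iff Q 2).2 fun d hd => hQ2 d hd
    refine not_deg_of_algEquiv (M.j f) Q hjf hQ (AlgEquiv.ofRingEquiv (f := e.symm.trans e₁) fun c => ?_)
      ((nondegQuad_iff hQ Q₂ hQP).1 hnd)
    have h1 : e.symm (Ideal.Quotient.mk _ (MvPowerSeries.C c)) = algebraMap S _ (φ (algebraMap k R c)) := by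
      rw [← he, RingEquiv.symm_apply_apply]
    show e₁ (e.symm (Ideal.Quotient.mk _ (algebraMap k (MvPowerSeries (Fin (m + 1)) k) c))) = _
    rw [MvPowerSeries.algebraMap_apply, Algebra.algebraMap_self, RingHom.id_apply, h1, he₁]
    rfl
  · intro hD
    obtain ⟨q, hq, hqg⟩ := exists_quadPart (M.j f)
    exact ⟨M.j f, ⟨q, (MvPolynomial.mem_homogeneousSubmodule 2 _).2 hq⟩, e₁, he₁,
      fun d hd => (QuadSingJac.mem_pow_iff _ 2).1 hjf d hd, hqg,
      (nondegQuad_iff hjf ⟨q, (MvPolynomial.mem_homogeneousSubmodule 2 _).2 hq⟩ hqg).2 hD⟩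

end Groth.Agent.DualVar
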