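import Groth.Agent.DualVar.Limit
import Mathlib.RingTheory.Ideal.MinimalPrime.Localization

/-!
# Nice forms are open: algebraic core
-/

set_option autoImplicit false
set_option linter.style.haveILetI false
set_option linter.unusedSectionVars false

universe u

open IsLocalRing TensorProduct

noncomputable section

namespace Groth.Agent.DualVar

variable {k : Type u} [Field k]

/-- A property given by an algebraic system specialises along a valuation. -/
theorem exists_valued_zero {N : ℕ} {ι : Type} [Fintype ι] (G : Set (MvPolynomial (Fin N ⊕ ι) k)) (s₀ : Fin N → k)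
    (hG : ∀ f : MvPolynomial (Fin N) k,
      (∀ s : Fin N → k, (∃ ξ : ι → k, ∀ g ∈ G, MvPolynomial.aeval (Sum.elim s ξ) g = 0) → MvPolynomial.eval s f = 0) →
        MvPolynomial.eval s₀ f = 0) :
    ∃ (L : Type u) (_ : Field L) (_ : Algebra k L) (R : ValuationSubring L) (s : Fin N → L) (ξ : ι → L),
      (∀ g ∈ G, MvPolynomial.aeval (Sum.elim s ξ) g = 0) ∧ (∀ c : k, algebraMap k L c ∈ R) ∧
      (∀ c, s c ∈ R) ∧ ∀ c, s c - algebraMap k L (s₀ c) ∈ R.nonunits := by
  classical
  let J : Ideal (MvPolynomial (Fin N ⊕ ι) k) := Ideal.span G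
  let r : MvPolynomial (Fin N) k →ₐ[k] MvPolynomial (Fin N ⊕ ι) k ⧸ J :=
    (Ideal.Quotient.mkₐ k J).comp (MvPolynomial.rename Sum.inl)
  let m₀ : Ideal (MvPolynomial (Fin N) k) := RingHom.ker (MvPolynomial.eval s₀)
  haveI : m₀.IsPrime := RingHom.ker_isPrime _
  have hle : RingHom.ker r ≤ m₀ := by
    intro f hf
    refine hG f fun s hs => ?_
    obtain ⟨ξ, hξ⟩ := hs
    have hJ : J ≤ RingHom.ker (MvPolynomial.aeval (Sum.elim s ξ)) := Ideal.span_le.2 hξ
    have : MvPolynomial.aeval (Sum.elim s ξ) (MvPolynomial.rename Sum.inl f) = 0 :=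
      hJ (Ideal.Quotient.eq_zero_iff_mem.1 hf)
    rwa [ MvPolynomial.aeval_rename, Sum.elim_comp_inl, MvPolynomial.aeval_eq_eval] at this
  obtain ⟨p, hp, hpm⟩ := Ideal.exists_minimalPrimes_le hle
  have hp' : p ∈ (Ideal.comap r.toRingHom ⊥).minimalPrimes := hp
  obtain ⟨q, hq, -, hqp⟩ := Ideal.exists_comap_eq_of_mem_minimalPrimes r.toRingHom p hp'
  let L := FractionRing ((MvPolynomial (Fin N ⊕ ι) k ⧸ J) ⧸ q)
  haveI := hq
  let Φ : MvPolynomial (Fin N ⊕ ι) k →ₐ[k] L :=
    ((IsScalarTower.toAlgHom k ((MvPolynomial (Fin N ⊕ ι) k ⧸ J) ⧸ q) L).comp (Ideal.Quotient.mkₐ k q)).comp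
      (Ideal.Quotient.mkₐ k J)
  let s : Fin N → L := fun c => Φ (MvPolynomial.X (Sum.inl c))
  let ξ : ι → L := fun c => Φ (MvPolynomial.X (Sum.inr c))
  have hΦ : MvPolynomial.aeval (Sum.elim s ξ) = Φ := MvPolynomial.algHom_ext fun c => by
    rcases c with c | c <;> simp [s, ξ]
  have hzero : ∀ g ∈ G, MvPolynomial.aeval (Sum.elim s ξ) g = 0 := fun g hg => by
    rw [hΦ]
    simp only [Φ, AlgHom.comp_apply, Ideal.Quotient.mkₐ_eq_mk, IsScalarTower.coe_toAlgHom']
    rw [Ideal.Quotient.eq_zero_iff_mem.2 (Ideal.subset_span hg), map_zero, map_zero]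
  have hker : ∀ f : MvPolynomial (Fin N) k, MvPolynomial.aeval s f = 0 → MvPolynomial.eval s₀ f = 0 := by
    intro f hf
    refine hpm (hqp ▸ ?_)
    have e : MvPolynomial.aeval s f = Φ (MvPolynomial.rename Sum.inl f) := by
      rw [← hΦ, MvPolynomial.aeval_rename, Sum.elim_comp_inl]
    rw [e] at hf
    rw [Ideal.mem_comap]
    exact Ideal.Quotient.eq_zero_iff_mem.1 ((map_eq_zero_iff _ (IsFractionRing.injective _ L)).1 hf)
  let S : Subring L := (MvPolynomial.aeval (R := k) s).toRingHom.range
  let φ : MvPolynomial (Fin N) k →+* S := (MvPolynomial.aeval (R := k) s).toRingHom.rangeRestrict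
  have hne : m₀.map φ ≠ ⊤ := by
    intro htop
    have h1 : (1 : S) ∈ m₀.map φ := htop ▸ trivial
    obtain ⟨f, hf, hf1⟩ := (Ideal.mem_map_iff_of_surjective φ (RingHom.rangeRestrict_surjective _)).1 h1
    have h2 : MvPolynomial.eval s₀ (f - 1) = 0 := hker _ (by
      rw [map_sub, map_one, sub_eq_zero]
      exact congrArg Subtype.val hf1)
    rw [map_sub, map_one, RingHom.mem_ker.1 hf, zero_sub, neg_eq_zero] at h2
    exact one_ne_zero h2
  obtain ⟨R, hSR, hmR⟩ := Ideal.image_subset_nonunits_valuationSubring (m₀.map φ) hne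
  refine ⟨L, inferInstance, inferInstance, R, s, ξ, hzero, fun c => hSR ?_, fun c => hSR ?_, fun c => hmR ?_⟩
  · exact ⟨MvPolynomial.C c, MvPolynomial.aeval_C s c⟩
  · exact ⟨MvPolynomial.X c, MvPolynomial.aeval_X s c⟩
  · refine ⟨φ (MvPolynomial.X c - MvPolynomial.C (s₀ c)), Ideal.mem_map_of_mem φ ?_, ?_⟩
    · simp [m₀, RingHom.mem_ker]
    · show MvPolynomial.aeval s (MvPolynomial.X c - MvPolynomial.C (s₀ c)) = _
      simp

variable {A : Type u} [CommRing A] [Algebra k A] {n N M : ℕ} (b : Module.Basis (Fin n) A Ω[A⁄k]) (h : Fin N → A)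
  (T : Fin M → A)

theorem exists_hom_of_gen (hT : Function.Surjective (MvPolynomial.aeval (R := k) T)) {L : Type u} [CommRing L] [Algebra k L]
    (ξ : Fin M → L) (hξ : ∀ p, MvPolynomial.aeval (R := k) T p = 0 → MvPolynomial.aeval ξ p = 0) :
    ∃ x : A →ₐ[k] L, ∀ p, x (MvPolynomial.aeval (R := k) T p) = MvPolynomial.aeval ξ p := by
  let e := Ideal.quotientKerAlgEquivOfSurjective hT
  refine ⟨(Ideal.Quotient.liftₐ _ (MvPolynomial.aeval ξ) fun p hp => hξ p hp).comp e.symm.toAlgHom, fun p => ?_⟩
  have he : e.symm (MvPolynomial.aeval (R := k) T p) = Ideal.Quotient.mk _ p := by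
    rw [AlgEquiv.symm_apply_eq]; rfl
  rw [AlgHom.comp_apply]
  show Ideal.Quotient.liftₐ _ _ _ (e.symm (MvPolynomial.aeval (R := k) T p)) = _
  rw [he]
  rfl

theorem adjoin_eq_top (hT : Function.Surjective (MvPolynomial.aeval (R := k) T)) :
    Algebra.adjoin k (Set.range T) = ⊤ := by
  rw [Algebra.adjoin_range_eq_range_aeval]
  exact AlgHom.range_eq_top _ |>.2 hT

/-- Division of a twisted derivation by its largest value at the generators. -/
theorem exists_scale (hT : Algebra.adjoin k (Set.range T) = ⊤) {L : Type u} [Field L] [Algebra k L]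
    (R : ValuationSubring L) [Algebra k R] [IsScalarTower k R L] (ρ : A →ₐ[k] k) (x y : A →ₐ[k] R)
    (hx : ∀ a, residue R (x a) = algebraMap k (ResidueField R) (ρ a))
    (hy : ∀ a, residue R (y a) = algebraMap k (ResidueField R) (ρ a)) (v : A →ₗ[k] L)
    (hv : ∀ a c, v (a * c) = algebraMap R L (x a) * v c + v a * algebraMap R L (y c)) (hv1 : ∃ j, v (T j) ≠ 0) :
    ∃ (γ : L) (V : A →ₗ[k] R), γ ≠ 0 ∧ (∀ a, v a = γ * algebraMap R L (V a)) ∧
      (∀ a c, residue R (V (a * c)) = algebraMap k (ResidueField R) (ρ a) * residue R (V c) +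
        residue R (V a) * algebraMap k (ResidueField R) (ρ c)) ∧ ∃ a, residue R (V a) ≠ 0 := by
  classical
  obtain ⟨j, hj⟩ := hv1
  obtain ⟨j₀, -, hmax⟩ := Finset.exists_max_image (Finset.univ : Finset (Fin M)) (fun a => R.valuation (v (T a)))
    ⟨j, Finset.mem_univ j⟩
  let γ := v (T j₀)
  have hγ : γ ≠ 0 := fun h0 => hj (by
    have h1 := hmax j (Finset.mem_univ _)
    change R.valuation (v (T j)) ≤ R.valuation γ at h1
    rw [h0, map_zero, le_zero_iff] at h1
    exact (R.valuation.zero_iff).1 h1)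
  have hv_one : v 1 = 0 := by simpa using hv 1 1
  have hall : ∀ a, ∃ q : R, v a = γ * algebraMap R L q := by
    intro a
    have ha : a ∈ Algebra.adjoin k (Set.range T) := hT ▸ trivial
    induction ha using Algebra.adjoin_induction with
    | mem a ha =>
      obtain ⟨i, rfl⟩ := ha
      have hmem : v (T i) / γ ∈ R := by
        rw [← ValuationSubring.valuation_le_one_iff, map_div₀]
        exact div_le_one_of_le₀ (hmax i (Finset.mem_univ _)) zero_le'
      exact ⟨⟨_, hmem⟩, (mul_div_cancel₀ _ hγ).symm⟩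
    | algebraMap c => exact ⟨0, by rw [Algebra.algebraMap_eq_smul_one, map_smul, hv_one, smul_zero, map_zero, mul_zero]⟩
    | add a a' _ _ iha iha' =>
      obtain ⟨q, hq⟩ := iha
      obtain ⟨q', hq'⟩ := iha'
      exact ⟨q + q', by rw [map_add, hq, hq', map_add, mul_add]⟩
    | mul a a' _ _ iha iha' =>
      obtain ⟨q, hq⟩ := iha
      obtain ⟨q', hq'⟩ := iha'
      exact ⟨x a * q' + q * y a', by rw [hv, hq, hq', map_add, map_mul, map_mul]; ring⟩
  choose V hV using hall
  have huniq : ∀ {q q' : R}, γ * algebraMap R L q = γ * algebraMap R L q' → q = q' := fun h =>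
    Subtype.ext (mul_left_cancel₀ hγ h)
  let Vl : A →ₗ[k] R :=
    { toFun := V
      map_add' := fun a c => huniq (by rw [← hV, map_add, hV a, hV c, map_add, mul_add])
      map_smul' := fun c a => huniq (by
        rw [← hV, map_smul, hV a, RingHom.id_apply, Algebra.smul_def, Algebra.smul_def c (V a), map_mul,
          ← IsScalarTower.algebraMap_apply]
        ring) }
  refine ⟨γ, Vl, hγ, hV, fun a c => ?_, T j₀, ?_⟩
  · have h1 : V (a * c) = x a * V c + V a * y c := huniq (by
      rw [← hV, hv, hV c, hV a, map_add, map_mul, map_mul]; ring)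
    show residue R (V (a * c)) = _
    rw [h1, map_add, map_mul, map_mul, hx, hy]
    rfl
  · have h1 : V (T j₀) = 1 := huniq (by rw [← hV, map_one, mul_one])
    show residue R (V (T j₀)) ≠ 0
    rw [h1, map_one]
    exact one_ne_zero

/-- The hypothesis that singular points of nearby forms stay near the given point. -/
def IntHyp (ρ : A →ₐ[k] k) (s₀ : Fin N → k) : Prop :=
  ∀ (L : Type u) [Field L] [Algebra k L] (R : ValuationSubring L), (∀ c : k, algebraMap k L c ∈ R) →
    ∀ s : Fin N → L, (∀ c, s c ∈ R) → (∀ c, s c - algebraMap k L (s₀ c) ∈ R.nonunits) →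
      ∀ x : A →ₐ[k] L, BadPt b h x s → ∀ a, x a ∈ R ∧ x a - algebraMap k L (ρ a) ∈ R.nonunits

/-- The universal condition in one point with coordinates in `ι`. -/
def jetPoly (lft : A → MvPolynomial (Fin M) k) {ι : Type} (e : Fin M → ι) (o : Option (Fin n)) :
    MvPolynomial (Fin N ⊕ ι) k :=
  ∑ c, MvPolynomial.X (Sum.inl c) * MvPolynomial.rename (Sum.inr ∘ e) (lft (jet b (h c) o))

theorem aeval_jetPoly {lft : A → MvPolynomial (Fin M) k} {ι : Type} (e : Fin M → ι) (o : Option (Fin n))
    {L : Type u} [CommRing L] [Algebra k L] (s : Fin N → L) (ξ : ι → L) :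
    MvPolynomial.aeval (Sum.elim s ξ) (jetPoly b h lft e o) =
      ∑ c, s c * MvPolynomial.aeval (ξ ∘ e) (lft (jet b (h c) o)) := by
  simp [jetPoly, MvPolynomial.aeval_rename, ← Function.comp_assoc]

/-- The universal point of second order. -/
def U2 {L : Type u} [CommRing L] (x v w : Fin M → L) (j : Fin M) : PowerSeries L :=
  PowerSeries.C (x j) + PowerSeries.C (v j) * PowerSeries.X + PowerSeries.C (w j) * PowerSeries.X ^ 2

theorem map_aeval_U2 {L L' : Type u} [CommRing L] [Algebra k L] [CommRing L'] [Algebra k L'] (φ : L →ₐ[k] L')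
    (x v w : Fin M → L) (p : MvPolynomial (Fin M) k) (e : ℕ) :
    φ (PowerSeries.coeff e (MvPolynomial.aeval (R := k) (U2 x v w) p)) =
      PowerSeries.coeff e (MvPolynomial.aeval (R := k) (U2 (φ ∘ x) (φ ∘ v) (φ ∘ w)) p) := by
  have h1 : (PowerSeries.map φ.toRingHom).comp (MvPolynomial.aeval (R := k) (U2 x v w)).toRingHom =
      (MvPolynomial.aeval (R := k) (U2 (φ ∘ x) (φ ∘ v) (φ ∘ w))).toRingHom := by
    refine MvPolynomial.ringHom_ext (fun c => ?_) fun j => ?_
    · simp [IsScalarTower.algebraMap_apply k L (PowerSeries L), IsScalarTower.algebraMap_apply k L' (PowerSeries L'),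
        PowerSeries.algebraMap_apply]
    · simp [U2]
  exact (PowerSeries.coeff_map φ.toRingHom e _).symm.trans congr(PowerSeries.coeff e ($h1 p))

theorem coeff_zero_aeval_U2 {L : Type u} [CommRing L] [Algebra k L] (x v w : Fin M → L) (p : MvPolynomial (Fin M) k) :
    PowerSeries.coeff 0 (MvPolynomial.aeval (R := k) (U2 x v w) p) = MvPolynomial.aeval x p := by
  rw [PowerSeries.coeff_zero_eq_constantCoeff_apply]
  refine RingHom.congr_fun (f := PowerSeries.constantCoeff.comp (MvPolynomial.aeval (R := k) (U2 x v w)).toRingHom)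
    (g := (MvPolynomial.aeval x).toRingHom) (MvPolynomial.ringHom_ext (fun c => ?_) fun j => ?_) p
  · simp [IsScalarTower.algebraMap_apply k L (PowerSeries L), PowerSeries.algebraMap_apply]
  · simp [U2]

variable {ρ : A →ₐ[k] k} {ψ : A →ₐ[k] MvPowerSeries (Fin n) k}

theorem no_pair [IsAlgClosed k] (hT : Function.Surjective (MvPolynomial.aeval (R := k) T)) (hC : Coord ρ ψ)
    (s₀ : Fin N → k) (h0 : ψ (∑ c, s₀ c • h c) ∈ maximalIdeal (MvPowerSeries (Fin n) k) ^ 2)
    (hnd : ¬ Deg k (ψ (∑ c, s₀ c • h c))) (hint : IntHyp b h ρ s₀) (j : Fin M) :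
    ∃ f : MvPolynomial (Fin N) k, MvPolynomial.eval s₀ f ≠ 0 ∧ ∀ s : Fin N → k, MvPolynomial.eval s f ≠ 0 →
      ∀ x y : A →ₐ[k] k, BadPt b h x s → BadPt b h y s → x (T j) = y (T j) := by
  classical
  choose lft hlft using fun a => hT a
  by_contra hno
  let ι := Fin M ⊕ (Fin M ⊕ Unit)
  let ex : Fin M → ι := Sum.inl
  let ey : Fin M → ι := fun a => Sum.inr (Sum.inl a)
  let z : ι := Sum.inr (Sum.inr ())
  let G : Set (MvPolynomial (Fin N ⊕ ι) k) :=
    {g | (∃ p, MvPolynomial.aeval (R := k) T p = 0 ∧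
        (g = MvPolynomial.rename (Sum.inr ∘ ex) p ∨ g = MvPolynomial.rename (Sum.inr ∘ ey) p)) ∨
      (∃ o, g = jetPoly b h lft ex o ∨ g = jetPoly b h lft ey o) ∨
      g = MvPolynomial.X (Sum.inr z) * (MvPolynomial.X (Sum.inr (ex j)) - MvPolynomial.X (Sum.inr (ey j))) - 1}
  obtain ⟨L, _, _, R, s, ξ, hξ, hk, hsR, hs0⟩ := exists_valued_zero G s₀ fun f hf => by
    by_contra hf0
    refine hno ⟨f, hf0, fun s hs x y hbx hby => ?_⟩
    by_contra hne
    refine hs (hf s ⟨Sum.elim (x ∘ T) (Sum.elim (y ∘ T) fun _ => (x (T j) - y (T j))⁻¹), ?_⟩)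
    rintro g (⟨p, hp, rfl | rfl⟩ | ⟨o, rfl | rfl⟩ | rfl)
    · rw [MvPolynomial.aeval_rename]
      show MvPolynomial.aeval (fun a => x (T a)) p = 0
      rw [← MvPolynomial.comp_aeval_apply, hp, map_zero]
    · rw [MvPolynomial.aeval_rename]
      show MvPolynomial.aeval (fun a => y (T a)) p = 0
      rw [← MvPolynomial.comp_aeval_apply, hp, map_zero]
    · rw [aeval_jetPoly]
      show ∑ c, s c * MvPolynomial.aeval (fun a => x (T a)) (lft (jet b (h c) o)) = 0
      simp only [← MvPolynomial.comp_aeval_apply, hlft]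
      exact hbx o
    · rw [aeval_jetPoly]
      show ∑ c, s c * MvPolynomial.aeval (fun a => y (T a)) (lft (jet b (h c) o)) = 0
      simp only [← MvPolynomial.comp_aeval_apply, hlft]
      exact hby o
    · simp [z, ex, ey, inv_mul_cancel₀ (sub_ne_zero.2 hne)]
  have hker : ∀ e, (e = ex ∨ e = ey) → ∀ p, MvPolynomial.aeval (R := k) T p = 0 → MvPolynomial.aeval (ξ ∘ e) p = 0 := by
    intro e he p hp
    have := hξ (MvPolynomial.rename (Sum.inr ∘ e) p) (Or.inl ⟨p, hp, by rcases he with rfl | rfl <;> simp⟩)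
    rwa [MvPolynomial.aeval_rename, ← Function.comp_assoc, Sum.elim_comp_inr] at this
  obtain ⟨x, hx⟩ := exists_hom_of_gen T hT (ξ ∘ ex) (hker ex (Or.inl rfl))
  obtain ⟨y, hy⟩ := exists_hom_of_gen T hT (ξ ∘ ey) (hker ey (Or.inr rfl))
  have hbx : BadPt b h x s := fun o => by
    have := hξ (jetPoly b h lft ex o) (Or.inr (Or.inl ⟨o, Or.inl rfl⟩))
    rw [aeval_jetPoly] at this
    simpa only [← hx, hlft] using this
  have hby : BadPt b h y s := fun o => by
    have := hξ (jetPoly b h lft ey o) (Or.inr (Or.inl ⟨o, Or.inr rfl⟩))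
    rw [aeval_jetPoly] at this
    simpa only [← hy, hlft] using this
  have hne : x (T j) ≠ y (T j) := by
    intro he
    have := hξ _ (Or.inr (Or.inr rfl))
    have hxj : x (T j) = ξ (ex j) := by simpa using hx (MvPolynomial.X j)
    have hyj : y (T j) = ξ (ey j) := by simpa using hy (MvPolynomial.X j)
    rw [hxj, hyj] at he
    simp [he] at this
  letI : Algebra k R := ((algebraMap k L).codRestrict R.toSubring hk).toAlgebra
  haveI : IsScalarTower k R L := IsScalarTower.of_algebraMap_eq fun c => rfl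
  have hres : ∀ (r : R) (c : k), (r : L) - algebraMap k L c ∈ R.nonunits →
      residue R r = algebraMap k (ResidueField R) c := by
    intro r c hr
    rw [IsScalarTower.algebraMap_apply k R (ResidueField R), IsLocalRing.ResidueField.algebraMap_eq, ← sub_eq_zero,
      ← map_sub, residue_eq_zero_iff]
    exact ValuationSubring.coe_mem_nonunits_iff.1 hr
  let sR : Fin N → R := fun c => ⟨s c, hsR c⟩
  have hX := fun a => hint L R hk s hsR hs0 x hbx a
  have hY := fun a => hint L R hk s hsR hs0 y hby a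
  let xR : A →ₐ[k] R :=
    { toRingHom := x.toRingHom.codRestrict R.toSubring fun a => (hX a).1
      commutes' := fun c => Subtype.ext (x.commutes c) }
  let yR : A →ₐ[k] R :=
    { toRingHom := y.toRingHom.codRestrict R.toSubring fun a => (hY a).1
      commutes' := fun c => Subtype.ext (y.commutes c) }
  have hxres : ∀ a, residue R (xR a) = algebraMap k (ResidueField R) (ρ a) := fun a => hres _ _ (hX a).2
  have hyres : ∀ a, residue R (yR a) = algebraMap k (ResidueField R) (ρ a) := fun a => hres _ _ (hY a).2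
  let v : A →ₗ[k] L := y.toLinearMap - x.toLinearMap
  obtain ⟨γ, V, hγ, hV, hVres, hV1⟩ := exists_scale T (adjoin_eq_top T hT) R ρ xR yR hxres hyres v
    (fun a c => by
      show y (a * c) - x (a * c) = x a * (y c - x c) + (y a - x a) * y c
      rw [map_mul, map_mul]; ring)
    ⟨j, by
      show y (T j) - x (T j) ≠ 0
      exact sub_ne_zero.2 hne.symm⟩
  have hbR : BadPt b h xR sR := fun o => Subtype.ext (by
    rw [AddSubmonoidClass.coe_finset_sum]
    exact hbx o)
  have hdiff : ∀ w : R ⊗[k] A, algebraMap R L (ext yR w) =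
      algebraMap R L (ext xR w) + γ * algebraMap R L (V.liftBaseChange R w) := by
    intro w
    induction w using TensorProduct.induction_on with
    | zero => simp
    | tmul r a =>
      rw [ext_tmul, ext_tmul, LinearMap.liftBaseChange_tmul, smul_eq_mul, map_mul, map_mul, map_mul, mul_left_comm γ,
        ← hV, ← mul_add]
      show _ * y a = _ * (x a + (y a - x a))
      ring
    | add w w' ih ih' => simp only [map_add, ih, ih']; ring
  have hyx : ∀ w : R ⊗[k] A, residue R (ext yR w) = residue R (ext xR w) := by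
    intro w
    induction w using TensorProduct.induction_on with
    | zero => simp
    | tmul r a => rw [ext_tmul, ext_tmul, map_mul, map_mul, hxres, hyres]
    | add w w' ih ih' => simp only [map_add, ih, ih']
  have hz : ∀ a ∈ RingHom.ker (ext xR), algebraMap R L (ext yR a) = γ * algebraMap R L (V.liftBaseChange R a) :=
    fun a ha => by rw [hdiff, RingHom.mem_ker.1 ha, map_zero, zero_add]
  have hdmul : ∀ l (w w' : R ⊗[k] A), (dB b l).baseChange R (w * w') =
      (dB b l).baseChange R w * w' + w * (dB b l).baseChange R w' := by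
    intro l w w'
    induction w using TensorProduct.induction_on with
    | zero => simp
    | tmul r a =>
      induction w' using TensorProduct.induction_on with
      | zero => simp
      | tmul r' a' => simp [dB_mul, TensorProduct.tmul_add]
      | add w w' ih ih' => simp only [mul_add, map_add, ih, ih']; ring
    | add w₁ w₂ ih ih' => simp only [add_mul, map_add, ih, ih']; ring
  have hy0 : ∀ o, ext yR (univ (fun c => jet b (h c) o) sR) = 0 := fun o => Subtype.ext (by
    rw [univ, map_sum, AddSubmonoidClass.coe_finset_sum]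
    exact hby o)
  refine hnd (deg_of_limit b h (R := R) (L := L) Subtype.val_injective hC sR s₀ (fun c => hres _ _ (hs0 c)) h0 xR hxres
    hbR V γ hγ hVres hV1 ((Algebra.linearMap R L).comp (ext yR).toLinearMap)
    (fun l => (Algebra.linearMap R L).comp ((ext yR).toLinearMap.comp ((dB b l).baseChange R)))
    (fun a ha c hc => ⟨_, ?_, map_mul (residue R) _ _⟩) (fun l a ha c hc => ⟨ext yR ((dB b l).baseChange R a) *
      V.liftBaseChange R c + V.liftBaseChange R a * ext yR ((dB b l).baseChange R c), ?_, ?_⟩) ?_ fun l => ?_)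
  · show algebraMap R L (ext yR (a * c)) = _
    rw [map_mul, map_mul, hz a ha, hz c hc, map_mul]
    ring
  · show algebraMap R L (ext yR ((dB b l).baseChange R (a * c))) = _
    rw [hdmul, map_add, map_mul (ext yR), map_mul (ext yR), map_add, map_mul, map_mul, hz a ha, hz c hc, map_add, map_mul,
      map_mul]
    ring
  · rw [map_add, map_mul, map_mul, hyx, hyx]
  · show algebraMap R L (ext yR (univ (fun c => jet b (h c) none) sR)) = 0
    rw [hy0, map_zero]
  · show algebraMap R L (ext yR ((dB b l).baseChange R (univ h sR))) = 0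
    rw [show (dB b l).baseChange R (univ h sR) = univ (fun c => jet b (h c) (some l)) sR by
        simp only [univ, map_sum, LinearMap.baseChange_tmul]; rfl,
      hy0, map_zero]

theorem no_deg [IsAlgClosed k] (hT : Function.Surjective (MvPolynomial.aeval (R := k) T)) (hC : Coord ρ ψ)
    (s₀ : Fin N → k) (h0 : ψ (∑ c, s₀ c • h c) ∈ maximalIdeal (MvPowerSeries (Fin n) k) ^ 2)
    (hnd : ¬ Deg k (ψ (∑ c, s₀ c • h c))) (hint : IntHyp b h ρ s₀) (j : Fin M) :
    ∃ f : MvPolynomial (Fin N) k, MvPolynomial.eval s₀ f ≠ 0 ∧ ∀ s : Fin N → k, MvPolynomial.eval s f ≠ 0 →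
      ∀ (ρ' : A →ₐ[k] k) (ψ' : A →ₐ[k] MvPowerSeries (Fin n) k), Coord ρ' ψ' → BadPt b h ρ' s →
        ∀ v : Fin n → k, lin v (ψ' (T j)) ≠ 0 → Qf v (ψ' (∑ c, s c • h c)) = 0 →
          ∃ u, pol v u (ψ' (∑ c, s c • h c)) ≠ 0 := by
  classical
  choose lft hlft using fun a => hT a
  by_contra hno
  let ι := (Fin M ⊕ (Fin M ⊕ Fin M)) ⊕ Unit
  let ex : Fin M → ι := fun a => Sum.inl (Sum.inl a)
  let ev' : Fin M → ι := fun a => Sum.inl (Sum.inr (Sum.inl a))
  let ew : Fin M → ι := fun a => Sum.inl (Sum.inr (Sum.inr a))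
  let Pl := MvPolynomial (Fin N ⊕ ι) k
  let UU : MvPolynomial (Fin M) k → ℕ → Pl := fun p e => PowerSeries.coeff e (MvPolynomial.aeval
    (U2 (fun a => (MvPolynomial.X (Sum.inr (ex a)) : Pl)) (fun a => MvPolynomial.X (Sum.inr (ev' a)))
      fun a => MvPolynomial.X (Sum.inr (ew a))) p)
  let G : Set Pl :=
    {g | (∃ p e, MvPolynomial.aeval (R := k) T p = 0 ∧ e < 3 ∧ g = UU p e) ∨
      (∃ o, g = jetPoly b h lft ex o) ∨
      g = ∑ c, MvPolynomial.X (Sum.inl c) * UU (lft (h c)) 2 ∨
      (∃ l, g = ∑ c, MvPolynomial.X (Sum.inl c) * UU (lft (dB b l (h c))) 1) ∨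
      g = MvPolynomial.X (Sum.inr (Sum.inr ())) * MvPolynomial.X (Sum.inr (ev' j)) - 1}
  have hUU : ∀ {L : Type u} [CommRing L] [Algebra k L] (s : Fin N → L) (ξ : ι → L) p e,
      MvPolynomial.aeval (Sum.elim s ξ) (UU p e) =
        PowerSeries.coeff e (MvPolynomial.aeval (R := k) (U2 (ξ ∘ ex) (ξ ∘ ev') (ξ ∘ ew)) p) := by
    intro L _ _ s ξ p e
    rw [map_aeval_U2]
    congr 4 <;> funext a <;> simp
  obtain ⟨L, _, _, R, s, ξ, hξ, hk, hsR, hs0⟩ := exists_valued_zero G s₀ fun f hf => by
    by_contra hf0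
    refine hno ⟨f, hf0, fun s hs ρ' ψ' hC' hbad v hv hQ => ?_⟩
    by_contra hno'
    push Not at hno'
    let ξ : ι → k := Sum.elim (Sum.elim (ρ' ∘ T) (Sum.elim (fun a => lin v (ψ' (T a))) fun a => Qf v (ψ' (T a))))
      fun _ => (lin v (ψ' (T j)))⁻¹
    let σ : A →ₐ[k] PowerSeries k := (evl v).comp ψ'
    have hσ : ∀ p e, e < 3 → PowerSeries.coeff e (MvPolynomial.aeval (R := k) (U2 (ξ ∘ ex) (ξ ∘ ev') (ξ ∘ ew)) p) =
        PowerSeries.coeff e (σ (MvPolynomial.aeval (R := k) T p)) := by
      intro p e he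
      let X3 : Ideal (PowerSeries k) := Ideal.span {PowerSeries.X ^ 3}
      have hmem : MvPolynomial.aeval (R := k) (U2 (ξ ∘ ex) (ξ ∘ ev') (ξ ∘ ew)) p - σ (MvPolynomial.aeval (R := k) T p) ∈ X3 := by
        rw [← Ideal.Quotient.eq, MvPolynomial.comp_aeval_apply]
        refine RingHom.congr_fun (f := (Ideal.Quotient.mk X3).comp (MvPolynomial.aeval _).toRingHom)
          (g := (Ideal.Quotient.mk X3).comp (MvPolynomial.aeval fun a => σ (T a)).toRingHom)
          (MvPolynomial.ringHom_ext (fun c => by simp) fun a => ?_) p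
        show Ideal.Quotient.mk X3 (MvPolynomial.aeval _ (MvPolynomial.X a)) =
          Ideal.Quotient.mk X3 (MvPolynomial.aeval (fun a => σ (T a)) (MvPolynomial.X a))
        rw [MvPolynomial.aeval_X, MvPolynomial.aeval_X, Ideal.Quotient.eq, Ideal.mem_span_singleton,
          PowerSeries.X_pow_dvd_iff]
        intro m hm
        rw [map_sub, sub_eq_zero]
        interval_cases m
        · rw [PowerSeries.coeff_zero_eq_constantCoeff_apply, PowerSeries.coeff_zero_eq_constantCoeff_apply]
          show _ = PowerSeries.constantCoeff (evl v (ψ' (T a)))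
          rw [constantCoeff_evl, hC'.const]
          simp [U2, ξ, ex]
        · simp [U2, ξ, ev', PowerSeries.coeff_X_pow, σ, lin]
        · simp [U2, ξ, ew, PowerSeries.coeff_X, PowerSeries.coeff_C, σ, Qf]
      rw [Ideal.mem_span_singleton, PowerSeries.X_pow_dvd_iff] at hmem
      exact sub_eq_zero.1 ((map_sub _ _ _).symm.trans (hmem e he))
    refine hs (hf s ⟨ξ, ?_⟩)
    rintro g (⟨p, e, hp, he, rfl⟩ | ⟨o, rfl⟩ | rfl | ⟨l, rfl⟩ | rfl)
    · rw [hUU, hσ p e he, hp, map_zero, map_zero]
    · rw [aeval_jetPoly]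
      show ∑ c, s c * MvPolynomial.aeval (fun a => ρ' (T a)) (lft (jet b (h c) o)) = 0
      simp only [← MvPolynomial.comp_aeval_apply, hlft]
      exact hbad o
    · simp only [map_sum, map_mul, MvPolynomial.aeval_X, Sum.elim_inl, hUU, hσ _ 2 (by norm_num), hlft]
      rw [← hQ, map_sum, Qf, map_sum, map_sum]
      exact Finset.sum_congr rfl fun c _ => by
        rw [map_smul, map_smul, PowerSeries.coeff_smul, smul_eq_mul]
        rfl
    · simp only [map_sum, map_mul, MvPolynomial.aeval_X, Sum.elim_inl, hUU, hσ _ 1 (by norm_num), hlft]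
      have hsum : ∑ c, s c * PowerSeries.coeff 1 (σ (dB b l (h c))) = lin v (ψ' (dB b l (∑ c, s c • h c))) := by
        rw [map_sum, map_sum, lin, map_sum, map_sum]
        exact Finset.sum_congr rfl fun c _ => by
          rw [map_smul, map_smul, map_smul, PowerSeries.coeff_smul, smul_eq_mul]
          rfl
      rw [hsum]
      have hker : (∑ c, s c • h c) ∈ RingHom.ker ρ' ^ 2 := by
        rw [mem_sq_iff b]
        intro o
        rw [map_sum, Finset.sum_apply, map_sum, ← hbad o]
        exact Finset.sum_congr rfl fun c _ => by rw [map_smul, Pi.smul_apply, map_smul, smul_eq_mul]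
      obtain ⟨u, hu⟩ := hC'.exists_vec (K := k) (ρ'.toLinearMap.comp (dB b l)) fun a c => by
        show ρ' (dB b l (a * c)) = ρ' a * ρ' (dB b l c) + ρ' (dB b l a) * ρ' c
        rw [dB_mul, map_add, map_mul, map_mul, add_comm]
      have hmax : ∀ a ∈ RingHom.ker ρ', ψ' a ∈ maximalIdeal (MvPowerSeries (Fin n) k) := fun a ha => by
        rw [QuadSingJac.mem_max_iff, hC'.const]; exact ha
      have e1 : ∀ z ∈ RingHom.ker ρ' * RingHom.ker ρ', lin v (ψ' (dB b l z)) = pol v u (ψ' z) := fun z hz => by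
        refine Submodule.mul_induction_on hz (fun a ha c hc => ?_) (fun a c iha ihc => ?_)
        · rw [dB_mul, map_add, lin_add, map_mul, map_mul, lin_mul, lin_mul, map_mul, pol_mul v u (hmax a ha) (hmax c hc),
            hC'.const, hC'.const, hC'.const, hC'.const, RingHom.mem_ker.1 ha, RingHom.mem_ker.1 hc, hu, hu]
          simp only [Algebra.algebraMap_self, RingHom.id_apply, LinearMap.coe_comp, Function.comp_apply,
            AlgHom.toLinearMap_apply]
          ring
        · rw [map_add, map_add, lin_add, map_add, pol_add, iha, ihc]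
      rw [e1 _ (sq (RingHom.ker ρ') ▸ hker), hno' u]
    · simp [ξ, ev', inv_mul_cancel₀ hv]
  -- the point of second order over `L`
  let F : MvPolynomial (Fin M) k →ₐ[k] PowerSeries L := MvPolynomial.aeval (R := k) (U2 (ξ ∘ ex) (ξ ∘ ev') (ξ ∘ ew))
  have hwd : ∀ p q, MvPolynomial.aeval (R := k) T p = MvPolynomial.aeval (R := k) T q → ∀ e < 3,
      PowerSeries.coeff e (F p) = PowerSeries.coeff e (F q) := by
    intro p q hpq e he
    have := hξ (UU (p - q) e) (Or.inl ⟨p - q, e, by rw [map_sub, hpq, sub_self], he, rfl⟩)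
    rw [hUU, map_sub, map_sub, sub_eq_zero] at this
    exact this
  obtain ⟨x, hx⟩ := exists_hom_of_gen T hT (ξ ∘ ex) fun p hp => by
    have := hwd p 0 (by rw [hp, map_zero]) 0 (by norm_num)
    rwa [map_zero, map_zero, coeff_zero_aeval_U2] at this
  let cf : ℕ → A → L := fun e a => PowerSeries.coeff e (F (lft a))
  have hcf : ∀ e < 3, ∀ p, cf e (MvPolynomial.aeval (R := k) T p) = PowerSeries.coeff e (F p) := fun e he p =>
    hwd _ _ (hlft _) e he
  have hcf0 : ∀ a, cf 0 a = x a := fun a => by
    show PowerSeries.coeff 0 (F (lft a)) = _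
    rw [coeff_zero_aeval_U2, ← hx, hlft]
  let cl : ∀ e < 3, A →ₗ[k] L := fun e he =>
    { toFun := cf e
      map_add' := fun a c => by
        rw [← hlft a, ← hlft c, ← map_add, hcf e he, hcf e he, hcf e he, map_add, map_add]
      map_smul' := fun r a => by
        rw [← hlft a, ← map_smul, hcf e he, hcf e he, map_smul, PowerSeries.coeff_smul]
        rfl }
  have hbx : BadPt b h x s := fun o => by
    have := hξ (jetPoly b h lft ex o) (Or.inr (Or.inl ⟨o, rfl⟩))
    rw [aeval_jetPoly] at this
    simpa only [← hx, hlft] using this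
  have hv1 : cf 1 (T j) ≠ 0 := by
    intro he
    have h1 : PowerSeries.coeff 1 (F (MvPolynomial.X j)) = 0 := by
      rw [← hcf 1 (by norm_num)]; simpa using he
    simp [F, U2, PowerSeries.coeff_X_pow] at h1
    have := hξ _ (Or.inr (Or.inr (Or.inr (Or.inr rfl))))
    simp [h1] at this
  have hcm : ∀ e < 3, ∀ a c, cf e (a * c) = PowerSeries.coeff e (F (lft a) * F (lft c)) := by
    intro e he a c
    rw [← map_mul]
    conv_lhs => rw [← hlft a, ← hlft c, ← map_mul]
    exact hcf e he _
  letI : Algebra k R := ((algebraMap k L).codRestrict R.toSubring hk).toAlgebra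
  haveI : IsScalarTower k R L := IsScalarTower.of_algebraMap_eq fun c => rfl
  have hres : ∀ (r : R) (c : k), (r : L) - algebraMap k L c ∈ R.nonunits →
      residue R r = algebraMap k (ResidueField R) c := by
    intro r c hr
    rw [IsScalarTower.algebraMap_apply k R (ResidueField R), IsLocalRing.ResidueField.algebraMap_eq, ← sub_eq_zero,
      ← map_sub, residue_eq_zero_iff]
    exact ValuationSubring.coe_mem_nonunits_iff.1 hr
  let sR : Fin N → R := fun c => ⟨s c, hsR c⟩
  have hX := fun a => hint L R hk s hsR hs0 x hbx a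
  let xR : A →ₐ[k] R :=
    { toRingHom := x.toRingHom.codRestrict R.toSubring fun a => (hX a).1
      commutes' := fun c => Subtype.ext (x.commutes c) }
  have hxres : ∀ a, residue R (xR a) = algebraMap k (ResidueField R) (ρ a) := fun a => hres _ _ (hX a).2
  have hc1 : ∀ a c, cf 1 (a * c) = x a * cf 1 c + cf 1 a * x c := fun a c => by
    rw [hcm 1 (by norm_num)]
    simp only [PowerSeries.coeff_one_mul, ← PowerSeries.coeff_zero_eq_constantCoeff_apply]
    rw [show PowerSeries.coeff 0 (F (lft a)) = x a from hcf0 a, show PowerSeries.coeff 0 (F (lft c)) = x c from hcf0 c]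
    show PowerSeries.coeff 1 (F (lft a)) * x c + PowerSeries.coeff 1 (F (lft c)) * x a =
      x a * PowerSeries.coeff 1 (F (lft c)) + PowerSeries.coeff 1 (F (lft a)) * x c
    ring
  have hc2 : ∀ a c, cf 2 (a * c) = x a * cf 2 c + cf 1 a * cf 1 c + cf 2 a * x c := fun a c => by
    rw [hcm 2 (by norm_num)]
    simp [PowerSeries.coeff_mul, Finset.Nat.antidiagonal_succ, cf, ← hcf0, add_assoc]
  obtain ⟨γ, V, hγ, hV, hVres, hV1⟩ := exists_scale T (adjoin_eq_top T hT) R ρ xR xR hxres hxres (cl 1 (by norm_num))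
    hc1 ⟨j, hv1⟩
  have hbR : BadPt b h xR sR := fun o => Subtype.ext (by
    rw [AddSubmonoidClass.coe_finset_sum]
    exact hbx o)
  let W1 := (cl 1 (by norm_num)).liftBaseChange R
  let W2 := (cl 2 (by norm_num)).liftBaseChange R
  have hW1 : ∀ w : R ⊗[k] A, W1 w = γ * algebraMap R L (V.liftBaseChange R w) := by
    intro w
    induction w using TensorProduct.induction_on with
    | zero => simp
    | tmul r a =>
      rw [LinearMap.liftBaseChange_tmul, LinearMap.liftBaseChange_tmul, smul_eq_mul, map_mul, mul_left_comm, ← hV,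
        Algebra.smul_def]
    | add w w' ih ih' => simp only [map_add, ih, ih']; ring
  have hW1m : ∀ w w' : R ⊗[k] A, W1 (w * w') =
      algebraMap R L (ext xR w) * W1 w' + W1 w * algebraMap R L (ext xR w') := by
    intro w w'
    induction w using TensorProduct.induction_on with
    | zero => simp
    | tmul r a =>
      induction w' using TensorProduct.induction_on with
      | zero => simp
      | tmul r' a' =>
        simp only [Algebra.TensorProduct.tmul_mul_tmul, W1, LinearMap.liftBaseChange_tmul, Algebra.smul_def, map_mul,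
          ext_tmul]
        show algebraMap R L r * algebraMap R L r' * cf 1 (a * a') =
          algebraMap R L r * x a * (algebraMap R L r' * cf 1 a') + algebraMap R L r * cf 1 a * (algebraMap R L r' * x a')
        rw [hc1]; ring
      | add w w' ih ih' => simp only [mul_add, map_add, ih, ih']; ring
    | add w₁ w₂ ih ih' => simp only [add_mul, map_add, ih, ih']; ring
  have hW2m : ∀ w w' : R ⊗[k] A, W2 (w * w') =
      algebraMap R L (ext xR w) * W2 w' + W1 w * W1 w' + W2 w * algebraMap R L (ext xR w') := by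
    intro w w'
    induction w using TensorProduct.induction_on with
    | zero => simp
    | tmul r a =>
      induction w' using TensorProduct.induction_on with
      | zero => simp
      | tmul r' a' =>
        simp only [Algebra.TensorProduct.tmul_mul_tmul, W1, W2, LinearMap.liftBaseChange_tmul, Algebra.smul_def, map_mul,
          ext_tmul]
        show algebraMap R L r * algebraMap R L r' * cf 2 (a * a') =
          algebraMap R L r * x a * (algebraMap R L r' * cf 2 a') +
            algebraMap R L r * cf 1 a * (algebraMap R L r' * cf 1 a') +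
            algebraMap R L r * cf 2 a * (algebraMap R L r' * x a')
        rw [hc2]; ring
      | add w w' ih ih' => simp only [mul_add, map_add, ih, ih']; ring
    | add w₁ w₂ ih ih' => simp only [add_mul, map_add, ih, ih']; ring
  have hdmul : ∀ l (w w' : R ⊗[k] A), (dB b l).baseChange R (w * w') =
      (dB b l).baseChange R w * w' + w * (dB b l).baseChange R w' := by
    intro l w w'
    induction w using TensorProduct.induction_on with
    | zero => simp
    | tmul r a =>
      induction w' using TensorProduct.induction_on with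
      | zero => simp
      | tmul r' a' => simp [dB_mul, TensorProduct.tmul_add]
      | add w w' ih ih' => simp only [mul_add, map_add, ih, ih']; ring
    | add w₁ w₂ ih ih' => simp only [add_mul, map_add, ih, ih']; ring
  refine hnd (deg_of_limit b h (R := R) (L := L) Subtype.val_injective hC sR s₀ (fun c => hres _ _ (hs0 c)) h0 xR hxres
    hbR V γ hγ hVres hV1 W2 (fun l => W1.comp ((dB b l).baseChange R))
    (fun a ha c hc => ⟨_, ?_, map_mul (residue R) _ _⟩) (fun l a ha c hc => ⟨ext xR ((dB b l).baseChange R a) *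
      V.liftBaseChange R c + V.liftBaseChange R a * ext xR ((dB b l).baseChange R c), ?_, ?_⟩) ?_ fun l => ?_)
  · rw [hW2m, hW1, hW1, RingHom.mem_ker.1 ha, RingHom.mem_ker.1 hc, map_zero, map_mul]
    ring
  · show W1 ((dB b l).baseChange R (a * c)) = _
    rw [hdmul, map_add, hW1m, hW1m, hW1 c, hW1 a, RingHom.mem_ker.1 ha, RingHom.mem_ker.1 hc, map_zero, map_add,
      map_mul, map_mul]
    ring
  · rw [map_add, map_mul, map_mul]
  · have := hξ _ (Or.inr (Or.inr (Or.inl rfl)))
    simp only [map_sum, map_mul, MvPolynomial.aeval_X, Sum.elim_inl, hUU] at this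
    simp only [univ, map_sum, W2, LinearMap.liftBaseChange_tmul, Algebra.smul_def]
    exact this
  · have := hξ _ (Or.inr (Or.inr (Or.inr (Or.inl ⟨l, rfl⟩))))
    simp only [map_sum, map_mul, MvPolynomial.aeval_X, Sum.elim_inl, hUU] at this
    simp only [univ, map_sum, LinearMap.comp_apply, LinearMap.baseChange_tmul, W1, LinearMap.liftBaseChange_tmul,
      Algebra.smul_def]
    exact this

/-- Near a form with one nondegenerate singular point there is only that kind of form. -/
theorem exists_poly_nice [IsAlgClosed k] (hT : Function.Surjective (MvPolynomial.aeval (R := k) T)) (hC : Coord ρ ψ)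
    (s₀ : Fin N → k) (h0 : ψ (∑ c, s₀ c • h c) ∈ maximalIdeal (MvPowerSeries (Fin n) k) ^ 2)
    (hnd : ¬ Deg k (ψ (∑ c, s₀ c • h c))) (hint : IntHyp b h ρ s₀) :
    ∃ f : MvPolynomial (Fin N) k, MvPolynomial.eval s₀ f ≠ 0 ∧ ∀ s : Fin N → k, MvPolynomial.eval s f ≠ 0 →
      (∀ x y : A →ₐ[k] k, BadPt b h x s → BadPt b h y s → x = y) ∧
      ∀ (ρ' : A →ₐ[k] k) (ψ' : A →ₐ[k] MvPowerSeries (Fin n) k), Coord ρ' ψ' → BadPt b h ρ' s →
        ¬ Deg k (ψ' (∑ c, s c • h c)) := by
  classical
  choose f hf hfs using no_pair b h T hT hC s₀ h0 hnd hint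
  choose g hg hgs using no_deg b h T hT hC s₀ h0 hnd hint
  refine ⟨(∏ j, f j) * ∏ j, g j, ?_, fun s hs => ⟨fun x y hbx hby => ?_, fun ρ' ψ' hC' hbad => ?_⟩⟩
  · rw [map_mul, map_prod, map_prod]
    exact mul_ne_zero (Finset.prod_ne_zero_iff.2 fun j _ => hf j) (Finset.prod_ne_zero_iff.2 fun j _ => hg j)
  · rw [map_mul, map_prod, map_prod, mul_ne_zero_iff, Finset.prod_ne_zero_iff, Finset.prod_ne_zero_iff] at hs
    refine AlgHom.ext_of_adjoin_eq_top (adjoin_eq_top T hT) ?_
    rintro _ ⟨j, rfl⟩
    exact hfs j s (hs.1 j (Finset.mem_univ _)) x y hbx hby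
  · rw [map_mul, map_prod, map_prod, mul_ne_zero_iff, Finset.prod_ne_zero_iff, Finset.prod_ne_zero_iff] at hs
    rintro ⟨v, hv, hQ, hP⟩
    obtain ⟨j, hj⟩ : ∃ j, lin v (ψ' (T j)) ≠ 0 := by
      by_contra hno
      push Not at hno
      apply hv
      funext l
      obtain ⟨a, ha⟩ := hC'.surj l
      rw [← hC'.lin_self v a l ha]
      have hmem : a ∈ Algebra.adjoin k (Set.range T) := (adjoin_eq_top T hT).symm ▸ trivial
      clear ha
      induction hmem using Algebra.adjoin_induction with
      | mem a ha => obtain ⟨i, rfl⟩ := ha; exact hno i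
      | algebraMap c => rw [ψ'.commutes, MvPowerSeries.algebraMap_apply, lin_C]; rfl
      | add a a' _ _ iha iha' => rw [map_add, lin_add, iha, iha', Pi.zero_apply, add_zero]
      | mul a a' _ _ iha iha' => rw [map_mul, lin_mul, iha, iha', Pi.zero_apply, mul_zero, zero_mul, add_zero]
    obtain ⟨u, hu⟩ := hgs j s (hs.2 j (Finset.mem_univ _)) ρ' ψ' hC' hbad v hj hQ
    exact hu (hP u)

end Groth.Agent.DualVar
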