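import Groth.Agent.DualVar.Open
import Groth.Agent.DualVar.Trans
import Groth.Agent.DualVar.Model
import Groth.Agent.DualVar.Witness

/-!
# Charts, second order coordinates at closed points, smoothness of sections at a point
-/

set_option autoImplicit false
set_option linter.style.haveILetI false
set_option linter.unusedSectionVars false
set_option backward.isDefEq.respectTransparency false
set_option backward.isDefEq.respectTransparency.types false

universe u

open CategoryTheory CategoryTheory.Limits AlgebraicGeometry TopologicalSpace Opposite IsLocalRing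
open Groth.Agent.QC (resO resO_resO resO_self)
open Groth.Agent.WeilLib (secStr)

noncomputable section

namespace Groth.Agent.DualVar

section Smooth

variable {k : Type u} [Field k] [IsAlgClosed k] {Z : Scheme.{u}} (p : Z ⟶ Spec (CommRingCat.of k))
  [LocallyOfFiniteType p]

/-- At a closed point smoothness over an algebraically closed field is regularity. -/
theorem smoothAt_iff_regular {z : Z} (hz : IsClosed ({z} : Set Z)) :
    LefPen.SmoothAt p z ↔ IsRegularLocalRing (Z.presheaf.stalk z) := by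
  haveI : IsLocallyNoetherian Z := LocallyOfFiniteType.isLocallyNoetherian p
  letI : Algebra k (Z.presheaf.stalk z) := (SmDiff.baseToStalk p z).hom.toAlgebra
  haveI : Algebra.EssFiniteType k (Z.presheaf.stalk z) := SmDiff.baseToStalk_essFiniteType p z
  have hres : Function.Surjective (algebraMap k (ResidueField (Z.presheaf.stalk z))) :=
    SmDiff.residue_baseToStalk_surjective p hz
  have hbij : Function.Bijective (StructureSheaf.toStalk k (p z)).hom := by
    letI := (StructureSheaf.toStalk k (p z)).hom.toAlgebra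
    haveI : IsLocalization.AtPrime ((Spec.structureSheaf k).presheaf.stalk (p z)) (p z).asIdeal :=
      StructureSheaf.IsLocalization.to_stalk k (p z)
    exact (IsLocalization.atUnits k (p z).asIdeal.primeCompl fun a ha => isUnit_iff_ne_zero.2
      fun h0 => ha (h0 ▸ zero_mem _)).bijective
  let e := RingEquiv.ofBijective _ hbij
  have h1 : LefPen.SmoothAt p z ↔ (SmDiff.baseToStalk p z).hom.FormallySmooth := by
    have hcomp : (p.stalkMap z).hom = (SmDiff.baseToStalk p z).hom.comp e.symm.toRingHom := by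
      refine RingHom.ext fun a => ?_
      obtain ⟨a, rfl⟩ := e.surjective a
      show _ = (SmDiff.baseToStalk p z).hom (e.symm (e a))
      rw [RingEquiv.symm_apply_apply]
      rfl
    constructor
    · intro hfs
      have h2 := RingHom.FormallySmooth.respectsIso.2 (p.stalkMap z).hom e hfs
      rw [hcomp] at h2
      convert h2 using 1
      refine RingHom.ext fun a => ?_
      show _ = (SmDiff.baseToStalk p z).hom (e.symm (e a))
      rw [RingEquiv.symm_apply_apply]
    · intro hfs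
      show (p.stalkMap z).hom.FormallySmooth
      rw [hcomp]
      exact RingHom.FormallySmooth.respectsIso.2 _ e.symm hfs
  rw [h1]
  exact RingHom.formallySmooth_algebraMap.trans (RegOmega.formallySmooth_iff_regular hres).symm

theorem smoothAt_iff_mem [LocallyOfFinitePresentation p] (z : Z) : LefPen.SmoothAt p z ↔ z ∈ p.smoothLocus :=
  Scheme.Hom.mem_smoothLocus.symm

end Smooth

variable {k : Type u} [Field k] {r d : ℕ} {X : Scheme.{u}} (i : X ⟶ CohB1.ProjSpace r k) (n : ℕ)

/-- The algebra of functions on an open of the embedded scheme. -/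
abbrev algV (V : X.Opens) : Algebra k Γ(X, V) := (secStr (str i) V).toAlgebra

/-- An affine chart with a basis of differentials. -/
structure Ch where
  /-- the chart of projective space -/
  l : Fin (r + 1)
  /-- the affine open -/
  V : X.affineOpens
  hV : V.1 ≤ i ⁻¹ᵁ (CompInt.C k r l).1
  /-- the basis of the differentials -/
  b : letI := algV i V.1; Module.Basis (Fin n) Γ(X, V.1) Ω[Γ(X, V.1)⁄k]

variable {i n}

/-- The restrictions of the basic forms. -/
def Ch.h (C : Ch i n) (d : ℕ) : Fin (Module.finrank k (LefPen.Form r k d)) → Γ(X, C.V.1) :=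
  fun c => hmap i C.l C.V.1 C.hV (bF r k d c)

theorem Ch.sum_h (C : Ch i n) (H : LefPen.Form r k d) :
    letI := algV i C.V.1
    ∑ c, co H c • C.h d c = hmap i C.l C.V.1 C.hV H := by
  letI := algV i C.V.1
  let L : LefPen.Form r k d →ₗ[k] Γ(X, C.V.1) :=
    { toFun := hmap i C.l C.V.1 C.hV
      map_add' := hmap_add i C.l C.V.1 C.hV
      map_smul' := fun c H => by rw [RingHom.id_apply, Algebra.smul_def]; exact hmap_smul i C.l C.V.1 C.hV c H }
  show ∑ c, co H c • L (bF r k d c) = L H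
  conv_rhs => rw [← sum_co H, map_sum]
  simp only [map_smul]

variable [IsAlgClosed k] [IsClosedImmersion i] [SmoothOfRelativeDimension n (str i)]

theorem exists_ch {x : X} (hx : IsClosed ({x} : Set X)) : ∃ C : Ch i n, x ∈ C.V.1 := by
  obtain ⟨l, hl⟩ := PicPn.exists_mem_ch (k := k) (n := r) (i x)
  obtain ⟨V₀, hV₀, hxV₀, hV₀U, hstd⟩ := SmDiff.exists_chart (str i) n (x := x) (O := i ⁻¹ᵁ (CompInt.C k r l).1) hl
  let V₁ : X.affineOpens := ⟨V₀, hV₀⟩
  letI := algV i V₁.1
  haveI : Algebra.IsStandardSmoothOfRelativeDimension n k Γ(X, V₁.1) := by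
    have h : (secStr (str i) V₁.1).IsStandardSmoothOfRelativeDimension n := by
      exact (RingHom.isStandardSmoothOfRelativeDimension_respectsIso (n := n)).2 ((str i).appLE ⊤ V₁.1 le_top).hom
        (Scheme.ΓSpecIso (CommRingCat.of k)).symm.commRingCatIsoToRingEquiv hstd
    exact h
  haveI : Nonempty V₁.1 := ⟨⟨x, hxV₀⟩⟩
  haveI := Algebra.IsStandardSmoothOfRelativeDimension.isStandardSmooth n (R := k) (S := Γ(X, V₁.1))
  exact ⟨⟨l, V₁, hV₀U, Module.finBasisOfFinrankEq Γ(X, V₁.1) Ω[Γ(X, V₁.1)⁄k] (Module.finrank_eq_of_rank_eq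
    (Algebra.IsStandardSmoothOfRelativeDimension.rank_kaehlerDifferential n))⟩, hxV₀⟩

variable (C : Ch i n)

/-- The point of the chart ring given by a closed point. -/
def Ch.pt [LocallyOfFiniteType (str i)] {x : X} (hx : IsClosed ({x} : Set X)) (hxV : x ∈ C.V.1) :
    letI := algV i C.V.1
    Γ(X, C.V.1) →ₐ[k] k :=
  letI := algV i C.V.1
  { ev (str i) hx hxV with commutes' := fun c => ev_secStr (str i) hx hxV c }

theorem Ch.pt_apply [LocallyOfFiniteType (str i)] {x : X} (hx : IsClosed ({x} : Set X)) (hxV : x ∈ C.V.1)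
    (a : Γ(X, C.V.1)) :
    letI := algV i C.V.1
    C.pt hx hxV a = ev (str i) hx hxV a := rfl

theorem Ch.exists_pt [LocallyOfFiniteType (str i)] :
    letI := algV i C.V.1
    ∀ ρ : Γ(X, C.V.1) →ₐ[k] k, ∃ (x : X) (hx : IsClosed ({x} : Set X)) (hxV : x ∈ C.V.1), ρ = C.pt hx hxV := by
  letI := algV i C.V.1
  intro ρ
  haveI : JacobsonSpace X := LocallyOfFiniteType.jacobsonSpace (str i)
  let P : Spec Γ(X, C.V.1) := ⟨RingHom.ker ρ.toRingHom, RingHom.ker_isPrime _⟩
  have hmax : (RingHom.ker ρ.toRingHom).IsMaximal :=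
    RingHom.ker_isMaximal_of_surjective _ fun c => ⟨algebraMap k _ c, ρ.commutes c⟩
  have hP : P ∈ closedPoints (Spec Γ(X, C.V.1) : Scheme.{u}) := by
    show IsClosed ({P} : Set (PrimeSpectrum Γ(X, C.V.1)))
    exact (PrimeSpectrum.isClosed_singleton_iff_isMaximal _).2 hmax
  rw [← C.V.2.fromSpec.isOpenEmbedding.preimage_closedPoints] at hP
  have hxV : C.V.2.fromSpec P ∈ C.V.1 := by
    rw [← SetLike.mem_coe, ← C.V.2.range_fromSpec]
    exact Set.mem_range_self P
  refine ⟨C.V.2.fromSpec P, hP, hxV, AlgHom.ext fun a => ?_⟩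
  have hk := ker_ev (str i) hP C.V.2 hxV
  have hPeq : C.V.2.primeIdealOf ⟨C.V.2.fromSpec P, hxV⟩ = P :=
    C.V.2.fromSpec.isOpenEmbedding.injective (C.V.2.fromSpec_primeIdealOf _)
  rw [hPeq] at hk
  have h0 : a - algebraMap k _ (ρ a) ∈ RingHom.ker (ev (str i) hP hxV) := by
    rw [hk]
    show ρ (a - algebraMap k _ (ρ a)) = 0
    simp
  rw [RingHom.mem_ker, map_sub, sub_eq_zero] at h0
  rw [C.pt_apply, h0]
  exact (ev_secStr (str i) hP hxV (ρ a)).symm

theorem Ch.bad_iff [LocallyOfFiniteType (str i)] {x : X} (hx : IsClosed ({x} : Set X)) (hxV : x ∈ C.V.1)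
    (H : LefPen.Form r k d) :
    letI := algV i C.V.1
    (Bad i H x ↔ BadPt C.b (C.h d) (C.pt hx hxV) (co H)) ∧
      (Bad i H x ↔ (X.presheaf.germ C.V.1 x hxV).hom (hmap i C.l C.V.1 C.hV H) ∈ maximalIdeal (X.presheaf.stalk x) ^ 2) ∧
      (Bad i H x ↔ hmap i C.l C.V.1 C.hV H ∈ RingHom.ker (C.pt hx hxV) ^ 2) := by
  letI := algV i C.V.1
  have h2 : Bad i H x ↔
      (X.presheaf.germ C.V.1 x hxV).hom (hmap i C.l C.V.1 C.hV H) ∈ maximalIdeal (X.presheaf.stalk x) ^ 2 := by
    rw [DualVar.bad_iff i H C.V hxV, secIdeal_ideal i H C.l C.V C.hV, Ideal.map_span, Set.image_singleton,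
      Ideal.span_singleton_le_iff_mem]
  have hmax : (RingHom.ker (C.pt hx hxV)).IsMaximal :=
    RingHom.ker_isMaximal_of_surjective _ (fun c => ⟨_, ev_secStr (str i) hx hxV c⟩)
  have hk : RingHom.ker (C.pt hx hxV) = (C.V.2.primeIdealOf ⟨x, hxV⟩).asIdeal := ker_ev (str i) hx C.V.2 hxV
  haveI : (C.V.2.primeIdealOf ⟨x, hxV⟩).asIdeal.IsMaximal := hk ▸ hmax
  letI := (X.presheaf.germ C.V.1 x hxV).hom.toAlgebra
  haveI := C.V.2.isLocalization_stalk ⟨x, hxV⟩
  have h3 : Bad i H x ↔ hmap i C.l C.V.1 C.hV H ∈ RingHom.ker (C.pt hx hxV) ^ 2 := by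
    rw [h2, show (X.presheaf.germ C.V.1 x hxV).hom (hmap i C.l C.V.1 C.hV H) =
        algebraMap Γ(X, C.V.1) (X.presheaf.stalk x) (hmap i C.l C.V.1 C.hV H) from rfl,
      mem_sq_localization (C.V.2.primeIdealOf ⟨x, hxV⟩).asIdeal, hk]
  refine ⟨?_, h2, h3⟩
  rw [h3, mem_sq_iff C.b, ← C.sum_h H]
  refine forall_congr' fun o => ?_
  rw [map_sum, Finset.sum_apply, map_sum]
  simp only [map_smul, Pi.smul_apply, smul_eq_mul]

theorem toStalk_eq {Y : Scheme.{u}} (g : Y ⟶ Spec (CommRingCat.of k)) {V : Y.Opens} {z : Y} (hz : z ∈ V) (c : k) :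
    LefPen.toStalk k g z c = (Y.presheaf.germ V z hz).hom (secStr g V c) := by
  show (Y.presheaf.germ ⊤ z trivial).hom (Coh.toGlobal g c) =
    (Y.presheaf.germ V z hz).hom ((g.appLE ⊤ V le_top).hom ((Scheme.ΓSpecIso (CommRingCat.of k)).inv c))
  exact (Y.presheaf.germ_res_apply (homOfLE (le_top : V ≤ g ⁻¹ᵁ ⊤)) z hz _).symm

/-- The condition that the section has an ordinary quadratic singularity over a point. -/
def OrdAt {r d : ℕ} {X : Scheme.{u}} (i : X ⟶ CohB1.ProjSpace r k) (n : ℕ) (H : LefPen.Form r k d) (x : X) : Prop :=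
  ∀ y : LefPen.Sec i ({H} : Set (LefPen.Form r k d)), LefPen.secι i ({H} : Set (LefPen.Form r k d)) y = x →
    LefPen.IsOrdQuadSing k (n - 1) (LefPen.secToSpec i ({H} : Set (LefPen.Form r k d))) y

theorem ker_stalk (H : LefPen.Form r k d) (C : Ch i n) (z : LefPen.Sec i ({H} : Set (LefPen.Form r k d)))
    (hzV : LefPen.secι i ({H} : Set (LefPen.Form r k d)) z ∈ C.V.1) :
    RingHom.ker ((LefPen.secι i ({H} : Set (LefPen.Form r k d))).stalkMap z).hom =
      Ideal.span {(X.presheaf.germ C.V.1 _ hzV).hom (hmap i C.l C.V.1 C.hV H)} := by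
  rw [CMFlat.ker_stalkMap_eq _ z C.V hzV, ← Scheme.Hom.ker_apply, Scheme.IdealSheafData.ker_subschemeι,
    secIdeal_ideal i H C.l C.V C.hV, Ideal.map_span, Set.image_singleton]

/-- The point of the section over a singular point. -/
theorem exists_sec_point [LocallyOfFiniteType (str i)] {x : X} (hx : IsClosed ({x} : Set X)) (H : LefPen.Form r k d)
    (hB : Bad i H x) : ∃ y : LefPen.Sec i ({H} : Set (LefPen.Form r k d)),
      LefPen.secι i ({H} : Set (LefPen.Form r k d)) y = x ∧ IsClosed ({y} : Set (LefPen.Sec i ({H} : Set (LefPen.Form r k d)))) := by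
  let I := LefPen.secIdeal i ({H} : Set (LefPen.Form r k d))
  obtain ⟨y, rfl⟩ : x ∈ Set.range I.subschemeι := by
    rw [Scheme.IdealSheafData.range_subschemeι]
    show x ∈ I.support
    obtain ⟨l, hl⟩ := PicPn.exists_mem_ch (k := k) (n := r) (i x)
    let U : X.affineOpens := ⟨i ⁻¹ᵁ (CompInt.C k r l).1, (CompInt.C k r l).2.preimage i⟩
    rw [Scheme.IdealSheafData.mem_support_iff_of_mem (U := U) hl, secIdeal_ideal i H l U le_rfl, Scheme.zeroLocus_span,
      Scheme.mem_zeroLocus_iff]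
    intro a ha hmem
    rw [Set.mem_singleton_iff.1 ha, Scheme.mem_basicOpen _ _ _ (show x ∈ U.1 from hl)] at hmem
    have hf := hB U hl
    rw [secIdeal_ideal i H l U le_rfl, Ideal.map_span, Set.image_singleton, Ideal.span_singleton_le_iff_mem] at hf
    exact (mem_maximalIdeal _).1 (Ideal.pow_le_self two_ne_zero hf) hmem
  refine ⟨y, rfl, ?_⟩
  have := hx.preimage I.subschemeι.continuous
  rwa [← Set.image_singleton, Set.preimage_image_eq _ I.subschemeι.isClosedEmbedding.injective] at this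

/-- Second order coordinates at a closed point, detecting ordinary quadratic points. -/
theorem Ch.exists_coord [LocallyOfFiniteType (str i)] (hn : 1 ≤ n) {x : X} (hx : IsClosed ({x} : Set X))
    (hxV : x ∈ C.V.1) :
    letI := algV i C.V.1
    ∃ ψ : Γ(X, C.V.1) →ₐ[k] MvPowerSeries (Fin n) k, Coord (C.pt hx hxV) ψ ∧
      ∀ (d : ℕ) (H : LefPen.Form r k d), Bad i H x → (OrdAt i n H x ↔ ¬ Deg k (ψ (hmap i C.l C.V.1 C.hV H))) := by
  classical
  letI := algV i C.V.1
  obtain ⟨m, rfl⟩ : ∃ m, n = m + 1 := ⟨n - 1, by omega⟩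
  haveI : Smooth (str i) := SmoothOfRelativeDimension.smooth (m + 1) (str i)
  haveI : IsLocallyNoetherian X := LocallyOfFiniteType.isLocallyNoetherian (str i)
  haveI : IsRegularLocalRing (X.presheaf.stalk x) := SmLocalST.isRegularLocalRing_stalk_of_smooth_field (str i) x
  let g : Γ(X, C.V.1) →+* X.presheaf.stalk x := (X.presheaf.germ C.V.1 x hxV).hom
  letI : Algebra k (X.presheaf.stalk x) := (g.comp (secStr (str i) C.V.1)).toAlgebra
  let ρ := C.pt hx hxV
  have hk : RingHom.ker ρ = (C.V.2.primeIdealOf ⟨x, hxV⟩).asIdeal := ker_ev (str i) hx C.V.2 hxV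
  have hmax : (RingHom.ker ρ).IsMaximal :=
    RingHom.ker_isMaximal_of_surjective _ (fun c => ⟨_, ev_secStr (str i) hx hxV c⟩)
  haveI : (C.V.2.primeIdealOf ⟨x, hxV⟩).asIdeal.IsMaximal := hk ▸ hmax
  letI := (X.presheaf.germ C.V.1 x hxV).hom.toAlgebra
  haveI := C.V.2.isLocalization_stalk ⟨x, hxV⟩
  have hgm : ∀ a, g a ∈ maximalIdeal _ ↔ a ∈ RingHom.ker ρ := fun a => by
    rw [hk]
    exact IsLocalization.AtPrime.to_map_mem_maximal_iff (X.presheaf.stalk x) _ a
  have hgm2 : ∀ a, g a ∈ maximalIdeal _ ^ 2 ↔ a ∈ RingHom.ker ρ ^ 2 := fun a => by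
    rw [hk]
    exact mem_sq_localization _ a
  have hgc : ∀ c : k, g (algebraMap k _ c) = algebraMap k (X.presheaf.stalk x) c := fun c => rfl
  -- elements of the local ring to first order
  have happ : ∀ z : X.presheaf.stalk x, ∃ a, g a - z ∈ maximalIdeal _ ^ 2 := by
    intro z
    obtain ⟨⟨a, s⟩, hzs⟩ := IsLocalization.surj (C.V.2.primeIdealOf ⟨x, hxV⟩).asIdeal.primeCompl z
    have hs : ρ (s : Γ(X, C.V.1)) ≠ 0 := fun h => s.2 (hk.le (RingHom.mem_ker.2 h))
    let σ : Γ(X, C.V.1) := algebraMap k _ (ρ (s : Γ(X, C.V.1)))⁻¹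
    let q : Γ(X, C.V.1) := 1 - (s : Γ(X, C.V.1)) * σ
    have hq : g q ∈ maximalIdeal _ := (hgm _).2 (by simp [q, σ, RingHom.mem_ker, hs])
    refine ⟨a * σ * (1 + q), ?_⟩
    have e : g (a * σ * (1 + q)) - z = -z * (g q * g q) := by
      simp only [map_mul, map_add, map_one]
      rw [show g a = z * g (s : Γ(X, C.V.1)) from hzs.symm]
      have hsσ : g (s : Γ(X, C.V.1)) * g σ = 1 - g q := by simp [q]
      linear_combination (z * (1 + g q)) * hsσ
    rw [e, sq]
    exact Ideal.mul_mem_left _ _ (Ideal.mul_mem_mul hq hq)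
  have hres : Function.Surjective ((residue (X.presheaf.stalk x)).comp (algebraMap k (X.presheaf.stalk x))) := by
    intro w
    obtain ⟨z, rfl⟩ := residue_surjective w
    obtain ⟨a, ha⟩ := happ z
    refine ⟨ρ a, ?_⟩
    have h1 : g a - algebraMap k _ (ρ a) ∈ maximalIdeal _ := by
      rw [← hgc, ← map_sub, hgm]; simp [RingHom.mem_ker]
    have h2 := sub_mem (Ideal.pow_le_self two_ne_zero ha) h1
    rw [RingHom.comp_apply, ← sub_eq_zero, ← map_sub, residue_eq_zero_iff]
    convert h2 using 1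
    ring
  obtain ⟨M⟩ := exists_localModel hres (dim_stalk_closed (str i) (m + 1) hx)
  let gA : Γ(X, C.V.1) →ₐ[k] X.presheaf.stalk x := { g with commutes' := fun c => rfl }
  refine ⟨M.j.comp gA, ⟨fun a => ?_, fun a ha => (hgm2 a).1 (M.reflect _ ha), fun l => ?_⟩, fun d H hB => ?_⟩
  · have h1 : M.j (g (a - algebraMap k _ (ρ a))) ∈ maximalIdeal _ := by
      have := M.map_pow 1 (g (a - algebraMap k _ (ρ a)))
      rw [pow_one, pow_one] at this
      exact this ((hgm _).2 (by simp [RingHom.mem_ker]))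
    rw [QuadSingJac.mem_max_iff, map_sub, hgc, map_sub, map_sub, M.j.commutes, MvPowerSeries.algebraMap_apply,
      MvPowerSeries.constantCoeff_C, sub_eq_zero] at h1
    exact h1
  · obtain ⟨z, hz⟩ := M.approx (MvPowerSeries.X l) 2
    obtain ⟨a, ha⟩ := happ z
    refine ⟨a, ?_⟩
    have h2 := sub_mem (M.map_pow 2 _ ha) hz
    rw [map_sub, sub_sub_sub_cancel_right] at h2
    · exact h2
  · obtain ⟨y, rfl, hy⟩ := exists_sec_point hx H hB
    let J := LefPen.secIdeal i ({H} : Set (LefPen.Form r k d))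
    haveI : IsLocallyNoetherian J.subscheme := LocallyOfFiniteType.isLocallyNoetherian J.subschemeι
    have hker := ker_stalk H C y hxV
    have hc : ∀ c : k, LefPen.toStalk k (LefPen.secToSpec i ({H} : Set (LefPen.Form r k d))) y c =
        ((LefPen.secι i ({H} : Set (LefPen.Form r k d))).stalkMap y).hom (algebraMap k _ c) := by
      intro c
      rw [toStalk_eq _ (V := LefPen.secι i ({H} : Set (LefPen.Form r k d)) ⁻¹ᵁ C.V.1) hxV]
      refine Eq.trans ?_ (Scheme.Hom.germ_stalkMap_apply _ C.V.1 y hxV (secStr (str i) C.V.1 c)).symm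
      congr 1
      show ((LefPen.secι i ({H} : Set (LefPen.Form r k d)) ≫ str i).appLE ⊤ _ le_top).hom _ =
        ((str i).appLE ⊤ C.V.1 le_top ≫ (LefPen.secι i ({H} : Set (LefPen.Form r k d))).app C.V.1) _
      rw [← Scheme.Hom.appLE_comp_appLE _ (str i) ⊤ C.V.1 _ le_top le_rfl, Scheme.Hom.appLE_eq_app]
    rw [show M.j.comp gA (hmap i C.l C.V.1 C.hV H) = M.j (g (hmap i C.l C.V.1 C.hV H)) from rfl,
      ← M.ordQuad_iff ((C.bad_iff hx hxV H).2.1.1 hB) _ _ ((LefPen.secι i ({H} : Set (LefPen.Form r k d))).stalkMap_surjective y) hker]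
    constructor
    · intro h
      obtain ⟨-, Q, Q₂, e, he, h1, h2, h3⟩ := h y rfl
      exact ⟨Q, Q₂, e, fun c => by rw [← hc]; exact he c, h1, h2, h3⟩
    · rintro ⟨Q, Q₂, e, he, h1, h2, h3⟩ y' hy'
      obtain rfl := (LefPen.secι i ({H} : Set (LefPen.Form r k d))).isClosedEmbedding.injective hy'
      exact ⟨hy, Q, Q₂, e, fun c => by rw [hc]; exact he c, h1, h2, h3⟩

end Groth.Agent.DualVar
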