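import Groth.Agent.DualVar.Near

/-!
# Forms cutting a single ordinary quadratic point
-/

set_option autoImplicit false
set_option linter.style.haveILetI false
set_option linter.unusedSectionVars false
set_option backward.isDefEq.respectTransparency false
set_option backward.isDefEq.respectTransparency.types false

universe u

open CategoryTheory CategoryTheory.Limits AlgebraicGeometry TopologicalSpace Opposite IsLocalRing
open Groth.Agent.WeilLib (secStr)

noncomputable section

namespace Groth.Agent.DualVar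

variable {k : Type u} [Field k] [IsAlgClosed k] {r d n : ℕ} {X : Scheme.{u}} {i : X ⟶ CohB1.ProjSpace r k}
  [IsClosedImmersion i] [IrreducibleSpace X] [SmoothOfRelativeDimension n (str i)]

local notation "SEC" H => LefPen.Sec i ({H} : Set (LefPen.Form r k d))
local notation "SECι" H => LefPen.secι i ({H} : Set (LefPen.Form r k d))
local notation "SECp" H => LefPen.secToSpec i ({H} : Set (LefPen.Form r k d))

include n

theorem closed_image {H : LefPen.Form r k d} {y : SEC H} (hy : IsClosed ({y} : Set (SEC H))) :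
    IsClosed ({(SECι H) y} : Set X) := by
  have := (SECι H).isClosedEmbedding.isClosedMap _ hy
  rwa [Set.image_singleton] at this

theorem exists_iso_quot {H : LefPen.Form r k d} (y : SEC H) (C : Ch i n) (hV : (SECι H) y ∈ C.V.1) :
    ∃ _e : (X.presheaf.stalk ((SECι H) y) ⧸
        Ideal.span {(X.presheaf.germ C.V.1 _ hV).hom (hmap i C.l C.V.1 C.hV H)}) ≃+*
      (SEC H).presheaf.stalk y, True :=
  ⟨(Ideal.quotEquivOfEq (ker_stalk H C y hV).symm).trans
    (RingHom.quotientKerEquivOfSurjective ((SECι H).stalkMap_surjective y)), trivial⟩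

theorem germ_mem_max {H : LefPen.Form r k d} (y : SEC H) (C : Ch i n) (hV : (SECι H) y ∈ C.V.1) :
    (X.presheaf.germ C.V.1 _ hV).hom (hmap i C.l C.V.1 C.hV H) ∈ maximalIdeal (X.presheaf.stalk ((SECι H) y)) :=
  le_maximalIdeal (RingHom.ker_ne_top _) ((ker_stalk H C y hV).ge (Ideal.subset_span rfl))

theorem smoothAt_of_not_bad {H : LefPen.Form r k d} {y : SEC H} (hy : IsClosed ({y} : Set (SEC H)))
    (hB : ¬ Bad i H ((SECι H) y)) : LefPen.SmoothAt (SECp H) y := by
  haveI : Smooth (str i) := SmoothOfRelativeDimension.smooth n (str i)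
  haveI : LocallyOfFiniteType (str i) := inferInstance
  obtain ⟨C, hV⟩ := exists_ch (n := n) (i := i) (closed_image (n := n) hy)
  haveI : IsRegularLocalRing (X.presheaf.stalk ((SECι H) y)) :=
    SmLocalST.isRegularLocalRing_stalk_of_smooth_field (str i) _
  obtain ⟨e, -⟩ := exists_iso_quot y C hV
  obtain ⟨hq, -⟩ := SerreReg.isRegularLocalRing_quot (germ_mem_max y C hV)
    ((not_congr (C.bad_iff (closed_image (n := n) hy) hV H).2.1).1 hB)
  exact (smoothAt_iff_regular (SECp H) hy).2 (IsRegularLocalRing.of_ringEquiv e)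

theorem germ_eq_zero_of_smoothAt (hn : 1 ≤ n) {H : LefPen.Form r k d} {y : SEC H} (hy : IsClosed ({y} : Set (SEC H)))
    (C : Ch i n) (hV : (SECι H) y ∈ C.V.1) (hB : Bad i H ((SECι H) y)) (hs : LefPen.SmoothAt (SECp H) y) :
    (X.presheaf.germ C.V.1 _ hV).hom (hmap i C.l C.V.1 C.hV H) = 0 := by
  haveI : Smooth (str i) := SmoothOfRelativeDimension.smooth n (str i)
  haveI : LocallyOfFiniteType (str i) := inferInstance
  by_contra hne
  have hx := closed_image (n := n) hy
  haveI : IsRegularLocalRing (X.presheaf.stalk ((SECι H) y)) :=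
    SmLocalST.isRegularLocalRing_stalk_of_smooth_field (str i) _
  obtain ⟨e, -⟩ := exists_iso_quot y C hV
  haveI := (smoothAt_iff_regular (SECp H) hy).1 hs
  haveI := IsRegularLocalRing.of_ringEquiv e.symm
  haveI : IsDomain (X.presheaf.stalk ((SECι H) y)) := RegLoc.isDomain _
  have h1 := ringKrullDim_quotient_span_singleton_succ_eq_ringKrullDim
    (fun a b hab => mul_left_cancel₀ hne hab : IsSMulRegular _ _) (germ_mem_max y C hV)
  rw [dim_stalk_closed (str i) n hx] at h1
  have h2 : ringKrullDim (X.presheaf.stalk ((SECι H) y) ⧸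
      Ideal.span {(X.presheaf.germ C.V.1 _ hV).hom (hmap i C.l C.V.1 C.hV H)}) = ((n - 1 : ℕ) : WithBot ℕ∞) := by
    have h2 : ((n - 1 : ℕ) : WithBot ℕ∞) + ((1 : ℕ) : WithBot ℕ∞) = (n : WithBot ℕ∞) := by
      rw [← Nat.cast_add, Nat.sub_add_cancel hn]
    rw [← Nat.cast_one, ← h2] at h1
    exact le_antisymm (ENat.WithBot.add_le_add_natCast_right_iff.1 h1.le) (ENat.WithBot.add_le_add_natCast_right_iff.1 h1.ge)
  have := le_dim_quot_sq ((C.bad_iff hx hV H).2.1.1 hB) (dim_stalk_closed (str i) n hx) h2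
  omega

/-- A hypersurface containing a neighbourhood of a point contains everything. -/
theorem hmap_eq_zero {H : LefPen.Form r k d} (C : Ch i n) {x : X} (hV : x ∈ C.V.1)
    (h0 : (X.presheaf.germ C.V.1 x hV).hom (hmap i C.l C.V.1 C.hV H) = 0) (C' : Ch i n) :
    hmap i C'.l C'.V.1 C'.hV H = 0 := by
  haveI : Smooth (str i) := SmoothOfRelativeDimension.smooth n (str i)
  haveI : IsReduced X := by
    haveI : ∀ z : X, _root_.IsReduced (X.presheaf.stalk z) := fun z => by
      haveI := SmLocalST.isRegularLocalRing_stalk_of_smooth_field (str i) z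
      haveI : IsDomain (X.presheaf.stalk z) := RegLoc.isDomain _
      infer_instance
    exact isReduced_of_isReduced_stalk X
  let I := LefPen.secIdeal i ({H} : Set (LefPen.Form r k d))
  obtain ⟨W, hxW, iU, iV, heq⟩ := X.presheaf.germ_eq x hV hV (hmap i C.l C.V.1 C.hV H) 0 (by rw [map_zero]; exact h0)
  rw [map_zero] at heq
  have hsub : (W : Set X) ⊆ (I.support : Set X) := by
    intro z hz
    show z ∈ I.support
    rw [Scheme.IdealSheafData.mem_support_iff_of_mem (U := C.V) (iU.le hz), secIdeal_ideal i H C.l C.V C.hV,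
      Scheme.zeroLocus_span, Scheme.mem_zeroLocus_iff]
    intro a ha hmem
    rw [Set.mem_singleton_iff.1 ha] at hmem
    have h2 : z ∈ X.basicOpen ((X.presheaf.map iU.op).hom (hmap i C.l C.V.1 C.hV H)) := by
      rw [Scheme.basicOpen_res]
      exact ⟨hz, hmem⟩
    rw [show (X.presheaf.map iU.op).hom (hmap i C.l C.V.1 C.hV H) = 0 from heq, Scheme.basicOpen_zero] at h2
    exact h2
  have huniv : ∀ z : X, z ∈ I.support := fun z => by
    have hd : closure (W : Set X) = Set.univ := (W.isOpen.dense ⟨x, hxW⟩).closure_eq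
    exact closure_minimal hsub I.support.isClosed (hd.ge trivial)
  have hbot : X.basicOpen (hmap i C'.l C'.V.1 C'.hV H) = ⊥ := by
    refine eq_bot_iff.2 fun z hz => ?_
    have := huniv z
    rw [Scheme.IdealSheafData.mem_support_iff_of_mem (U := C'.V) (X.basicOpen_le _ hz),
      secIdeal_ideal i H C'.l C'.V C'.hV, Scheme.zeroLocus_span, Scheme.mem_zeroLocus_iff] at this
    exact this _ rfl hz
  exact (basicOpen_eq_bot_iff _).1 hbot

theorem smoothAt_of_germ_eq_zero {H : LefPen.Form r k d} (C : Ch i n) {x : X} (hV : x ∈ C.V.1)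
    (h0 : (X.presheaf.germ C.V.1 x hV).hom (hmap i C.l C.V.1 C.hV H) = 0) {y : SEC H}
    (hy : IsClosed ({y} : Set (SEC H))) : LefPen.SmoothAt (SECp H) y := by
  haveI : Smooth (str i) := SmoothOfRelativeDimension.smooth n (str i)
  haveI : LocallyOfFiniteType (str i) := inferInstance
  obtain ⟨C', hV'⟩ := exists_ch (n := n) (i := i) (closed_image (n := n) hy)
  obtain ⟨e, -⟩ := exists_iso_quot y C' hV'
  haveI : IsRegularLocalRing (X.presheaf.stalk ((SECι H) y)) :=
    SmLocalST.isRegularLocalRing_stalk_of_smooth_field (str i) _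
  have hb : Ideal.span {(X.presheaf.germ C'.V.1 _ hV').hom (hmap i C'.l C'.V.1 C'.hV H)} = ⊥ := by
    rw [hmap_eq_zero C hV h0 C', map_zero, Ideal.span_singleton_eq_bot]
  exact (smoothAt_iff_regular (SECp H) hy).2
    (IsRegularLocalRing.of_ringEquiv ((RingEquiv.quotientBot _).symm.trans ((Ideal.quotEquivOfEq hb.symm).trans e)))

/-- What it means to cut a single ordinary quadratic point. -/
theorem oneOrdQuad_iff (hn : 1 ≤ n) (H : LefPen.Form r k d) :
    LefPen.OneOrdQuad k n i H ↔ ∃ x : X, IsClosed ({x} : Set X) ∧ Bad i H x ∧ OrdAt i n H x ∧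
      ∀ x' : X, IsClosed ({x'} : Set X) → Bad i H x' → x' = x := by
  classical
  haveI : Smooth (str i) := SmoothOfRelativeDimension.smooth n (str i)
  haveI : LocallyOfFiniteType (str i) := inferInstance
  haveI : LocallyOfFiniteType (SECp H) := inferInstance
  haveI : LocallyOfFinitePresentation (SECp H) := by
    haveI : IsLocallyNoetherian (Spec (CommRingCat.of k)) := inferInstance
    exact inferInstance
  haveI : JacobsonSpace (SEC H) := LocallyOfFiniteType.jacobsonSpace (SECp H)
  constructor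
  · rintro ⟨y, hys, hord⟩
    have hyc := hord.1
    have hns : ¬ LefPen.SmoothAt (SECp H) y := fun h => (Set.ext_iff.1 hys y).1 h rfl
    refine ⟨(SECι H) y, closed_image (n := n) hyc, not_not.1 fun h => hns (smoothAt_of_not_bad (n := n) hyc h),
      fun y' hy' => ?_, fun x' hx' hB' => ?_⟩
    · rwa [(SECι H).isClosedEmbedding.injective hy']
    · obtain ⟨y', rfl, hy'c⟩ := exists_sec_point hx' H hB'
      by_contra hne
      have hy's : LefPen.SmoothAt (SECp H) y' := (Set.ext_iff.1 hys y').2 fun h => hne (by rw [Set.mem_singleton_iff.1 h])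
      obtain ⟨C, hV⟩ := exists_ch (n := n) (i := i) hx'
      exact hns (smoothAt_of_germ_eq_zero C hV (germ_eq_zero_of_smoothAt hn hy'c C hV hB' hy's) hyc)
  · rintro ⟨x, hx, hB, hord, huniq⟩
    obtain ⟨y, rfl, hy⟩ := exists_sec_point hx H hB
    obtain ⟨C, hV⟩ := exists_ch (n := n) (i := i) hx
    obtain ⟨ψ, -, hψ⟩ := C.exists_coord hn hx hV
    have hns : ¬ LefPen.SmoothAt (SECp H) y := by
      intro hs
      refine (hψ d H hB).1 hord ?_
      letI := algV i C.V.1
      rw [hmap_eq_zero C hV (germ_eq_zero_of_smoothAt hn hy C hV hB hs) C, map_zero]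
      refine ⟨Pi.single ⟨0, hn⟩ 1, fun h => one_ne_zero (α := k) (by simpa using congrFun h ⟨0, hn⟩), ?_, fun u => ?_⟩
      · simp [Qf]
      · simp [pol, Qf]
    refine ⟨y, ?_, hord y rfl⟩
    have hset : {y' : SEC H | ¬ LefPen.SmoothAt (SECp H) y'} = {y} := by
      have hcl : IsClosed {y' : SEC H | ¬ LefPen.SmoothAt (SECp H) y'} := by
        simp only [smoothAt_iff_mem]
        exact (SECp H).smoothLocus.isOpen.isClosed_compl
      refine Set.eq_singleton_iff_unique_mem.2 ⟨hns, fun y' hy' => ?_⟩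
      have hsub : {y' : SEC H | ¬ LefPen.SmoothAt (SECp H) y'} ∩ closedPoints (SEC H) ⊆ {y} := by
        rintro a ⟨ha, hac⟩
        refine (SECι H).isClosedEmbedding.injective (huniq _ (closed_image (n := n) hac) ?_)
        by_contra hb
        exact ha (smoothAt_of_not_bad (n := n) hac hb)
      exact hy.closure_subset_iff.2 hsub ((closure_inter_closedPoints hcl (X := SEC H)).ge hy')
    ext a
    have ha := Set.ext_iff.1 hset a
    simp only [Set.mem_setOf_eq, Set.mem_compl_iff, Set.mem_singleton_iff] at ha ⊢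
    tauto

/-- Forms cutting a single ordinary quadratic point form an open subset of the singular forms. -/
theorem exists_poly_oneOrdQuad (hn : 1 ≤ n) (hd : 1 ≤ d) (H₀ : LefPen.Form r k d)
    (h₀ : LefPen.OneOrdQuad k n i H₀) :
    ∃ f : CoR k r d, MvPolynomial.eval (co H₀) f ≠ 0 ∧ ∀ H : LefPen.Form r k d, MvPolynomial.eval (co H) f ≠ 0 →
      (∃ x : X, IsClosed ({x} : Set X) ∧ Bad i H x) → LefPen.OneOrdQuad k n i H := by
  classical
  haveI : Smooth (str i) := SmoothOfRelativeDimension.smooth n (str i)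
  haveI : LocallyOfFiniteType (str i) := inferInstance
  obtain ⟨x₀, hx₀, hB₀, hord₀, huniq⟩ := (oneOrdQuad_iff hn H₀).1 h₀
  obtain ⟨C, hV₀⟩ := exists_ch (n := n) (i := i) hx₀
  letI := algV i C.V.1
  obtain ⟨f₁, hf₁, hf₁s⟩ := exists_poly_near n C H₀ fun x hx hB => huniq x hx hB ▸ hV₀
  obtain ⟨ψ, hC, hψ⟩ := C.exists_coord hn hx₀ hV₀
  haveI : Algebra.FiniteType k Γ(X, C.V.1) := WeilLib.finiteType_secStr (str i) C.V.2
  obtain ⟨M, π, hπ⟩ := Algebra.FiniteType.iff_quotient_mvPolynomial''.1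
    (inferInstance : Algebra.FiniteType k Γ(X, C.V.1))
  have hT : Function.Surjective (MvPolynomial.aeval (R := k) (π ∘ MvPolynomial.X)) := by
    rw [show MvPolynomial.aeval (π ∘ MvPolynomial.X) = π from MvPolynomial.algHom_ext fun _ => by simp]
    exact hπ
  have hmax : ∀ {ρ : Γ(X, C.V.1) →ₐ[k] k} {ψ : Γ(X, C.V.1) →ₐ[k] MvPowerSeries (Fin n) k}, Coord ρ ψ →
      ∀ z ∈ RingHom.ker ρ ^ 2, ψ z ∈ maximalIdeal (MvPowerSeries (Fin n) k) ^ 2 := by
    intro ρ ψ hC z hz
    have hle : (RingHom.ker ρ).map ψ ≤ maximalIdeal (MvPowerSeries (Fin n) k) := by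
      refine Ideal.map_le_iff_le_comap.2 fun a ha => ?_
      rw [Ideal.mem_comap, QuadSingJac.mem_max_iff, hC.const]
      exact ha
    have := Ideal.mem_map_of_mem ψ hz
    rw [Ideal.map_pow] at this
    exact Ideal.pow_right_mono hle 2 this
  obtain ⟨f₂, hf₂, hf₂s⟩ := exists_poly_nice C.b (C.h d) (π ∘ MvPolynomial.X) hT hC (co H₀)
    (by rw [C.sum_h]; exact hmax hC _ ((C.bad_iff hx₀ hV₀ H₀).2.2.1 hB₀))
    (by rw [C.sum_h]; exact (hψ d H₀ hB₀).1 hord₀) (intHyp_of_unique n C H₀ hx₀ hV₀ huniq)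
  refine ⟨f₁ * f₂, by rw [map_mul]; exact mul_ne_zero hf₁ hf₂, fun H hH ⟨x, hx, hB⟩ => ?_⟩
  rw [map_mul, mul_ne_zero_iff] at hH
  have hxV := hf₁s H hH.1 x hx hB
  obtain ⟨huni, hnd⟩ := hf₂s (co H) hH.2
  obtain ⟨ψ', hC', hψ'⟩ := C.exists_coord hn hx hxV
  refine (oneOrdQuad_iff hn H).2 ⟨x, hx, hB, (hψ' d H hB).2 ?_, fun x' hx' hB' => ?_⟩
  · have := hnd _ ψ' hC' ((C.bad_iff hx hxV H).1.1 hB)
    rwa [C.sum_h] at this
  · have hx'V := hf₁s H hH.1 x' hx' hB'
    have he := huni _ _ ((C.bad_iff hx' hx'V H).1.1 hB') ((C.bad_iff hx hxV H).1.1 hB)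
    have h1 : RingHom.ker (ev (str i) hx' hx'V) = RingHom.ker (ev (str i) hx hxV) := by
      ext a
      rw [RingHom.mem_ker, RingHom.mem_ker, ← C.pt_apply, ← C.pt_apply, he]
    rw [ker_ev (str i) hx' C.V.2 hx'V, ker_ev (str i) hx C.V.2 hxV] at h1
    have h2 := congrArg C.V.2.fromSpec (PrimeSpectrum.ext h1)
    rwa [C.V.2.fromSpec_primeIdealOf, C.V.2.fromSpec_primeIdealOf] at h2

end Groth.Agent.DualVar
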