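import Mathlib

/-!
# Cones containing no hypersurface, lines avoiding them
-/

set_option autoImplicit false
set_option linter.style.haveILetI false
set_option linter.unusedSectionVars false

universe u

noncomputable section

namespace Groth.Agent.DualVar

open MvPolynomial

variable {k : Type u} [Field k] {σ : Type} [Fintype σ]

/-- The set contains no hypersurface. -/
def NoHyp (W : Set (σ → k)) : Prop :=
  ∀ p : MvPolynomial σ k, Irreducible p → ∃ v, eval v p = 0 ∧ v ∉ W

/-- Substitution by a linear map. -/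
def linSub (L : (σ → k) →ₗ[k] (σ → k)) : MvPolynomial σ k →ₐ[k] MvPolynomial σ k := by
  classical
  exact aeval fun i => ∑ j, C (L (Pi.single j 1) i) * X j

theorem eval_linSub (L : (σ → k) →ₗ[k] (σ → k)) (v : σ → k) (p : MvPolynomial σ k) :
    eval v (linSub L p) = eval (L v) p := by
  classical
  refine RingHom.congr_fun (f := (eval v).comp (linSub L).toRingHom) (g := eval (L v))
    (ringHom_ext (fun c => by simp [linSub]) fun i => ?_) p
  simp only [linSub, AlgHom.toRingHom_eq_coe, RingHom.comp_apply, RingHom.coe_coe, aeval_X, map_sum, map_mul, eval_C,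
    eval_X]
  conv_rhs => rw [pi_eq_sum_univ' v, map_sum, Finset.sum_apply]
  exact Finset.sum_congr rfl fun j _ => by rw [map_smul, Pi.smul_apply, smul_eq_mul, mul_comm]

theorem linSub_comp [Infinite k] (L M : (σ → k) ≃ₗ[k] (σ → k)) (h : ∀ v, M (L v) = v) (p : MvPolynomial σ k) :
    linSub L.toLinearMap (linSub M.toLinearMap p) = p :=
  MvPolynomial.funext fun v => by rw [eval_linSub, eval_linSub]; exact congrArg (fun w => eval w p) (h v)

variable [IsAlgClosed k]

/-- A pencil avoiding a cone for a generic pair: the cone contains no hypersurface. -/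
theorem noHyp_of_generic (W : Set (σ → k)) (hcone : ∀ t : k, t ≠ 0 → ∀ v ∈ W, t • v ∈ W)
    (g : MvPolynomial (σ ⊕ σ) k) (hg : g ≠ 0)
    (havoid : ∀ F G : σ → k, eval (Sum.elim F G) g ≠ 0 → G ∉ W ∧ ∀ c : k, F + c • G ∉ W) : NoHyp W := by
  intro p hp
  by_contra hno
  push Not at hno
  let p₀ := eval (0 : σ → k) p
  let h : MvPolynomial (σ ⊕ σ) k := rename Sum.inl p - C p₀
  have hh : h ≠ 0 := by
    intro h0
    have hC : p = C p₀ := by
      refine rename_injective (Sum.inl : σ → σ ⊕ σ) Sum.inl_injective ?_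
      rw [rename_C, ← sub_eq_zero]; exact h0
    rw [hC] at hp
    by_cases h : p₀ = 0
    · rw [h, map_zero] at hp; exact not_irreducible_zero hp
    · exact hp.not_isUnit ((isUnit_iff_ne_zero.2 h).map C)
  obtain ⟨v, hv⟩ : ∃ v, eval v (g * h) ≠ 0 := by
    by_contra hno'
    push Not at hno'
    exact mul_ne_zero hg hh (MvPolynomial.funext fun v => by rw [hno' v, map_zero])
  rw [map_mul, mul_ne_zero_iff] at hv
  let F := v ∘ Sum.inl
  let G := v ∘ Sum.inr
  have hvFG : Sum.elim F G = v := Sum.elim_comp_inl_inr v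
  obtain ⟨hG, hF⟩ := havoid F G (hvFG ▸ hv.1)
  have hF0 : F ∉ W := by simpa using hF 0
  have hFp : eval F p ≠ p₀ := by
    intro he
    refine hv.2 ?_
    simp only [h, map_sub, eval_rename, eval_C]
    exact sub_eq_zero.2 he
  let q : k → Polynomial k := fun t => aeval (fun i => Polynomial.X * Polynomial.C (F i) + Polynomial.C (t * G i)) p
  have hq : ∀ t s, (q t).eval s = eval (s • F + t • G) p := by
    intro t s
    refine RingHom.congr_fun (f := (Polynomial.evalRingHom s).comp
      (aeval fun i => Polynomial.X * Polynomial.C (F i) + Polynomial.C (t * G i)).toRingHom) (g := eval (s • F + t • G))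
      (ringHom_ext (fun c => by simp) fun i => by simp; ring) p
  have hzero : ∀ s t : k, (s ≠ 0 ∨ t ≠ 0) → eval (s • F + t • G) p ≠ 0 := by
    intro s t hst he
    have hW := hno _ he
    by_cases hs : s = 0
    · have ht := hst.resolve_left (not_not.2 hs)
      refine hG ?_
      have := hcone t⁻¹ (inv_ne_zero ht) _ hW
      rwa [hs, zero_smul, zero_add, smul_smul, inv_mul_cancel₀ ht, one_smul] at this
    · refine hF (t / s) ?_
      have := hcone s⁻¹ (inv_ne_zero hs) _ hW
      rwa [smul_add, smul_smul, smul_smul, inv_mul_cancel₀ hs, one_smul, mul_comm, ← div_eq_mul_inv] at this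
  have hconst : ∀ t : k, t ≠ 0 → ∀ s : k, eval (s • F + t • G) p = eval (t • G) p := by
    intro t ht s
    have hnr : (q t).natDegree = 0 := by
      by_contra hd
      obtain ⟨z, hz⟩ := IsAlgClosed.exists_root (q t) fun hdeg => hd (Polynomial.natDegree_eq_zero_iff_degree_le_zero.2 hdeg.le)
      exact hzero z t (Or.inr ht) (by rw [← hq]; exact hz)
    rw [← hq, Polynomial.eq_C_of_natDegree_eq_zero hnr, Polynomial.eval_C]
    have h0 := hq t 0
    rw [Polynomial.eq_C_of_natDegree_eq_zero hnr, Polynomial.eval_C, zero_smul, zero_add] at h0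
    exact h0
  let u : Polynomial k := aeval (fun i => Polynomial.C (F i) + Polynomial.X * Polynomial.C (G i)) p -
    aeval (fun i => Polynomial.X * Polynomial.C (G i)) p
  have hu : ∀ t, u.eval t = eval (F + t • G) p - eval (t • G) p := by
    intro t
    simp only [u, Polynomial.eval_sub]
    congr 1
    · exact RingHom.congr_fun (f := (Polynomial.evalRingHom t).comp
        (aeval fun i => Polynomial.C (F i) + Polynomial.X * Polynomial.C (G i)).toRingHom) (g := eval (F + t • G))
        (ringHom_ext (fun c => by simp) fun i => by simp; ring) p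
    · exact RingHom.congr_fun (f := (Polynomial.evalRingHom t).comp
        (aeval fun i => Polynomial.X * Polynomial.C (G i)).toRingHom) (g := eval (t • G))
        (ringHom_ext (fun c => by simp) fun i => by simp; ring) p
  have hu0 : u = 0 := by
    refine Polynomial.eq_zero_of_infinite_isRoot u (Set.Infinite.mono (s := {0}ᶜ) (fun t ht => ?_)
      (Set.finite_singleton (0 : k)).infinite_compl)
    show u.eval t = 0
    have := hconst t ht 1
    rw [one_smul] at this
    rw [hu, this, sub_self]
  have := hu 0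
  rw [hu0, Polynomial.eval_zero, zero_smul, add_zero] at this
  exact hFp (sub_eq_zero.1 this.symm)

/-- Projection of a cone without hypersurfaces from an outside coordinate point is not everything. -/
theorem exists_avoid_coord {N : ℕ} (W : Set (Fin (N + 1) → k))
    (hclosed : ∀ v ∉ W, ∃ p : MvPolynomial (Fin (N + 1)) k, (∀ w ∈ W, eval w p = 0) ∧ eval v p ≠ 0)
    (hW : NoHyp W) (he : (Fin.cons 1 0 : Fin (N + 1) → k) ∉ W) :
    ∃ w : Fin N → k, ∀ a : k, (Fin.cons a w : Fin (N + 1) → k) ∉ W := by
  classical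
  by_contra hno
  push Not at hno
  let I : Ideal (MvPolynomial (Fin (N + 1)) k) :=
    { carrier := {p | ∀ w ∈ W, eval w p = 0}
      add_mem' := fun {p q} hp hq w hw => by rw [map_add, hp w hw, hq w hw, add_zero]
      zero_mem' := fun w hw => map_zero _
      smul_mem' := fun c p hp w hw => by rw [smul_eq_mul, map_mul, hp w hw, mul_zero] }
  let R := MvPolynomial (Fin N) k
  let ι : R →ₐ[k] MvPolynomial (Fin (N + 1)) k := rename Fin.succ
  let f : R →+* MvPolynomial (Fin (N + 1)) k ⧸ I := (Ideal.Quotient.mk I).comp ι.toRingHom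
  have hf : RingHom.ker f = ⊥ := by
    rw [eq_bot_iff]
    intro p hp
    rw [Ideal.mem_bot]
    refine MvPolynomial.funext fun w => ?_
    obtain ⟨a, ha⟩ := hno w
    have := (Ideal.Quotient.eq_zero_iff_mem.1 hp : ι p ∈ I) _ ha
    rw [show ι p = rename Fin.succ p from rfl, eval_rename, show (Fin.cons a w : Fin (N + 1) → k) ∘ Fin.succ = w from
      funext fun i => Fin.cons_succ _ _ i] at this
    rw [this, map_zero]
  obtain ⟨P, hP, -, hPR⟩ := Ideal.exists_comap_eq_of_mem_minimalPrimes f ⊥ (by
    rw [show Ideal.comap f ⊥ = ⊥ from hf, show (⊥ : Ideal R).minimalPrimes = {⊥} from Ideal.minimalPrimes_eq_subsingleton_self]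
    exact rfl)
  let Q : Ideal (MvPolynomial (Fin (N + 1)) k) := P.comap (Ideal.Quotient.mk I)
  haveI : Q.IsPrime := Ideal.IsPrime.comap _
  have hIQ : I ≤ Q := fun p hp => by
    show Ideal.Quotient.mk I p ∈ P
    rw [Ideal.Quotient.eq_zero_iff_mem.2 hp]
    exact zero_mem _
  have hQR : ∀ c : R, ι c ∈ Q → c = 0 := fun c hc => by
    have : c ∈ P.comap f := hc
    rwa [hPR, Ideal.mem_bot] at this
  obtain ⟨p₁, hp₁I, hp₁⟩ := hclosed _ he
  obtain ⟨p, hpQ, hp⟩ := Ideal.IsPrime.exists_mem_prime_of_ne_bot ‹Q.IsPrime› (fun h => hp₁ (by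
    have := hIQ (show p₁ ∈ I from hp₁I)
    rw [h, Ideal.mem_bot] at this
    rw [this, map_zero]))
  obtain ⟨v, hv, hvW⟩ := hW p hp.irreducible
  obtain ⟨q, hqI, hqv⟩ := hclosed v hvW
  -- the polynomial ring over the invariants
  let Φ := finSuccEquiv k N
  have hι : ∀ c : R, Φ (ι c) = Polynomial.C c := by
    intro c
    refine RingHom.congr_fun (f := (Φ.toAlgHom.toRingHom.comp ι.toRingHom)) (g := Polynomial.C)
      (ringHom_ext (fun a => ?_) fun i => ?_) c
    · show Φ (rename Fin.succ (C a)) = Polynomial.C (C a)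
      rw [rename_C]
      simp [Φ, finSuccEquiv_apply]
    · show Φ (rename Fin.succ (X i)) = Polynomial.C (X i)
      rw [rename_X]
      exact finSuccEquiv_X_succ
  let J : Ideal (Polynomial R) := Q.comap Φ.symm.toRingEquiv.toRingHom
  haveI : J.IsPrime := Ideal.IsPrime.comap _
  have hJ : ∀ z, Φ z ∈ J ↔ z ∈ Q := fun z => by
    show Φ.symm (Φ z) ∈ Q ↔ _
    rw [AlgEquiv.symm_apply_apply]
  have hJC : ∀ c : R, Polynomial.C c ∈ J → c = 0 := fun c hc => hQR c (by rwa [← hι, hJ] at hc)
  have hPp : Prime (Φ p) := (MulEquiv.prime_iff Φ.toRingEquiv.toMulEquiv).2 hp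
  have hdeg : (Φ p).natDegree ≠ 0 := by
    intro hd
    have := (hJ p).2 hpQ
    rw [Polynomial.eq_C_of_natDegree_eq_zero hd] at this
    have h0 := hJC _ this
    apply hPp.ne_zero
    rw [Polynomial.eq_C_of_natDegree_eq_zero hd, h0, map_zero]
  have hprim : (Φ p).IsPrimitive := hPp.irreducible.isPrimitive hdeg
  have hdvd : Φ p ∣ Φ q := by
    have he' : Φ q ∈ J := (hJ q).2 (hIQ hqI)
    let K := FractionRing R
    have hirr := (hprim.irreducible_iff_irreducible_map_fraction_map (K := K)).1 hPp.irreducible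
    refine hprim.dvd_of_fraction_map_dvd_fraction_map (K := K) ?_
    by_contra hnd
    obtain ⟨a, b, hab⟩ := (hirr.coprime_iff_not_dvd).2 hnd
    obtain ⟨⟨sa, hsa⟩, ha⟩ := IsLocalization.integerNormalization_map_to_map (nonZeroDivisors R) a
    obtain ⟨⟨sb, hsb⟩, hb⟩ := IsLocalization.integerNormalization_map_to_map (nonZeroDivisors R) b
    simp only [Subtype.coe_mk, Algebra.smul_def, Polynomial.algebraMap_apply] at ha hb
    have hc : Polynomial.C (sa * sb) =
        IsLocalization.integerNormalization (nonZeroDivisors R) a * Polynomial.C sb * Φ p +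
          IsLocalization.integerNormalization (nonZeroDivisors R) b * Polynomial.C sa * Φ q := by
      refine Polynomial.map_injective (algebraMap R K) (IsFractionRing.injective R K) ?_
      rw [Polynomial.map_C, Polynomial.map_add, Polynomial.map_mul, Polynomial.map_mul, Polynomial.map_mul,
        Polynomial.map_mul, ha, hb, Polynomial.map_C, Polynomial.map_C, map_mul, map_mul]
      linear_combination -(Polynomial.C (algebraMap R K sa) * Polynomial.C (algebraMap R K sb)) * hab
    have := hJC (sa * sb) (by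
      rw [hc]
      exact add_mem (Ideal.mul_mem_left _ _ ((hJ p).2 hpQ)) (Ideal.mul_mem_left _ _ he'))
    exact mul_ne_zero (nonZeroDivisors.ne_zero hsa) (nonZeroDivisors.ne_zero hsb) this
  apply hqv
  obtain ⟨z, hz⟩ := hdvd
  have : q = p * Φ.symm z := Φ.injective (by rw [map_mul, AlgEquiv.apply_symm_apply, hz])
  rw [this, map_mul, hv, zero_mul]

/-- A line through an outside point avoiding a cone without hypersurfaces. -/
theorem exists_avoid {N : ℕ} (W : Set (Fin N → k)) (hcone : ∀ t : k, t ≠ 0 → ∀ v ∈ W, t • v ∈ W)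
    (hclosed : ∀ v ∉ W, ∃ p : MvPolynomial (Fin N) k, (∀ w ∈ W, eval w p = 0) ∧ eval v p ≠ 0)
    (hW : NoHyp W) (H₀ : Fin N → k) (hH₀ : H₀ ∉ W) :
    ∃ G : Fin N → k, ∀ a : k, G + a • H₀ ∉ W := by
  classical
  by_cases h0 : H₀ = 0
  · refine ⟨0, fun a => ?_⟩
    rw [h0, smul_zero, add_zero]
    exact h0 ▸ hH₀
  obtain ⟨N, rfl⟩ : ∃ M, N = M + 1 := by
    rcases N with _ | M
    · exact absurd (funext fun i => i.elim0) h0
    · exact ⟨M, rfl⟩
  let e₀ : Fin (N + 1) → k := Fin.cons 1 0
  obtain ⟨θ, hθ⟩ : ∃ θ : (Fin (N + 1) → k) ≃ₗ[k] (Fin (N + 1) → k), θ e₀ = H₀ := by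
    obtain ⟨a, ha⟩ := Function.ne_iff.1 h0
    let s := Equiv.swap (0 : Fin (N + 1)) a
    have hs0 : s 0 = a := Equiv.swap_apply_left _ _
    let T : (Fin (N + 1) → k) →ₗ[k] (Fin (N + 1) → k) :=
      { toFun := fun v => v 0 • H₀ + (fun i => if i = a then 0 else v (s i))
        map_add' := fun v w => funext fun i => by by_cases h : i = a <;> simp [h, add_mul] <;> ring
        map_smul' := fun c v => funext fun i => by by_cases h : i = a <;> simp [h, mul_assoc] <;> ring }
    have hT : Function.Injective T := by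
      refine (injective_iff_map_eq_zero T).2 fun v hv => ?_
      have hva := congrFun hv a
      simp [T] at hva
      have hv0 : v 0 = 0 := hva.resolve_right ha
      funext j
      by_cases hj : j = 0
      · rw [hj, hv0]; rfl
      · have hne : s j ≠ a := fun h => hj (s.injective (h.trans hs0.symm))
        have := congrFun hv (s j)
        simpa [T, hv0, hne, s] using this
    refine ⟨LinearEquiv.ofBijective T ⟨hT, LinearMap.injective_iff_surjective.1 hT⟩, ?_⟩
    funext i
    show T e₀ i = H₀ i
    by_cases h : i = a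
    · simp [T, e₀, h]
    · have hne : s i ≠ 0 := fun h' => h (s.injective (h'.trans (Equiv.swap_apply_right (0 : Fin (N + 1)) a).symm))
      obtain ⟨j, hj⟩ := Fin.exists_succ_eq.2 hne
      simp [T, e₀, h, ← hj]
  let W' : Set (Fin (N + 1) → k) := {v | θ v ∈ W}
  have hclosed' : ∀ v ∉ W', ∃ p : MvPolynomial (Fin (N + 1)) k, (∀ w ∈ W', eval w p = 0) ∧ eval v p ≠ 0 := by
    intro v hv
    obtain ⟨p, hp, hpv⟩ := hclosed (θ v) hv
    exact ⟨linSub θ.toLinearMap p, fun w hw => by rw [eval_linSub]; exact hp _ hw, by rw [eval_linSub]; exact hpv⟩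
  have hW' : NoHyp W' := by
    intro p hp
    let φ : MvPolynomial (Fin (N + 1)) k ≃* MvPolynomial (Fin (N + 1)) k :=
      { toFun := linSub θ.symm.toLinearMap
        invFun := linSub θ.toLinearMap
        left_inv := linSub_comp θ θ.symm θ.symm_apply_apply
        right_inv := linSub_comp θ.symm θ θ.apply_symm_apply
        map_mul' := map_mul _ }
    obtain ⟨v, hv, hvW⟩ := hW (φ p) (hp.map φ)
    refine ⟨θ.symm v, ?_, fun h => hvW (by simpa [W'] using h)⟩
    rw [show φ p = linSub θ.symm.toLinearMap p from rfl, eval_linSub] at hv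
    exact hv
  obtain ⟨w, hw⟩ := exists_avoid_coord W' hclosed' hW' (show θ e₀ ∉ W by rw [hθ]; exact hH₀)
  refine ⟨θ (Fin.cons 0 w), fun a ha => hw a ?_⟩
  show θ (Fin.cons a w) ∈ W
  rwa [show (Fin.cons a w : Fin (N + 1) → k) = Fin.cons 0 w + a • e₀ from funext fun i => by
    refine Fin.cases ?_ ?_ i <;> simp [e₀], map_add, map_smul, hθ]

end Groth.Agent.DualVar
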