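import Groth.Agent.DualVar.PencilOpen
import Groth.Agent.DualVar.NoHyp
import Groth.Agent.DualVar.RankDim
import Groth.Agent.DualVar.Jets

/-!
# Lefschetz pencils through a given transversal form
-/

set_option autoImplicit false
set_option linter.style.haveILetI false
set_option linter.unusedSectionVars false
set_option backward.isDefEq.respectTransparency false
set_option backward.isDefEq.respectTransparency.types false

universe u

open CategoryTheory CategoryTheory.Limits AlgebraicGeometry TopologicalSpace Opposite IsLocalRing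
open Groth.Agent.WeilLib (secStr)

noncomputable section

namespace Groth.Agent.DualVar

open MvPolynomial (eval)

theorem ufm (σ : Type) [Finite σ] (k : Type u) [Field k] : UniqueFactorizationMonoid (MvPolynomial σ k) := inferInstance

variable {k : Type u} [Field k] [IsAlgClosed k] {r d n : ℕ} {X : Scheme.{u}} {i : X ⟶ CohB1.ProjSpace r k}
  [IsClosedImmersion i] [IrreducibleSpace X] [SmoothOfRelativeDimension n (str i)]

include n

/-- A single ordinary quadratic point somewhere: the worse forms contain no hypersurface. -/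
theorem noHyp_wbad_of_one (hn : 1 ≤ n) (hd : 1 ≤ d) (H₁ : LefPen.Form r k d) (h₁ : LefPen.OneOrdQuad k n i H₁) :
    NoHyp (WBad (d := d) i n) := by
  classical
  haveI : Smooth (str i) := SmoothOfRelativeDimension.smooth n (str i)
  haveI : LocallyOfFiniteType (str i) := inferInstance
  haveI hufm : UniqueFactorizationMonoid (CoR k r d) := ufm _ k
  obtain ⟨x₁, hx₁, hB₁, -, -⟩ := (oneOrdQuad_iff hn H₁).1 h₁
  let Bd : Set (Fin (Module.finrank k (LefPen.Form r k d)) → k) :=
    {v | ∃ x : X, IsClosed ({x} : Set X) ∧ Bad i (fc (d := d) v) x}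
  have key : ∀ P : CoR k r d, P ≠ 0 → (∀ v ∈ Bd, eval v P = 0) →
      ∃ q : CoR k r d, Irreducible q ∧ ∀ v ∈ Bd, eval v q = 0 := by
    intro P
    induction P using WfDvdMonoid.induction_on_irreducible with
    | zero => exact fun h => absurd rfl h
    | unit u hu =>
      intro _ h
      have h0 := h (co H₁) ⟨x₁, hx₁, by rw [fc_co]; exact hB₁⟩
      exact absurd h0 (IsUnit.ne_zero (hu.map (eval (co H₁))))
    | mul a q ha hq ih =>
      intro _ h
      rcases bad_irreducible n i hd (fun H => eval (co H) q) (fun H => eval (co H) a) (isPolyFun_co q) (isPolyFun_co a)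
        (fun x H hx hB => by
          have := h (co H) ⟨x, hx, by rw [fc_co]; exact hB⟩
          rwa [map_mul] at this) with h' | h'
      · exact ⟨q, hq, fun v hv => by obtain ⟨x, hx, hB⟩ := hv; simpa [co_fc] using h' x (fc v) hx hB⟩
      · exact ih ha fun v hv => by obtain ⟨x, hx, hB⟩ := hv; simpa [co_fc] using h' x (fc v) hx hB
  obtain ⟨f, hf, ⟨H₀, hfH₀⟩, hfs⟩ := isGeneric_good n i hd (r := r) (d := d)
  obtain ⟨P, hP⟩ := exists_poly_of_isPolyFun hf
  obtain ⟨q, hq, hqv⟩ := key P (fun h0 => hfH₀ (by rw [hP, h0, map_zero])) (fun v hv => by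
    by_contra hne
    obtain ⟨x, hx, hB⟩ := hv
    exact hfs (fc v) (by rw [hP, co_fc]; exact hne) x hx hB)
  intro p hp
  by_contra hno
  push Not at hno
  have hpp : Prime p := UniqueFactorizationMonoid.irreducible_iff_prime.1 hp
  haveI : (Ideal.span {p}).IsPrime := (Ideal.span_singleton_prime hpp.ne_zero).2 hpp
  have hmem : q ∈ MvPolynomial.vanishingIdeal k (MvPolynomial.zeroLocus k (Ideal.span {p})) := by
    rw [MvPolynomial.mem_vanishingIdeal_iff]
    intro v hv
    rw [MvPolynomial.mem_zeroLocus_iff] at hv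
    have hv' : eval v p = 0 := by simpa [MvPolynomial.aeval_eq_eval] using hv p (Ideal.mem_span_singleton_self p)
    have := hqv v (hno v hv').1
    simpa [MvPolynomial.aeval_eq_eval] using this
  rw [MvPolynomial.IsPrime.vanishingIdeal_zeroLocus, Ideal.mem_span_singleton] at hmem
  obtain ⟨w, hw⟩ := hp.associated_of_dvd hq hmem
  have h1 : eval (co H₁) p = 0 := by
    have := hqv (co H₁) ⟨x₁, hx₁, by rw [fc_co]; exact hB₁⟩
    rw [← hw, map_mul, mul_eq_zero] at this
    exact this.resolve_right (IsUnit.ne_zero ((w.isUnit).map (eval (co H₁))))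
  exact (hno _ h1).2 (by rw [fc_co]; exact h₁)

theorem two_le_finrank (i : X ⟶ CohB1.ProjSpace r k) [IsClosedImmersion i] [SmoothOfRelativeDimension n (str i)] (hn : 1 ≤ n) (hd : 1 ≤ d) : 2 ≤ Module.finrank k (LefPen.Form r k d) := by
  haveI : Smooth (str i) := SmoothOfRelativeDimension.smooth n (str i)
  haveI : LocallyOfFiniteType (str i) := inferInstance
  haveI : JacobsonSpace X := LocallyOfFiniteType.jacobsonSpace (str i)
  obtain ⟨x, -, hx⟩ := nonempty_inter_closedPoints (Z := (Set.univ : Set X))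
    ⟨Classical.arbitrary X, trivial⟩ isClosed_univ.isLocallyClosed
  obtain ⟨C, hV⟩ := exists_ch (n := n) (i := i) hx
  have h := LinearMap.finrank_le_finrank_of_surjective (C.J_surjective hx hV hd (d := d))
  rw [Module.finrank_pi, Fintype.card_option, Fintype.card_fin] at h
  omega

theorem isDomain_chart (C : Ch i n) {x : X} (hxV : x ∈ C.V.1) : IsDomain Γ(X, C.V.1) := by
  haveI : Smooth (str i) := SmoothOfRelativeDimension.smooth n (str i)
  haveI : IsReduced X := by
    haveI : ∀ z : X, _root_.IsReduced (X.presheaf.stalk z) := fun z => by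
      haveI := SmLocalST.isRegularLocalRing_stalk_of_smooth_field (str i) z
      haveI : IsDomain (X.presheaf.stalk z) := RegLoc.isDomain _
      infer_instance
    exact isReduced_of_isReduced_stalk X
  haveI : IsIntegral X := isIntegral_of_irreducibleSpace_of_isReduced X
  haveI : Nonempty C.V.1 := ⟨⟨x, hxV⟩⟩
  infer_instance

/-- Dimension of a hypersurface in a chart. -/
theorem dim_quot_le (hn : 1 ≤ n) (C : Ch i n) {x : X} (hxV : x ∈ C.V.1) {a : Γ(X, C.V.1)} (ha : a ≠ 0) :
    ringKrullDim (Γ(X, C.V.1) ⧸ Ideal.span {a}) ≤ ((n - 1 : ℕ) : WithBot ℕ∞) := by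
  haveI := isDomain_chart C hxV
  have h1 := ringKrullDim_quotient_succ_le_of_nonZeroDivisor (mem_nonZeroDivisors_of_ne_zero ha)
  have h2 := h1.trans (ringKrullDim_le n (str i) C.V.2)
  have h3 : ((n - 1 : ℕ) : WithBot ℕ∞) + ((1 : ℕ) : WithBot ℕ∞) = (n : WithBot ℕ∞) := by
    rw [← Nat.cast_add, Nat.sub_add_cancel hn]
  rw [← h3, ← Nat.cast_one] at h2
  exact ENat.WithBot.add_le_add_natCast_right_iff.1 h2

/-- The forms meeting a transversal section non-transversally lie on a hypersurface. -/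
theorem exists_poly_base (hn : 1 ≤ n) (hd : 1 ≤ d) (H₀ : LefPen.Form r k d)
    (hH₀ : ∀ x : X, IsClosed ({x} : Set X) → ¬ Bad i H₀ x) :
    ∃ P : CoR k r d, P ≠ 0 ∧ ∀ G : LefPen.Form r k d, eval (co G) P ≠ 0 →
      ∀ x : X, IsClosed ({x} : Set X) → ¬ Bad2 i H₀ G x := by
  classical
  haveI : Smooth (str i) := SmoothOfRelativeDimension.smooth n (str i)
  haveI : LocallyOfFiniteType (str i) := inferInstance
  obtain ⟨m, C, hC⟩ := exists_ch_cover (n := n) (i := i)
  have key : ∀ j, ∃ P : CoR k r d, P ≠ 0 ∧ ∀ (x : X), IsClosed ({x} : Set X) → x ∈ (C j).V.1 →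
      ∀ G : LefPen.Form r k d, Bad2 i H₀ G x → eval (co G) P = 0 := by
    intro j
    by_cases hne : ∃ x : X, IsClosed ({x} : Set X) ∧ x ∈ (C j).V.1
    swap
    · exact ⟨1, one_ne_zero, fun x hx hxV => absurd ⟨x, hx, hxV⟩ hne⟩
    obtain ⟨x₁, hx₁, hx₁V⟩ := hne
    letI := algV i (C j).V.1
    let h₀ := hmap i (C j).l (C j).V.1 (C j).hV H₀
    have hh₀ : h₀ ≠ 0 := fun h0 => hH₀ x₁ hx₁ (((C j).bad_iff hx₁ hx₁V H₀).2.2.2 (by
      show h₀ ∈ _
      rw [h0]
      exact zero_mem _))
    haveI : Algebra.FiniteType k Γ(X, (C j).V.1) := WeilLib.finiteType_secStr (str i) (C j).V.2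
    let A := Γ(X, (C j).V.1) ⧸ Ideal.span {h₀}
    haveI : Algebra.FiniteType k A :=
      Algebra.FiniteType.of_surjective (Ideal.Quotient.mkₐ k _) (Ideal.Quotient.mkₐ_surjective k _)
    let e := (Fintype.equivFinOfCardEq (show Fintype.card (Option (Fin n)) = n + 1 by simp)).symm
    obtain ⟨P, hP0, hP⟩ := exists_poly_rank (k := k) (δ := n - 1) (e := 1) (R := n + 1)
      (dim_quot_le hn (C j) hx₁V hh₀) (by omega)
      (fun o c => Ideal.Quotient.mkₐ k (Ideal.span {h₀}) (jet (C j).b ((C j).h d c) (e o))) (fun _ => co H₀)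
    refine ⟨P, hP0, fun x hx hxV G hG => ?_⟩
    obtain ⟨hxF, hxG, a, b, hab, hbad⟩ := hG
    have hρ : (C j).pt hx hxV h₀ = 0 := by
      rw [(C j).pt_apply]; exact (mem_support_iff (C j) H₀ hx hxV).1 hxF
    let ρ : A →ₐ[k] k := Ideal.Quotient.liftₐ (Ideal.span {h₀}) ((C j).pt hx hxV) (fun z hz => by
      obtain ⟨w, rfl⟩ := Ideal.mem_span_singleton'.1 hz
      rw [map_mul, hρ, mul_zero])
    have hb : b ≠ 0 := by
      rintro rfl
      refine hH₀ x hx ?_
      have ha : a ≠ 0 := hab.resolve_right (fun h => h rfl)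
      rw [zero_smul, add_zero] at hbad
      exact ((good_smul (n := n) ha H₀).2 x).1 hbad
    have hbad' : Bad i (G + (a / b) • H₀) x := by
      refine ((good_smul (n := n) hb _).2 x).1 ?_
      rw [smul_add, smul_smul, mul_div_cancel₀ a hb, add_comm]
      exact hbad
    have hv : eval (co (G + (a / b) • H₀) + ∑ q : Fin 1, (fun _ => -(a / b)) q • (fun _ => co H₀) q) P = 0 := by
      refine hP ρ _ _ (fun w => ?_) fun o => ?_
      · obtain ⟨H, hH⟩ := (C j).J_surjective hx hxV hd (d := d) (fun o' => w (e.symm o'))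
        refine ⟨co H, fun o => ?_⟩
        have := congrFun hH (e o)
        rw [(C j).J_sum, Equiv.symm_apply_apply] at this
        exact this
      · have := congrFun (((C j).bad_iff_J hx hxV _).1 hbad') (e o)
        rw [(C j).J_sum] at this
        exact this
    simpa [co_add, co_smul, add_assoc] using hv
  choose P hP0 hP using key
  refine ⟨∏ j, P j, Finset.prod_ne_zero_iff.2 fun j _ => hP0 j, fun G hG x hx hB => ?_⟩
  obtain ⟨j, hj⟩ := hC x hx
  rw [map_prod] at hG
  exact Finset.prod_ne_zero_iff.1 hG j (Finset.mem_univ j) (hP j x hx hj G hB)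

/-- Through a transversal form, the Lefschetz pencils are generic. -/
theorem exists_poly_through (hn : 1 ≤ n) (hd : 1 ≤ d) (hW : NoHyp (WBad (d := d) i n)) (H₀ : LefPen.Form r k d)
    (hT : LefPen.Transversal k n 1 (LefPen.secToSpec i ({H₀} : Set (LefPen.Form r k d)))) :
    ∃ P : CoR k r d, P ≠ 0 ∧ ∀ G : LefPen.Form r k d, eval (co G) P ≠ 0 →
      LefPen.IsLefschetzPencil k n i d H₀ G := by
  classical
  haveI : Smooth (str i) := SmoothOfRelativeDimension.smooth n (str i)
  haveI : LocallyOfFiniteType (str i) := inferInstance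
  have hgood : ∀ x : X, IsClosed ({x} : Set X) → ¬ Bad i H₀ x := (transversal_iff i hn H₀).1 hT
  have hH₀W : co H₀ ∉ WBad i n := fun h => by
    obtain ⟨⟨x, hx, hB⟩, -⟩ := h
    rw [fc_co] at hB
    exact hgood x hx hB
  have hclosed : ∀ v ∉ WBad (d := d) i n, ∃ p : CoR k r d, (∀ w ∈ WBad i n, eval w p = 0) ∧ eval v p ≠ 0 := by
    intro v hv
    have := exists_poly_not_wbad (i := i) hn hd (fc v) fun hnT => by
      by_contra hO
      refine hv ⟨?_, hO⟩
      by_contra hno
      push Not at hno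
      exact hnT ((transversal_iff i hn _).2 hno)
    rwa [co_fc] at this
  -- the members
  obtain ⟨G₀, hG₀⟩ := exists_avoid (WBad i n) (wbad_cone (n := n) (i := i)) hclosed hW (co H₀) hH₀W
  obtain ⟨g, hg, hgs⟩ := exists_poly_pencil (WBad i n) (wbad_cone (n := n) (i := i)) (co H₀) G₀
    (hclosed _ (by simpa using hG₀ 0)) (fun c => hclosed _ (by
      by_cases hc : c = 0
      · simpa [hc] using hH₀W
      · intro h
        refine hG₀ c⁻¹ ?_
        have := wbad_cone (n := n) (i := i) c⁻¹ (inv_ne_zero hc) _ h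
        rw [smul_add, smul_smul, inv_mul_cancel₀ hc, one_smul] at this
        rw [add_comm (G₀ : Fin (Module.finrank k (LefPen.Form r k d)) → k)]
        exact this))
  let Q₁ : CoR k r d := MvPolynomial.aeval (Sum.elim (fun c => MvPolynomial.C (co H₀ c)) MvPolynomial.X) g
  have hQ₁ : ∀ w, eval w Q₁ = eval (Sum.elim (co H₀) w) g := fun w => by
    refine RingHom.congr_fun (f := (eval w).comp (MvPolynomial.aeval (R := k)
      (Sum.elim (fun c => (MvPolynomial.C (co H₀ c) : CoR k r d)) MvPolynomial.X)).toRingHom)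
      (g := eval (Sum.elim (co H₀) w)) (MvPolynomial.ringHom_ext (fun t => by simp) fun c => by cases c <;> simp) g
  have hQ₁0 : Q₁ ≠ 0 := fun h0 => hg (by rw [← hQ₁, h0, map_zero])
  -- the base locus
  obtain ⟨Q₂, hQ₂0, hQ₂⟩ := exists_poly_base (i := i) hn hd H₀ hgood
  -- independence
  have hH₀0 : co H₀ ≠ 0 := fun h0 => by
    haveI : JacobsonSpace X := LocallyOfFiniteType.jacobsonSpace (str i)
    obtain ⟨x, -, hx⟩ := nonempty_inter_closedPoints (Z := (Set.univ : Set X))
      ⟨Classical.arbitrary X, trivial⟩ isClosed_univ.isLocallyClosed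
    obtain ⟨C, hV⟩ := exists_ch (n := n) (i := i) hx
    refine hgood x hx ((C.bad_iff_J hx hV H₀).2 ?_)
    rw [show H₀ = 0 by rw [← fc_co H₀, h0]; simp [fc], map_zero]
  obtain ⟨a, ha⟩ := Function.ne_iff.1 hH₀0
  obtain ⟨b, hb⟩ : ∃ b, b ≠ a := by
    have := two_le_finrank (d := d) i hn hd
    haveI : Nontrivial (Fin (Module.finrank k (LefPen.Form r k d))) := Fin.nontrivial_iff_two_le.2 this
    exact exists_ne a
  let Q₃ : CoR k r d := MvPolynomial.C (co H₀ a) * MvPolynomial.X b - MvPolynomial.C (co H₀ b) * MvPolynomial.X a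
  have hQ₃0 : Q₃ ≠ 0 := fun h0 => by
    have := congrArg (eval (Pi.single b (1 : k))) h0
    simp [Q₃, hb.symm, Pi.single_apply] at this
    exact ha this
  -- finiteness
  obtain ⟨f₀, hf₀, hf₀H, hf₀s⟩ := isZOpen_good (n := n) i hd H₀ hgood
  obtain ⟨P₀, hP₀⟩ := exists_poly_of_isPolyFun hf₀
  refine ⟨Q₁ * Q₂ * Q₃, mul_ne_zero (mul_ne_zero hQ₁0 hQ₂0) hQ₃0, fun G hG => ?_⟩
  simp only [map_mul, mul_ne_zero_iff] at hG
  obtain ⟨⟨h1, h2⟩, h3⟩ := hG
  rw [hQ₁] at h1
  obtain ⟨hGW, hcW⟩ := hgs (co H₀) (co G) h1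
  refine ⟨?_, (transversal2_iff hn H₀ G).2 (hQ₂ G h2), ?_, ?_⟩
  · rw [LinearIndependent.pair_iff]
    intro s t hst
    by_contra hne
    refine h3 ?_
    simp only [Q₃, map_sub, map_mul, MvPolynomial.eval_C, MvPolynomial.eval_X]
    have := (dep_iff_minors (co H₀) (co G)).1 ⟨s, t, not_and_or.1 hne, fun o => by
      have := congrArg (fun H => co H o) hst
      simpa [co_add, co_smul, co_eq_equivFun] using this⟩ a b
    exact this
  · let q : Polynomial k := MvPolynomial.aeval
      (fun c => Polynomial.C (co H₀ c) + Polynomial.X * Polynomial.C (co G c)) P₀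
    have hq : ∀ c : k, q.eval c = f₀ (H₀ + c • G) := fun c => by
      rw [hP₀, co_add, co_smul]
      refine RingHom.congr_fun (f := (Polynomial.evalRingHom c).comp (MvPolynomial.aeval
        (fun e => Polynomial.C (co H₀ e) + Polynomial.X * Polynomial.C (co G e))).toRingHom)
        (g := MvPolynomial.eval (co H₀ + c • co G)) (MvPolynomial.ringHom_ext (fun t => by simp) fun e => by simp; ring) P₀
    have hq0 : q ≠ 0 := fun h0 => by
      apply hf₀H
      have := hq 0
      rw [h0, Polynomial.eval_zero, zero_smul, add_zero] at this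
      exact this.symm
    refine (Polynomial.finite_setOf_isRoot hq0).subset fun c hc => ?_
    by_contra hne
    exact hc ((transversal_iff i hn _).2 (hf₀s _ (by rw [← hq]; exact hne)))
  · intro H hH hnT
    by_contra hO
    have hW' : co H ∈ WBad i n := by
      refine ⟨?_, by rwa [fc_co]⟩
      rw [fc_co]
      by_contra hno
      push Not at hno
      exact hnT ((transversal_iff i hn H).2 hno)
    rcases hH with rfl | ⟨c, rfl⟩
    · exact hGW hW'
    · rw [co_add, co_smul] at hW'
      exact hcW c hW'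

/-- From generic Lefschetz pencils: the worse forms contain no hypersurface. -/
theorem noHyp_wbad_of_emb (hn : 1 ≤ n) (hL : LefPen.IsLefschetzEmb k n i d) : NoHyp (WBad (d := d) i n) := by
  classical
  haveI : Smooth (str i) := SmoothOfRelativeDimension.smooth n (str i)
  haveI : LocallyOfFiniteType (str i) := inferInstance
  obtain ⟨f, hf, ⟨v, hv⟩, hfs⟩ := hL
  obtain ⟨g, hg⟩ : ∃ g : MvPolynomial (Fin (Module.finrank k (LefPen.Form r k d)) ⊕ Fin (Module.finrank k (LefPen.Form r k d))) k,
      ∀ FG, f FG = eval (Sum.elim (co FG.1) (co FG.2)) g := by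
    clear hfs hv
    unfold LefPen.IsPolyFun at hf
    induction hf using Algebra.adjoin_induction with
    | mem g hg =>
      obtain ⟨l, rfl⟩ := hg
      refine ⟨∑ c, MvPolynomial.C (l (bF r k d c, 0)) * MvPolynomial.X (Sum.inl c) +
        ∑ c, MvPolynomial.C (l (0, bF r k d c)) * MvPolynomial.X (Sum.inr c), fun FG => ?_⟩
      show l FG = _
      have h1 : l FG = l (∑ c, co FG.1 c • bF r k d c, 0) + l (0, ∑ c, co FG.2 c • bF r k d c) := by
        rw [sum_co, sum_co, ← map_add, Prod.mk_add_mk, add_zero, zero_add]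
      rw [h1, show l (∑ c, co FG.1 c • bF r k d c, 0) = (l.comp (LinearMap.inl k _ _)) (∑ c, co FG.1 c • bF r k d c) from rfl,
        show l (0, ∑ c, co FG.2 c • bF r k d c) = (l.comp (LinearMap.inr k _ _)) (∑ c, co FG.2 c • bF r k d c) from rfl]
      simp [map_sum, mul_comm]
    | algebraMap a => exact ⟨MvPolynomial.C a, fun FG => by simp⟩
    | add f g _ _ hf hg =>
      obtain ⟨P, hP⟩ := hf
      obtain ⟨Q, hQ⟩ := hg
      exact ⟨P + Q, fun FG => by simp [hP, hQ]⟩
    | mul f g _ _ hf hg =>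
      obtain ⟨P, hP⟩ := hf
      obtain ⟨Q, hQ⟩ := hg
      exact ⟨P * Q, fun FG => by simp [hP, hQ]⟩
  refine noHyp_of_generic (WBad i n) (wbad_cone (n := n) (i := i)) g (fun h0 => hv (by rw [hg, h0, map_zero])) ?_
  intro F G hFG
  have hP : LefPen.IsLefschetzPencil k n i d (fc F) (fc G) := hfs (fc F, fc G) (by rw [hg, co_fc, co_fc]; exact hFG)
  have hnot : ∀ H ∈ LefPen.members k (fc (d := d) F) (fc G), co H ∉ WBad i n := fun H hH h => by
    obtain ⟨⟨x, hx, hB⟩, hO⟩ := h
    rw [fc_co] at hB hO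
    exact hO (hP.2.2.2 H hH fun hT => (transversal_iff i hn H).1 hT x hx hB)
  refine ⟨by simpa [co_fc] using hnot _ (Or.inl rfl), fun c => ?_⟩
  simpa [co_fc, co_add, co_smul] using hnot _ (Or.inr ⟨c, rfl⟩)

end Groth.Agent.DualVar
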