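import Groth.Agent.DualVar.AllVanish
import Groth.Agent.DualVar.OneOrd
import Groth.Agent.DualVar.RankDim
import Groth.Agent.DualVar.Through

/-!
# In degree at least two some hypersurface cuts a single ordinary quadratic point
-/

set_option autoImplicit false
set_option linter.style.haveILetI false
set_option linter.unusedSectionVars false
set_option backward.isDefEq.respectTransparency false
set_option backward.isDefEq.respectTransparency.types false

universe u

open CategoryTheory CategoryTheory.Limits AlgebraicGeometry TopologicalSpace Opposite IsLocalRing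
open Groth.Agent.WeilLib (secStr)

noncomputable section

namespace Groth.Agent.DualVar

variable {k : Type u} [Field k] [IsAlgClosed k] {r d n : ℕ} {X : Scheme.{u}} {i : X ⟶ CohB1.ProjSpace r k}
  [IsClosedImmersion i] [IrreducibleSpace X] [SmoothOfRelativeDimension n (str i)]

include n

variable (i) in
theorem exists_oneOrdQuad (hn : 1 ≤ n) (hd : 2 ≤ d) : ∃ H : LefPen.Form r k d, LefPen.OneOrdQuad k n i H := by
  classical
  haveI : Smooth (str i) := SmoothOfRelativeDimension.smooth n (str i)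
  haveI : LocallyOfFiniteType (str i) := inferInstance
  haveI : JacobsonSpace X := LocallyOfFiniteType.jacobsonSpace (str i)
  obtain ⟨e, rfl⟩ : ∃ e, d = e + 1 := ⟨d - 1, by omega⟩
  obtain ⟨x₀, -, hx₀⟩ := nonempty_inter_closedPoints (Z := (Set.univ : Set X))
    ⟨Classical.arbitrary X, trivial⟩ isClosed_univ.isLocallyClosed
  obtain ⟨C₀, hV₀⟩ := exists_ch (n := n) (i := i) hx₀
  obtain ⟨ψ, hC, hψ⟩ := C₀.exists_coord hn hx₀ hV₀
  let L : Submodule k (LefPen.Form r k (e + 1)) := LinearMap.ker (C₀.J hx₀ hV₀ (e + 1))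
  haveI : Module.Free k L := Module.Free.of_divisionRing k L
  let bL := Module.finBasis k L
  let bs : Fin (Module.finrank k L) → LefPen.Form r k (e + 1) := fun c => (bL c).1
  have hbs : ∀ c, Bad i (bs c) x₀ := fun c => (C₀.bad_iff_J hx₀ hV₀ _).2 (LinearMap.mem_ker.1 (bL c).2)
  have hspan : ∀ H : LefPen.Form r k (e + 1), Bad i H x₀ → ∃ s : Fin (Module.finrank k L) → k, H = ∑ c, s c • bs c := by
    intro H hH
    refine ⟨bL.equivFun ⟨H, (C₀.bad_iff_J hx₀ hV₀ H).1 hH⟩, ?_⟩
    have h1 := congrArg Subtype.val (bL.sum_equivFun ⟨H, (C₀.bad_iff_J hx₀ hV₀ H).1 hH⟩)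
    simp only [Submodule.coe_sum, Submodule.coe_smul] at h1
    exact h1.symm
  obtain ⟨P₁, hP₁0, hP₁⟩ := C₀.exists_poly_deg hn hd hx₀ hV₀ bs hbs hspan ψ hC
  obtain ⟨m, C, hCc⟩ := exists_ch_cover (n := n) (i := i)
  have key : ∀ j, ∃ P : MvPolynomial (Fin (Module.finrank k L)) k, P ≠ 0 ∧ ∀ (s : Fin (Module.finrank k L) → k) (y : X),
      IsClosed ({y} : Set X) → y ∈ (C j).V.1 → y ≠ x₀ → Bad i (∑ c, s c • bs c) y →
        MvPolynomial.eval s P = 0 ∨ MvPolynomial.eval s P₁ = 0 := by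
    intro j
    letI := algV i (C j).V.1
    haveI : Algebra.FiniteType k Γ(X, (C j).V.1) := WeilLib.finiteType_secStr (str i) (C j).V.2
    let Φ : Option (Fin n) → Fin (Module.finrank k L) → Γ(X, (C j).V.1) := fun o c =>
      jet (C j).b (hmap i (C j).l (C j).V.1 (C j).hV (bs c)) o
    have hJ : ∀ (y : X) (hy : IsClosed ({y} : Set X)) (hyV : y ∈ (C j).V.1) (s : Fin (Module.finrank k L) → k)
        (o : Option (Fin n)),
        (C j).J hy hyV (e + 1) (∑ c, s c • bs c) o = ∑ c, s c * (C j).pt hy hyV (Φ o c) := by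
      intro y hy hyV s o
      rw [map_sum, Finset.sum_apply]
      exact Finset.sum_congr rfl fun c _ => by rw [map_smul, Pi.smul_apply, smul_eq_mul]; rfl
    let eF := (Fintype.equivFinOfCardEq (show Fintype.card (Option (Fin n)) = n + 1 by simp)).symm
    obtain ⟨PF, hPF0, hPF⟩ := exists_poly_rank (k := k) (δ := n) (e := 0) (R := n + 1) (ringKrullDim_le n (str i) (C j).V.2)
      (by omega) (fun o c => Φ (eF o) c) (fun a => a.elim0)
    by_cases hμ : ∃ μ : LefPen.Form r k 1, Bad i μ x₀ ∧ hmap i (C j).l (C j).V.1 (C j).hV μ ≠ 0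
    · obtain ⟨μ, hμx, hμ0⟩ := hμ
      have hPD : ∀ o₀ : Option (Fin n), ∃ P : MvPolynomial (Fin (Module.finrank k L)) k, P ≠ 0 ∧
          ∀ (y : X) (hy : IsClosed ({y} : Set X)) (hyV : y ∈ (C j).V.1) (s : Fin (Module.finrank k L) → k),
            (C j).J hy hyV 1 μ none = 0 → (∀ w : Option (Fin n) → k, ∃ u : Fin (Module.finrank k L) → k,
              ∀ o ≠ o₀, ∑ c, u c * (C j).pt hy hyV (Φ o c) = w o) →
            (∀ o, ∑ c, s c * (C j).pt hy hyV (Φ o c) = 0) → MvPolynomial.eval s P = 0 := by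
        intro o₀
        by_cases hne : ∃ y : X, y ∈ (C j).V.1
        swap
        · exact ⟨1, one_ne_zero, fun y _ hyV => absurd ⟨y, hyV⟩ hne⟩
        obtain ⟨y₁, hy₁⟩ := hne
        let I : Ideal Γ(X, (C j).V.1) := Ideal.span {hmap i (C j).l (C j).V.1 (C j).hV μ}
        haveI : Algebra.FiniteType k (Γ(X, (C j).V.1) ⧸ I) :=
          Algebra.FiniteType.of_surjective (Ideal.Quotient.mkₐ k I) (Ideal.Quotient.mkₐ_surjective k I)
        let eD := (Fintype.equivFinOfCardEq (show Fintype.card {o : Option (Fin n) // o ≠ o₀} = n by simp)).symm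
        obtain ⟨P, hP0, hP⟩ := exists_poly_rank (k := k) (δ := n - 1) (e := 0) (R := n) (dim_quot_le hn (C j) hy₁ hμ0)
          (by omega) (fun o c => Ideal.Quotient.mkₐ k I (Φ (eD o).1 c)) (fun a => a.elim0)
        refine ⟨P, hP0, fun y hy hyV s hμy hsurj hs => ?_⟩
        let ρ : Γ(X, (C j).V.1) ⧸ I →ₐ[k] k := Ideal.Quotient.liftₐ I ((C j).pt hy hyV) (fun z hz => by
          obtain ⟨w, rfl⟩ := Ideal.mem_span_singleton'.1 hz
          rw [map_mul, show (C j).pt hy hyV (hmap i (C j).l (C j).V.1 (C j).hV μ) = 0 from hμy, mul_zero])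
        have h := hP ρ s (fun a => a.elim0) (fun w => ?_) (fun o => hs (eD o).1)
        · simpa using h
        · obtain ⟨u, hu⟩ := hsurj fun o => if h : o ≠ o₀ then w (eD.symm ⟨o, h⟩) else 0
          refine ⟨u, fun o => ?_⟩
          have := hu (eD o).1 (eD o).2
          rw [dif_pos (eD o).2, Subtype.coe_eta, Equiv.symm_apply_apply] at this
          exact this
      choose PD hPD0 hPD using hPD
      refine ⟨PF * ∏ o, PD o, mul_ne_zero hPF0 (Finset.prod_ne_zero_iff.2 fun o _ => hPD0 o),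
        fun s y hy hyV hne hB => Or.inl ?_⟩
      have hsJ := fun o => (hJ y hy hyV s o).symm.trans (congrFun (((C j).bad_iff_J hy hyV _).1 hB) o)
      obtain ⟨hcase, o₀, hdrop⟩ := rank_cases (C j) hy hyV C₀ hx₀ hV₀ hne (e := e) (by omega)
      rw [map_mul]
      rcases hcase with hfull | ⟨-, hvan⟩
      · refine mul_eq_zero.2 (Or.inl ?_)
        have h := hPF ((C j).pt hy hyV) s (fun a => a.elim0) (fun w => ?_) (fun o => hsJ (eF o))
        · simpa using h
        · obtain ⟨G, hG, hG'⟩ := hfull fun o => w (eF.symm o)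
          obtain ⟨u, rfl⟩ := hspan G hG
          exact ⟨u, fun o => by rw [← hJ y hy hyV, hG']; exact congrArg w (eF.symm_apply_apply o)⟩
      · refine mul_eq_zero.2 (Or.inr ?_)
        rw [map_prod]
        refine Finset.prod_eq_zero (Finset.mem_univ o₀) (hPD o₀ y hy hyV s (hvan μ hμx) (fun w => ?_) hsJ)
        obtain ⟨G, hG, hG'⟩ := hdrop w
        obtain ⟨u, rfl⟩ := hspan G hG
        exact ⟨u, fun o ho => by rw [← hJ y hy hyV, hG' o ho]⟩
    · push Not at hμ
      refine ⟨PF, hPF0, fun s y hy hyV hne hB => ?_⟩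
      obtain ⟨hcase, -⟩ := rank_cases (C j) hy hyV C₀ hx₀ hV₀ hne (e := e) (by omega)
      rcases hcase with hfull | ⟨he, -⟩
      · left
        have h := hPF ((C j).pt hy hyV) s (fun a => a.elim0) (fun w => ?_)
          (fun o => (hJ y hy hyV s (eF o)).symm.trans (congrFun (((C j).bad_iff_J hy hyV _).1 hB) (eF o)))
        · simpa using h
        · obtain ⟨G, hG, hG'⟩ := hfull fun o => w (eF.symm o)
          obtain ⟨u, rfl⟩ := hspan G hG
          exact ⟨u, fun o => by rw [← hJ y hy hyV, hG']; exact congrArg w (eF.symm_apply_apply o)⟩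
      · right
        subst he
        refine hP₁ s (deg_of_all_vanish C₀ (C j) hx₀ hV₀ hy hyV hne (fun μ hμx => ⟨?_, hμ μ hμx⟩) _
          ((C₀.bad_iff_J hx₀ hV₀ _).2 ?_) hB ψ hC)
        · exact hmap_eq_zero (C j) hyV (by rw [hμ μ hμx, map_zero]) C₀
        · simp [map_sum, map_smul, fun c => (C₀.bad_iff_J hx₀ hV₀ _).1 (hbs c)]
  choose P hP0 hP using key
  obtain ⟨s, hs⟩ : ∃ s, MvPolynomial.eval s (P₁ * ∏ j, P j) ≠ 0 := by
    by_contra hc
    push Not at hc
    exact mul_ne_zero hP₁0 (Finset.prod_ne_zero_iff.2 fun j _ => hP0 j) (MvPolynomial.funext fun s => by rw [hc s, map_zero])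
  rw [map_mul, map_prod, mul_ne_zero_iff, Finset.prod_ne_zero_iff] at hs
  have hB : Bad i (∑ c, s c • bs c) x₀ :=
    (C₀.bad_iff_J hx₀ hV₀ _).2 (by simp [map_sum, map_smul, fun c => (C₀.bad_iff_J hx₀ hV₀ _).1 (hbs c)])
  refine ⟨∑ c, s c • bs c, (oneOrdQuad_iff hn _).2 ⟨x₀, hx₀, hB, (hψ _ _ hB).2 fun h => hs.1 (hP₁ s h),
    fun y hy hBy => ?_⟩⟩
  by_contra hne
  obtain ⟨j, hj⟩ := hCc y hy
  exact (hP j s y hy hj hne hBy).elim (hs.2 j (Finset.mem_univ j)) hs.1

variable (i) in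
/-- Forms of degree at least two give Lefschetz embeddings. -/
theorem isLefschetzEmb_of_two_le (hn : 1 ≤ n) (hd : 2 ≤ d) : LefPen.IsLefschetzEmb k n i d := by
  classical
  haveI : Smooth (str i) := SmoothOfRelativeDimension.smooth n (str i)
  haveI : LocallyOfFiniteType (str i) := inferInstance
  have hd1 : 1 ≤ d := by omega
  obtain ⟨H₁, h₁⟩ := exists_oneOrdQuad i hn hd (r := r)
  obtain ⟨f, hf, ⟨H₀, hH₀⟩, hfs⟩ := isGeneric_good n i hd1 (r := r) (d := d)
  obtain ⟨P, hP0, hP⟩ := exists_poly_through hn hd1 (noHyp_wbad_of_one hn hd1 H₁ h₁) H₀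
    ((transversal_iff i hn H₀).2 (hfs H₀ hH₀))
  obtain ⟨v, hv⟩ : ∃ v, MvPolynomial.eval v P ≠ 0 := by
    by_contra hc
    push Not at hc
    exact hP0 (MvPolynomial.funext fun v => by rw [hc v, map_zero])
  obtain ⟨g, hg, hgne, hgs⟩ := isZOpen_isLefschetzPencil (i := i) hn hd1 (H₀, fc v) (hP (fc v) (by rw [co_fc]; exact hv))
  exact ⟨g, hg, ⟨_, hgne⟩, hgs⟩

end Groth.Agent.DualVar
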