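import Groth.Agent.DualVar.Base
import Groth.Agent.SmDiff.Main

/-!
# Frames for the forms singular at the points of a smooth embedded scheme
-/

set_option autoImplicit false
set_option linter.style.haveILetI false
set_option linter.unusedSectionVars false
set_option backward.isDefEq.respectTransparency false
set_option backward.isDefEq.respectTransparency.types false

universe u

open CategoryTheory CategoryTheory.Limits AlgebraicGeometry TopologicalSpace Opposite
open Groth.Agent.QC (resO resO_resO resO_self)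
open Groth.Agent.WeilLib (secStr)

noncomputable section

namespace Groth.Agent.DualVar

variable {k : Type u} [Field k] [IsAlgClosed k] {r n d : ℕ} {X : Scheme.{u}} (i : X ⟶ CohB1.ProjSpace r k)
  [IsClosedImmersion i] [SmoothOfRelativeDimension n (str i)]

omit [IsAlgClosed k] [IsClosedImmersion i] [SmoothOfRelativeDimension n (str i)] in
theorem lft (n : ℕ) [SmoothOfRelativeDimension n (str i)] : LocallyOfFiniteType (str i) := by
  haveI : Smooth (str i) := SmoothOfRelativeDimension.smooth n (str i)
  infer_instance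

/-- Every function on an open below a chart generated by a single section is a fraction of polynomials in the forms. -/
theorem hmap_generate (hd : 1 ≤ d) (l : Fin (r + 1)) (g : Γ(X, i ⁻¹ᵁ (CompInt.C k r l).1))
    (V : X.Opens) (hVg : V = X.basicOpen g) (hV : V ≤ i ⁻¹ᵁ (CompInt.C k r l).1) (a : Γ(X, V)) :
    letI : Algebra k Γ(X, V) := (secStr (str i) V).toAlgebra
    ∃ N : ℕ, (resO X hV g) ^ N ∈ Algebra.adjoin k (Set.range (hmap i l V hV (d := d))) ∧
      a * (resO X hV g) ^ N ∈ Algebra.adjoin k (Set.range (hmap i l V hV (d := d))) := by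
  letI : Algebra k Γ(X, V) := (secStr (str i) V).toAlgebra
  subst hVg
  have hU : IsAffineOpen (i ⁻¹ᵁ (CompInt.C k r l).1) := (CompInt.C k r l).2.preimage i
  haveI := hU.isLocalization_basicOpen g
  have hres : ∀ u : Γ(X, i ⁻¹ᵁ (CompInt.C k r l).1),
      resO X hV u ∈ Algebra.adjoin k (Set.range (hmap i l (X.basicOpen g) hV (d := d))) := by
    intro u
    obtain ⟨w, rfl⟩ := i.app_surjective _ (CompInt.C k r l).2 u
    obtain ⟨p, rfl⟩ := ProjMor.exists_deh_eq (PicPn.X_mem (k := k) l) w
    change (i.appLE (CompInt.C k r l).1 (X.basicOpen g) hV).hom _ ∈ _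
    induction p using MvPolynomial.induction_on with
    | C c =>
      rw [← secStr_eq]
      exact Subalgebra.algebraMap_mem _ c
    | add p p' hp hp' => rw [map_add, map_add]; exact add_mem hp hp'
    | mul_X p j hp =>
      rw [map_mul, map_mul]
      refine mul_mem hp (Algebra.subset_adjoin ⟨⟨MvPolynomial.X l ^ (d - 1) * MvPolynomial.X j, ?_⟩, ?_⟩)
      · have := ((MvPolynomial.isHomogeneous_X k l).pow (d - 1)).mul (MvPolynomial.isHomogeneous_X k j)
        rw [show 1 * (d - 1) + 1 = d by omega] at this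
        exact this
      · simp only [hmap, CompInt.eqn, map_mul, map_pow, GrT.deh_self, one_pow, one_mul]
  obtain ⟨⟨u, _, N, rfl⟩, hu⟩ := IsLocalization.surj (Submonoid.powers g) a
  refine ⟨N, ?_, ?_⟩
  · rw [← map_pow]; exact hres _
  · rw [← map_pow]
    convert hres u using 1
    exact hu

/-- There is a frame around every closed point. -/
theorem exists_frame [LocallyOfFiniteType (str i)] (hd : 1 ≤ d) {x : X} (hx : IsClosed ({x} : Set X)) :
    ∃ F : Frame i n d, x ∈ F.V.1 := by
  classical
  obtain ⟨l, hl⟩ := PicPn.exists_mem_ch (k := k) (n := r) (i x)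
  have hU : IsAffineOpen (i ⁻¹ᵁ (CompInt.C k r l).1) := (CompInt.C k r l).2.preimage i
  obtain ⟨V₀, hV₀, hxV₀, hV₀U, hstd⟩ := SmDiff.exists_chart (str i) n (x := x) (O := i ⁻¹ᵁ (CompInt.C k r l).1) hl
  obtain ⟨g, hgV, hxg⟩ := hU.exists_basicOpen_le ⟨x, hxV₀⟩ hl
  have hgU : X.basicOpen g ≤ i ⁻¹ᵁ (CompInt.C k r l).1 := X.basicOpen_le g
  have hstd' : ∀ W : X.Opens, W = X.basicOpen (resO X hV₀U g) →
      ((str i).appLE ⊤ W le_top).hom.IsStandardSmoothOfRelativeDimension n := by
    rintro W rfl
    haveI := hV₀.isLocalization_basicOpen (resO X hV₀U g)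
    have := (RingHom.isStandardSmoothOfRelativeDimension_stableUnderCompositionWithLocalizationAway
      (n := n)).right Γ(X, X.basicOpen (resO X hV₀U g)) (resO X hV₀U g) ((str i).appLE ⊤ V₀ le_top).hom hstd
    rw [← (str i).appLE_map le_top (homOfLE (X.basicOpen_le (resO X hV₀U g))).op]
    exact this
  have hstd1 := hstd' (X.basicOpen g) (by rw [resO, Scheme.basicOpen_res]; exact (inf_eq_right.2 hgV).symm)
  let q := str i
  let V₁ : X.affineOpens := ⟨X.basicOpen g, hU.basicOpen g⟩
  letI : Algebra k Γ(X, V₁.1) := (secStr q V₁.1).toAlgebra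
  haveI : Algebra.IsStandardSmoothOfRelativeDimension n k Γ(X, V₁.1) := by
    have h : (secStr q V₁.1).IsStandardSmoothOfRelativeDimension n := by
      exact (RingHom.isStandardSmoothOfRelativeDimension_respectsIso (n := n)).2 ((str i).appLE ⊤ V₁.1 le_top).hom
        (Scheme.ΓSpecIso (CommRingCat.of k)).symm.commRingCatIsoToRingEquiv hstd1
    exact h
  haveI : Nonempty V₁.1 := ⟨⟨x, hxg⟩⟩
  haveI := Algebra.IsStandardSmoothOfRelativeDimension.isStandardSmooth n (R := k) (S := Γ(X, V₁.1))
  let b := Module.finBasisOfFinrankEq Γ(X, V₁.1) Ω[Γ(X, V₁.1)⁄k] (Module.finrank_eq_of_rank_eq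
    (Algebra.IsStandardSmoothOfRelativeDimension.rank_kaehlerDifferential n))
  let h : LefPen.Form r k d → Γ(X, V₁.1) := hmap i l V₁.1 hgU
  let Φ₁ : Option (Fin n) → LefPen.Form r k d → Γ(X, V₁.1) := fun o H => jet b (h H) o
  let ρ : ∀ (y : X), IsClosed ({y} : Set X) → y ∈ V₁.1 → (Γ(X, V₁.1) →ₐ[k] k) := fun y hy hyV =>
    { ev q hy hyV with commutes' := fun c => ev_secStr q hy hyV c }
  have hsmul : ∀ (c : k) (H : LefPen.Form r k d), h (c • H) = c • h H := fun c H => by
    rw [Algebra.smul_def]; exact hmap_smul i l V₁.1 hgU c H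
  have hbad : ∀ (y : X) (hy : IsClosed ({y} : Set X)) (hyV : y ∈ V₁.1) (H : LefPen.Form r k d),
      Bad i H y ↔ ∀ o, ev q hy hyV (Φ₁ o H) = 0 := by
    intro y hy hyV H
    rw [bad_iff i H V₁ hyV, secIdeal_ideal i H l V₁ hgU, Ideal.map_span, Set.image_singleton,
      Ideal.span_singleton_le_iff_mem]
    have hmax : (RingHom.ker (ρ y hy hyV)).IsMaximal :=
      RingHom.ker_isMaximal_of_surjective _ (fun c => ⟨_, ev_secStr q hy hyV c⟩)
    have hk : RingHom.ker (ρ y hy hyV) = (V₁.2.primeIdealOf ⟨y, hyV⟩).asIdeal := ker_ev q hy V₁.2 hyV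
    haveI : (V₁.2.primeIdealOf ⟨y, hyV⟩).asIdeal.IsMaximal := hk ▸ hmax
    letI := (X.presheaf.germ V₁.1 y hyV).hom.toAlgebra
    haveI := V₁.2.isLocalization_stalk ⟨y, hyV⟩
    rw [show (X.presheaf.germ V₁.1 y hyV).hom (hmap i l V₁.1 hgU H) =
        algebraMap Γ(X, V₁.1) (X.presheaf.stalk y) (h H) from rfl,
      mem_sq_localization (V₁.2.primeIdealOf ⟨y, hyV⟩).asIdeal, ← hk, mem_sq_iff b]
    rfl
  -- surjectivity of the jets at `x`
  let L : LefPen.Form r k d →ₗ[k] (Option (Fin n) → k) :=
    { toFun := fun H o => ρ x hx hxg (Φ₁ o H)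
      map_add' := fun H H' => funext fun o => by
        simp only [Φ₁, h, hmap_add, map_add, Pi.add_apply]
      map_smul' := fun c H => funext fun o => by
        simp only [Φ₁, hsmul, map_smul, Pi.smul_apply, RingHom.id_apply] }
  have hL : LinearMap.range L = ⊤ := by
    by_contra hne
    obtain ⟨f, hf, hker⟩ := Submodule.exists_le_ker_of_lt_top _ (lt_top_iff_ne_top.2 hne)
    apply hf
    let c : Option (Fin n) → k := fun o => f (Pi.single o 1)
    have hfc : ∀ v, f v = ∑ o, c o * v o := fun v => by
      conv_lhs => rw [pi_eq_sum_univ' v]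
      rw [map_sum]
      refine Finset.sum_congr rfl fun o _ => ?_
      rw [map_smul, smul_eq_mul, mul_comm]
    have hc : c = 0 := by
      refine eq_zero_of_forall_jet b (ρ x hx hxg) c (Set.range h) (fun a => ?_) ?_ ?_
      · obtain ⟨N, hN, haN⟩ := hmap_generate i hd l g V₁.1 rfl hgU a
        refine ⟨_, hN, ?_, haN⟩
        rw [map_pow]
        refine pow_ne_zero N ((ev_ne_zero_iff q hx hxg _).2 ?_)
        rw [resO, Scheme.basicOpen_res]
        exact ⟨hxg, hxg⟩
      · have h1 : h ⟨MvPolynomial.X l ^ d, by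
            have := (MvPolynomial.isHomogeneous_X k l).pow d
            rw [one_mul] at this
            exact this⟩ = 1 := by
          simp only [h, hmap, CompInt.eqn, map_pow, GrT.deh_self, one_pow, map_one]
        have := hker (LinearMap.mem_range_self L ⟨MvPolynomial.X l ^ d, by
            have := (MvPolynomial.isHomogeneous_X k l).pow d
            rw [one_mul] at this
            exact this⟩)
        rw [LinearMap.mem_ker, hfc] at this
        simpa [L, Φ₁, h1] using this
      · rintro _ ⟨H, rfl⟩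
        have := hker (LinearMap.mem_range_self L H)
        rw [LinearMap.mem_ker, hfc] at this
        exact this
    refine LinearMap.ext fun v => ?_
    rw [hfc, hc]
    simp
  choose E hE using fun p : Option (Fin n) => LinearMap.range_eq_top.1 hL (Pi.single p 1)
  let M : Matrix (Option (Fin n)) (Option (Fin n)) Γ(X, V₁.1) := fun o p => Φ₁ o (E p)
  have hM : M.map (ρ x hx hxg) = 1 := by
    ext o p
    rw [Matrix.map_apply, Matrix.one_apply, show ρ x hx hxg (M o p) = L (E p) o from rfl, hE, Pi.single_apply]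
  have hΔ : x ∈ X.basicOpen M.det := by
    refine (ev_ne_zero_iff q hx hxg M.det).1 ?_
    change ρ x hx hxg M.det ≠ 0
    rw [AlgHom.map_det, show (ρ x hx hxg).mapMatrix M = M.map (ρ x hx hxg) from rfl, hM, Matrix.det_one]
    exact one_ne_zero
  have hle : X.basicOpen M.det ≤ V₁.1 := X.basicOpen_le _
  refine ⟨{ V := ⟨X.basicOpen M.det, V₁.2.basicOpen M.det⟩
            Φ := fun o H => resO X hle (Φ₁ o H)
            map_add := fun o H H' => by simp only [Φ₁, h, hmap_add, map_add, Pi.add_apply]
            map_smul := fun o c H => ?_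
            bad := fun y hy hyV H => ?_
            E := E
            inv := ?_ }, hΔ⟩
  · show resO X hle (jet b (h (c • H)) o) = secStr q (X.basicOpen M.det) c * resO X hle (jet b (h H) o)
    rw [hsmul, LinearMap.map_smul, Pi.smul_apply, Algebra.smul_def, map_mul]
    congr 1
    exact resO_secStr q hle c
  · rw [hbad y hy (hle hyV) H]
    exact forall_congr' fun o => by rw [ev_res]
  · rw [show (fun o p => resO X hle (Φ₁ o (E p))) = M.map (resO X hle) from rfl, ← RingHom.mapMatrix_apply,
      ← RingHom.map_det]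
    exact X.toRingedSpace.isUnit_res_basicOpen M.det

end Groth.Agent.DualVar
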