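import Groth.Prelude.Def_LefPen
import Groth.Agent.HypJac.Main
import Mathlib

/-!
# A non-degenerate quadratic form in any number of variables and characteristic
-/

set_option autoImplicit false
set_option linter.style.haveILetI false
set_option backward.isDefEq.respectTransparency false

universe u

open CategoryTheory AlgebraicGeometry MvPolynomial

noncomputable section

namespace Groth.Agent.DualVar

variable (k : Type u) [Field k] (m : ℕ)

/-- The index of the first variable of the `j`-th hyperbolic pair. -/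
def pa (j : Fin ((m + 1) / 2)) : Fin (m + 1) := ⟨2 * (j : ℕ), by omega⟩

/-- The index of the second variable of the `j`-th hyperbolic pair. -/
def pb (j : Fin ((m + 1) / 2)) : Fin (m + 1) := ⟨2 * (j : ℕ) + 1, by omega⟩

/-- Hyperbolic pairs, plus a square when the number of variables is odd. -/
def q0 : MvPolynomial (Fin (m + 1)) k :=
  ∑ j, X (pa m j) * X (pb m j) + (if (m + 1) % 2 = 1 then X (Fin.last m) * X (Fin.last m) else 0)

theorem isHomogeneous_q0 : (q0 k m).IsHomogeneous 2 := by
  refine (IsHomogeneous.sum _ _ _ fun j _ => (isHomogeneous_X k _).mul (isHomogeneous_X k _)).add ?_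
  split_ifs
  · exact (isHomogeneous_X k _).mul (isHomogeneous_X k _)
  · exact isHomogeneous_zero _ _ _

/-- The form. -/
def quadForm : LefPen.Form m k 2 := ⟨q0 k m, isHomogeneous_q0 k m⟩

theorem pderiv_dehP (l : Fin (m + 1)) (i : Fin (m + 1)) (hi : i ≠ l) (p : MvPolynomial (Fin (m + 1)) k) :
    pderiv ⟨i, hi⟩ (HypJac.dehP k l p) = HypJac.dehP k l (pderiv i p) := by
  classical
  induction p using MvPolynomial.induction_on with
  | C c => simp [HypJac.dehP]
  | add p q hp hq => simp only [map_add, hp, hq]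
  | mul_X p j hp =>
    simp only [map_mul, pderiv_mul, hp, map_add]
    congr 2
    by_cases hj : j = l
    · subst hj
      simp [HypJac.dehP, pderiv_X, Pi.single_apply, Ne.symm hi]
    · simp only [HypJac.dehP, eval₂Hom_X', dif_neg hj]
      simp [pderiv_X, Pi.single_apply, Subtype.ext_iff, apply_ite, hj]

theorem pa_ne_pb (i j : Fin ((m + 1) / 2)) : pa m i ≠ pb m j := fun h => by
  have := congrArg Fin.val h
  simp [pa, pb] at this
  omega

theorem pa_injective : Function.Injective (pa m) := fun i j h => Fin.ext (by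
  have := congrArg Fin.val h
  simp [pa] at this
  omega)

theorem pb_injective : Function.Injective (pb m) := fun i j h => Fin.ext (by
  have := congrArg Fin.val h
  simp [pb] at this
  omega)

theorem last_ne (h : (m + 1) % 2 = 1) (j : Fin ((m + 1) / 2)) : Fin.last m ≠ pa m j ∧ Fin.last m ≠ pb m j := by
  constructor <;> intro he <;> have := congrArg Fin.val he <;> simp [pa, pb] at this <;> omega

theorem pderiv_pa (j : Fin ((m + 1) / 2)) : pderiv (pa m j) (q0 k m) = X (pb m j) := by
  classical
  rw [q0, map_add, map_sum, apply_ite (pderiv _), map_zero, Finset.sum_eq_single j]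
  · have h0 : (if (m + 1) % 2 = 1 then pderiv (pa m j) (X (Fin.last m) * X (Fin.last m) : MvPolynomial _ k)
        else 0) = 0 := by
      split_ifs with h
      · simp [pderiv_mul, pderiv_X, Pi.single_apply, (last_ne m h j).1.symm, (last_ne m h j).1]
      · rfl
    rw [h0, add_zero]
    simp [pderiv_mul, pderiv_X, Pi.single_apply, pa_ne_pb m j j, (pa_ne_pb m j j).symm]
  · intro i _ hij
    simp [pderiv_mul, pderiv_X, Pi.single_apply, (pa_injective m).ne hij, ((pa_injective m).ne hij).symm,
      pa_ne_pb m j i, (pa_ne_pb m j i).symm]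
  · simp

theorem pderiv_pb (j : Fin ((m + 1) / 2)) : pderiv (pb m j) (q0 k m) = X (pa m j) := by
  classical
  rw [q0, map_add, map_sum, apply_ite (pderiv _), map_zero, Finset.sum_eq_single j]
  · have h0 : (if (m + 1) % 2 = 1 then pderiv (pb m j) (X (Fin.last m) * X (Fin.last m) : MvPolynomial _ k)
        else 0) = 0 := by
      split_ifs with h
      · simp [pderiv_mul, pderiv_X, Pi.single_apply, (last_ne m h j).2.symm, (last_ne m h j).2]
      · rfl
    rw [h0, add_zero]
    simp [pderiv_mul, pderiv_X, Pi.single_apply, pa_ne_pb m j j, (pa_ne_pb m j j).symm]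
  · intro i _ hij
    simp [pderiv_mul, pderiv_X, Pi.single_apply, (pb_injective m).ne hij, ((pb_injective m).ne hij).symm,
      pa_ne_pb m i j, (pa_ne_pb m i j).symm]
  · simp

theorem jac_dehP_q0 (l : Fin (m + 1)) : HypJac.jac (HypJac.dehP k l (q0 k m)) = ⊤ := by
  classical
  have hone : HypJac.dehP k l (X l) = 1 := by simp [HypJac.dehP]
  have hA : ∀ j, pa m j ≠ l → HypJac.dehP k l (X (pb m j)) ∈ HypJac.jac (HypJac.dehP k l (q0 k m)) := fun j h => by
    rw [← pderiv_pa, ← pderiv_dehP k m l _ h]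
    exact HypJac.pderiv_mem_jac _ _
  have hB : ∀ j, pb m j ≠ l → HypJac.dehP k l (X (pa m j)) ∈ HypJac.jac (HypJac.dehP k l (q0 k m)) := fun j h => by
    rw [← pderiv_pb, ← pderiv_dehP k m l _ h]
    exact HypJac.pderiv_mem_jac _ _
  rw [Ideal.eq_top_iff_one]
  by_cases hlt : (l : ℕ) < 2 * ((m + 1) / 2)
  · have hj : (l : ℕ) / 2 < (m + 1) / 2 := by omega
    rcases Nat.even_or_odd' (l : ℕ) with ⟨a, ha | ha⟩
    · have hl : pa m ⟨(l : ℕ) / 2, hj⟩ = l := Fin.ext (by simp [pa]; omega)
      rw [← hone, ← hl]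
      rw [hl]
      have h := hB ⟨(l : ℕ) / 2, hj⟩ (fun h => pa_ne_pb m _ _ (hl.trans h.symm))
      rwa [hl] at h
    · have hl : pb m ⟨(l : ℕ) / 2, hj⟩ = l := Fin.ext (by simp [pb]; omega)
      rw [← hone]
      have h := hA ⟨(l : ℕ) / 2, hj⟩ (fun h => pa_ne_pb m _ _ (h.trans hl.symm))
      rwa [hl] at h
  · have hodd : (m + 1) % 2 = 1 := by have := l.2; omega
    have hl : Fin.last m = l := Fin.ext (by have := l.2; simp; omega)
    have h := HypJac.self_mem_jac (HypJac.dehP k l (q0 k m))
    have hq : HypJac.dehP k l (q0 k m) =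
        (∑ j, HypJac.dehP k l (X (pa m j)) * HypJac.dehP k l (X (pb m j))) + 1 := by
      rw [q0, if_pos hodd, hl, map_add, map_sum, map_mul, hone, one_mul]
      simp only [map_mul]
    have hsum : (∑ j, HypJac.dehP k l (X (pa m j)) * HypJac.dehP k l (X (pb m j))) ∈
        HypJac.jac (HypJac.dehP k l (q0 k m)) :=
      sum_mem fun j _ => Ideal.mul_mem_left _ _ (hA j (hl ▸ (last_ne m hodd j).1.symm))
    have h2 := sub_mem h hsum
    rwa [sub_eq_iff_eq_add'.2 hq] at h2

theorem dehP_q0_ne_zero (l : Fin (m + 1)) : HypJac.dehP k l (q0 k m) ≠ 0 := by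
  intro h0
  have h := jac_dehP_q0 k m l
  rw [h0] at h
  have hle : HypJac.jac (0 : MvPolynomial {j : Fin (m + 1) // j ≠ l} k) ≤ ⊥ := by
    rw [HypJac.jac, Ideal.span_le]
    rintro _ (rfl | ⟨i, rfl⟩) <;> simp
  exact top_ne_bot (le_bot_iff.1 (h ▸ hle))

theorem nondegQuad : LefPen.NondegQuad k (quadForm k m) := by
  refine ⟨fun h => dehP_q0_ne_zero k m 0 ?_, Or.inr ?_⟩
  · rw [show q0 k m = 0 from h, map_zero]
  · exact (HypJac.smooth_hyp_iff (quadForm k m) (dehP_q0_ne_zero k m)).2 (jac_dehP_q0 k m)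

end Groth.Agent.DualVar
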