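import Groth.Agent.QuadSingJac.Basic
import Groth.Agent.DualVar.Quad
import Mathlib.RingTheory.MvPowerSeries.Substitution
import Mathlib.RingTheory.Nullstellensatz

/-!
# Second order terms of a power series along a vector, degeneracy
-/

set_option autoImplicit false
set_option linter.style.haveILetI false
set_option linter.unusedSectionVars false

universe u

open IsLocalRing

noncomputable section

namespace Groth.Agent.DualVar

variable {k : Type u} [Field k] {N : ℕ}

local notation "PS" => MvPowerSeries (Fin N) k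

theorem hasSubst_line {K : Type u} [CommRing K] (v : Fin N → K) :
    MvPowerSeries.HasSubst (fun i => (PowerSeries.C (v i) * PowerSeries.X : PowerSeries K)) :=
  MvPowerSeries.hasSubst_of_constantCoeff_zero fun i => by
    show PowerSeries.constantCoeff (PowerSeries.C (v i) * PowerSeries.X : PowerSeries K) = 0
    simp

/-- The restriction of a power series to a line through the origin. -/
def evl {K : Type u} [Field K] [Algebra k K] (v : Fin N → K) : PS →ₐ[k] PowerSeries K :=
  MvPowerSeries.substAlgHom (hasSubst_line v)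

variable {K : Type u} [Field K] [Algebra k K] (v : Fin N → K)

theorem evl_coe (p : MvPolynomial (Fin N) k) :
    evl v (p : PS) = MvPolynomial.aeval (fun i => (PowerSeries.C (v i) * PowerSeries.X : PowerSeries K)) p :=
  MvPowerSeries.substAlgHom_coe (hasSubst_line v) p

theorem evl_X (i : Fin N) : evl v (MvPowerSeries.X i : PS) = PowerSeries.C (v i) * PowerSeries.X :=
  MvPowerSeries.substAlgHom_X (hasSubst_line v) i

theorem evl_C (c : k) : evl v (MvPowerSeries.C c : PS) = PowerSeries.C (algebraMap k K c) := by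
  rw [← MvPolynomial.coe_C, evl_coe, MvPolynomial.aeval_C, IsScalarTower.algebraMap_apply k K (PowerSeries K)]
  rfl

theorem evl_mem_pow (g : PS) (e : ℕ) (hg : g ∈ maximalIdeal PS ^ e) :
    evl v g ∈ Ideal.span {(PowerSeries.X : PowerSeries K) ^ e} := by
  have h1 : (maximalIdeal PS).map (evl v) ≤ Ideal.span {(PowerSeries.X : PowerSeries K)} := by
    rw [← ArtPow.span_X_eq_maximalIdeal, Ideal.map_span, Ideal.span_le]
    rintro _ ⟨_, ⟨i, rfl⟩, rfl⟩
    rw [SetLike.mem_coe, evl_X]
    exact Ideal.mul_mem_left _ _ (Ideal.mem_span_singleton_self _)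
  have h2 := Ideal.mem_map_of_mem (evl v) hg
  rw [Ideal.map_pow] at h2
  have h3 := Ideal.pow_right_mono h1 e h2
  rwa [Ideal.span_singleton_pow] at h3

theorem coeff_evl_of_mem_pow (g : PS) (e j : ℕ) (hj : j < e) (hg : g ∈ maximalIdeal PS ^ e) :
    PowerSeries.coeff j (evl v g) = 0 :=
  (PowerSeries.X_pow_dvd_iff.1 (Ideal.mem_span_singleton.1 (evl_mem_pow v g e hg))) j hj

theorem constantCoeff_evl (g : PS) :
    PowerSeries.constantCoeff (evl v g) = algebraMap k K (MvPowerSeries.constantCoeff g) := by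
  have h : g - MvPowerSeries.C (MvPowerSeries.constantCoeff g) ∈ maximalIdeal PS ^ 1 := by
    rw [pow_one, QuadSingJac.mem_max_iff, map_sub, MvPowerSeries.constantCoeff_C, sub_self]
  have := coeff_evl_of_mem_pow v _ 1 0 one_pos h
  rw [map_sub, map_sub, sub_eq_zero, evl_C, PowerSeries.coeff_zero_eq_constantCoeff_apply,
    PowerSeries.coeff_zero_eq_constantCoeff_apply, PowerSeries.constantCoeff_C] at this
  exact this

/-- The first order term along `v`. -/
def lin (g : PS) : K := PowerSeries.coeff 1 (evl v g)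

/-- The second order term along `v`. -/
def Qf (g : PS) : K := PowerSeries.coeff 2 (evl v g)

/-- The polarisation of the second order term. -/
def pol (u : Fin N → K) (g : PS) : K := Qf (v + u) g - Qf v g - Qf u g

theorem lin_add (a b : PS) : lin v (a + b) = lin v a + lin v b := by simp [lin]

theorem Qf_add (a b : PS) : Qf v (a + b) = Qf v a + Qf v b := by simp [Qf]

theorem lin_C (c : k) : lin v (MvPowerSeries.C c : PS) = 0 := by simp [lin, evl_C]

theorem lin_X (i : Fin N) : lin v (MvPowerSeries.X i : PS) = v i := by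
  simp [lin, evl_X, PowerSeries.coeff_C_mul]

theorem lin_mul (a b : PS) : lin v (a * b) =
    algebraMap k K (MvPowerSeries.constantCoeff a) * lin v b + lin v a * algebraMap k K (MvPowerSeries.constantCoeff b) := by
  simp only [lin, map_mul, PowerSeries.coeff_one_mul, ← constantCoeff_evl v]
  ring

theorem lin_eq_sum (g : PS) :
    lin v g = ∑ i, v i * algebraMap k K (MvPowerSeries.coeff (Finsupp.single i 1) g) := by
  classical
  let L : PS := MvPowerSeries.C (MvPowerSeries.constantCoeff g) +
    ∑ i, MvPowerSeries.C (MvPowerSeries.coeff (Finsupp.single i 1) g) * MvPowerSeries.X i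
  have h : g - L ∈ maximalIdeal PS ^ 2 := by
    apply QuadSingJac.mem_sq_of_noLow
    refine ⟨?_, fun j => ?_⟩
    · simp [L]
    · rw [map_sub, map_add, map_sum, MvPowerSeries.coeff_C, if_neg (Finsupp.single_ne_zero.2 one_ne_zero)]
      simp [MvPowerSeries.coeff_C_mul, MvPowerSeries.coeff_X, Finsupp.single_left_inj one_ne_zero]
  have h0 := coeff_evl_of_mem_pow v _ 2 1 one_lt_two h
  rw [map_sub, map_sub, sub_eq_zero] at h0
  show PowerSeries.coeff 1 (evl v g) = _
  rw [h0]
  simp only [L, map_add, map_sum, map_mul, evl_C, evl_X]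
  simp [mul_comm]

theorem lin_combo {ι : Type} (s : Finset ι) (c : ι → K) (w : ι → Fin N → K) (g : PS) :
    lin (∑ j ∈ s, c j • w j) g = ∑ j ∈ s, c j * lin (w j) g := by
  simp only [lin_eq_sum, Finset.sum_apply, Pi.smul_apply, smul_eq_mul, Finset.mul_sum, Finset.sum_mul]
  rw [Finset.sum_comm]
  exact Finset.sum_congr rfl fun j _ => Finset.sum_congr rfl fun i _ => by ring

theorem lin_smul (c : K) (g : PS) : lin (c • v) g = c * lin v g := by
  simpa using lin_combo ({()} : Finset Unit) (fun _ => c) (fun _ => v) g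

theorem lin_add_vec (u : Fin N → K) (g : PS) : lin (v + u) g = lin v g + lin u g := by
  simp only [lin_eq_sum, Pi.add_apply, add_mul, Finset.sum_add_distrib]

theorem Qf_mul {a b : PS} (ha : a ∈ maximalIdeal PS) (hb : b ∈ maximalIdeal PS) :
    Qf v (a * b) = lin v a * lin v b := by
  have h0 : ∀ c ∈ maximalIdeal PS, PowerSeries.constantCoeff (evl v c) = 0 := fun c hc => by
    rw [constantCoeff_evl, (QuadSingJac.mem_max_iff c).1 hc, map_zero]
  simp [Qf, lin, PowerSeries.coeff_mul, Finset.Nat.antidiagonal_succ, h0 a ha, h0 b hb]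

/-- Induction on products of two elements without constant term. -/
theorem sq_induction {C : PS → Prop} {g : PS} (hg : g ∈ maximalIdeal PS ^ 2)
    (hmul : ∀ a ∈ maximalIdeal PS, ∀ b ∈ maximalIdeal PS, C (a * b)) (hadd : ∀ a b, C a → C b → C (a + b)) :
    C g := by
  rw [sq] at hg
  exact Submodule.mul_induction_on hg hmul hadd

theorem pol_add (u : Fin N → K) (a b : PS) : pol v u (a + b) = pol v u a + pol v u b := by
  simp only [pol, Qf_add]
  ring

theorem pol_mul (u : Fin N → K) {a b : PS} (ha : a ∈ maximalIdeal PS) (hb : b ∈ maximalIdeal PS) :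
    pol v u (a * b) = lin v a * lin u b + lin u a * lin v b := by
  simp only [pol, Qf_mul _ ha hb, lin_add_vec]
  ring

theorem pol_combo {g : PS} (hg : g ∈ maximalIdeal PS ^ 2) {ι : Type} (s : Finset ι) (c : ι → K)
    (w : ι → Fin N → K) : pol v (∑ j ∈ s, c j • w j) g = ∑ j ∈ s, c j * pol v (w j) g := by
  refine sq_induction (C := fun x => pol v (∑ j ∈ s, c j • w j) x = ∑ j ∈ s, c j * pol v (w j) x) hg
    (fun a ha b hb => ?_) (fun a b iha ihb => ?_)
  · simp only [pol_mul v _ ha hb, lin_combo, Finset.mul_sum, Finset.sum_mul, ← Finset.sum_add_distrib]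
    exact Finset.sum_congr rfl fun j _ => by ring
  · simp only [pol_add, iha, ihb, mul_add, Finset.sum_add_distrib]

theorem pol_smul_left {g : PS} (hg : g ∈ maximalIdeal PS ^ 2) (c : K) (u : Fin N → K) :
    pol (c • v) u g = c * pol v u g := by
  refine sq_induction (C := fun x => pol (c • v) u x = c * pol v u x) hg (fun a ha b hb => ?_) (fun a b iha ihb => ?_)
  · simp only [pol_mul _ _ ha hb, lin_smul]; ring
  · simp only [pol_add, iha, ihb]; ring

theorem Qf_smul {g : PS} (hg : g ∈ maximalIdeal PS ^ 2) (c : K) : Qf (c • v) g = c ^ 2 * Qf v g := by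
  refine sq_induction (C := fun x => Qf (c • v) x = c ^ 2 * Qf v x) hg (fun a ha b hb => ?_) (fun a b iha ihb => ?_)
  · simp only [Qf_mul _ ha hb, lin_smul]; ring
  · simp only [Qf_add, iha, ihb]; ring

variable (K) in
/-- The second order term has a singular zero over `K`. -/
def Deg (g : PS) : Prop :=
  ∃ v : Fin N → K, v ≠ 0 ∧ Qf v g = 0 ∧ ∀ u : Fin N → K, pol v u g = 0

/-- It is enough to polarise along the coordinate vectors. -/
theorem deg_of_single {g : PS} (hg : g ∈ maximalIdeal PS ^ 2) {v : Fin N → K} (hv : v ≠ 0) (hq : Qf v g = 0)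
    (h : ∀ i, pol v (Pi.single i 1) g = 0) : Deg K g := by
  classical
  refine ⟨v, hv, hq, fun u => ?_⟩
  rw [pi_eq_sum_univ' u, pol_combo v hg]
  exact Finset.sum_eq_zero fun i _ => by simp [h i]

theorem aeval_line {p : MvPolynomial (Fin N) k} {e : ℕ} (hp : p.IsHomogeneous e) :
    MvPolynomial.aeval (fun i => (PowerSeries.C (v i) * PowerSeries.X : PowerSeries K)) p =
      PowerSeries.C (MvPolynomial.aeval v p) * PowerSeries.X ^ e := by
  classical
  conv_lhs => rw [p.as_sum]
  conv_rhs => rw [p.as_sum]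
  simp only [map_sum, Finset.sum_mul, MvPolynomial.aeval_monomial, map_mul]
  refine Finset.sum_congr rfl fun d hd => ?_
  have hd' : d.degree = e := hp.degree_eq_sum_deg_support hd ▸ rfl
  rw [Finsupp.prod, Finsupp.prod, map_prod, ← hd', Finsupp.degree_apply, ← Finset.prod_pow_eq_pow_sum, mul_assoc,
    ← Finset.prod_mul_distrib]
  congr 1
  · rw [IsScalarTower.algebraMap_apply k K (PowerSeries K)]
    rfl
  · exact Finset.prod_congr rfl fun i _ => by rw [mul_pow, map_pow]

theorem Qf_eq_aeval {g : PS} (hg : g ∈ maximalIdeal PS ^ 2) {q : MvPolynomial (Fin N) k} (hq : q.IsHomogeneous 2)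
    (h : ∀ e : Fin N →₀ ℕ, e.degree = 2 → MvPolynomial.coeff e q = MvPowerSeries.coeff e g) :
    Qf v g = MvPolynomial.aeval v q := by
  classical
  have h3 : g - (q : PS) ∈ maximalIdeal PS ^ 3 := by
    rw [QuadSingJac.mem_pow_iff]
    intro e he
    rw [map_sub, MvPolynomial.coeff_coe, sub_eq_zero]
    rcases Nat.lt_or_ge e.degree 2 with h2 | h2
    · rw [(QuadSingJac.mem_pow_iff g 2).1 hg e h2, hq.coeff_eq_zero (by omega)]
    · exact (h e (by omega)).symm
  have h0 := coeff_evl_of_mem_pow v _ 3 2 (by norm_num) h3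
  rw [map_sub, map_sub, sub_eq_zero] at h0
  rw [Qf, h0, evl_coe, aeval_line v hq, PowerSeries.coeff_C_mul, PowerSeries.coeff_X_pow, if_pos rfl, mul_one]

theorem exists_single_add_single {e : Fin N →₀ ℕ} (he : e.degree = 2) :
    ∃ a b, e = Finsupp.single a 1 + Finsupp.single b 1 := by
  classical
  have key : ∀ {e : Fin N →₀ ℕ} {j : ℕ}, e.degree = j + 1 → ∃ a e', e = Finsupp.single a 1 + e' ∧ e'.degree = j := by
    intro e j hej
    obtain ⟨a, ha⟩ : ∃ a, e a ≠ 0 := by
      by_contra h
      push Not at h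
      rw [show e = 0 from Finsupp.ext h] at hej
      simp at hej
    have hdec := add_tsub_cancel_of_le (Finsupp.single_le_iff.2 (Nat.one_le_iff_ne_zero.2 ha) : Finsupp.single a 1 ≤ e)
    refine ⟨a, e - Finsupp.single a 1, hdec.symm, ?_⟩
    have := congrArg Finsupp.degree hdec
    rw [Finsupp.degree.map_add, Finsupp.degree_single, hej] at this
    omega
  obtain ⟨a, e', rfl, h1⟩ := key he
  obtain ⟨b, e'', rfl, h2⟩ := key h1
  exact ⟨a, b, by rw [(Finsupp.degree_eq_zero_iff _).1 h2, add_zero]⟩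

/-- The quadratic part of a power series. -/
theorem exists_quadPart (g : PS) : ∃ q : MvPolynomial (Fin N) k, q.IsHomogeneous 2 ∧
    ∀ e : Fin N →₀ ℕ, e.degree = 2 → MvPolynomial.coeff e q = MvPowerSeries.coeff e g := by
  classical
  let D : Finset (Fin N →₀ ℕ) :=
    (Finset.univ : Finset (Fin N × Fin N)).image fun p => Finsupp.single p.1 1 + Finsupp.single p.2 1
  have hD : ∀ e : Fin N →₀ ℕ, e.degree = 2 → e ∈ D := by
    intro e he
    obtain ⟨a, b, rfl⟩ := exists_single_add_single he
    exact Finset.mem_image.2 ⟨(a, b), Finset.mem_univ _, rfl⟩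
  refine ⟨∑ e ∈ D, MvPolynomial.monomial e (MvPowerSeries.coeff e g), MvPolynomial.IsHomogeneous.sum _ _ _ fun e he => ?_,
    fun e he => ?_⟩
  · obtain ⟨p, -, rfl⟩ := Finset.mem_image.1 he
    exact MvPolynomial.isHomogeneous_monomial _ (by rw [Finsupp.degree.map_add, Finsupp.degree_single, Finsupp.degree_single])
  · simp [MvPolynomial.coeff_sum, MvPolynomial.coeff_monomial, hD e he]

theorem deg_iff_poly [IsAlgClosed k] {g : PS} (hg : g ∈ maximalIdeal PS ^ 2) (h : Deg K g) : Deg k g := by
  classical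
  obtain ⟨q, hq, hqg⟩ := exists_quadPart g
  obtain ⟨v, hv, hQ, hP⟩ := h
  obtain ⟨s, hs⟩ := Function.ne_iff.1 hv
  let E : Set (MvPolynomial (Option (Fin N)) k) :=
    {MvPolynomial.rename some q, MvPolynomial.X none * MvPolynomial.X (some s) - 1} ∪
      Set.range (fun i => MvPolynomial.aeval
        (fun j => MvPolynomial.X (some j) + MvPolynomial.C ((Pi.single i 1 : Fin N → k) j)) q -
          MvPolynomial.rename some q - MvPolynomial.C (MvPolynomial.aeval (Pi.single i 1 : Fin N → k) q))
  have hval : ∀ {L : Type u} [Field L] [Algebra k L] (z : Option (Fin N) → L),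
      (∀ p ∈ E, MvPolynomial.aeval z p = 0) ↔ Qf (z ∘ some) g = 0 ∧ z none * z (some s) = 1 ∧
        ∀ i, pol (z ∘ some) (Pi.single i 1) g = 0 := by
    intro L _ _ z
    have hQz : MvPolynomial.aeval z (MvPolynomial.rename some q) = Qf (z ∘ some) g := by
      rw [MvPolynomial.aeval_rename, Qf_eq_aeval _ hg hq hqg]
    have hPz : ∀ i, MvPolynomial.aeval z (MvPolynomial.aeval
        (fun j => MvPolynomial.X (some j) + MvPolynomial.C ((Pi.single i 1 : Fin N → k) j)) q -
          MvPolynomial.rename some q - MvPolynomial.C (MvPolynomial.aeval (Pi.single i 1 : Fin N → k) q)) =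
        pol (z ∘ some) (Pi.single i 1) g := by
      intro i
      have hsing : (fun j => algebraMap k L ((Pi.single i 1 : Fin N → k) j)) = Pi.single i 1 := by
        funext j
        simp [Pi.single_apply, apply_ite]
      rw [map_sub, map_sub, hQz, MvPolynomial.aeval_C, MvPolynomial.comp_aeval_apply, pol,
        Qf_eq_aeval (z ∘ some + Pi.single i 1) hg hq hqg, Qf_eq_aeval (Pi.single i 1) hg hq hqg, ← hsing,
        show MvPolynomial.aeval (fun j => algebraMap k L ((Pi.single i 1 : Fin N → k) j)) q =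
          algebraMap k L (MvPolynomial.aeval (Pi.single i 1 : Fin N → k) q) from
          (MvPolynomial.comp_aeval_apply (fun j => (Pi.single i 1 : Fin N → k) j) (Algebra.ofId k L) q).symm]
      congr 4
      funext j
      simp
    simp only [E, Set.mem_union, or_imp, forall_and, Set.forall_mem_range, hPz, Set.forall_mem_insert, Set.mem_singleton_iff,
      forall_eq, hQz, map_sub, map_mul, map_one, MvPolynomial.aeval_X, sub_eq_zero, and_assoc]
  have hne : Ideal.span E ≠ ⊤ := by
    intro htop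
    let z : Option (Fin N) → K := fun o => o.elim (v s)⁻¹ v
    have hle : Ideal.span E ≤ RingHom.ker (MvPolynomial.aeval (R := k) z) := by
      refine Ideal.span_le.2 fun p hp => ?_
      exact (hval z).2 ⟨hQ, inv_mul_cancel₀ hs, fun i => hP _⟩ p hp
    rw [htop] at hle
    exact RingHom.ker_ne_top _ (top_le_iff.1 hle)
  obtain ⟨M, hM, hEM⟩ := Ideal.exists_le_maximal _ hne
  obtain ⟨z, hz⟩ := (MvPolynomial.isMaximal_iff_eq_vanishingIdeal_singleton (K := k) (I := M)).1 hM
  obtain ⟨h1, h2, h3⟩ := (hval z).1 fun p hp => by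
    have := hEM (Ideal.subset_span hp)
    rwa [hz, MvPolynomial.mem_vanishingIdeal_singleton_iff] at this
  refine deg_of_single hg (fun h0 => ?_) h1 h3
  rw [show z (some s) = 0 from congrFun h0 s, mul_zero] at h2
  exact zero_ne_one h2

/-- Transport of degeneracy along an isomorphism of quotients. -/
theorem not_deg_of_algEquiv (g g' : PS) (hg : g ∈ maximalIdeal PS ^ 2) (hg' : g' ∈ maximalIdeal PS ^ 2)
    (e : (PS ⧸ Ideal.span {g'}) ≃ₐ[k] (PS ⧸ Ideal.span {g})) (h : ¬ Deg k g') : ¬ Deg k g := by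
  classical
  let q : PS →ₐ[k] PS ⧸ Ideal.span {g} := Ideal.Quotient.mkₐ k _
  let q' : PS →ₐ[k] PS ⧸ Ideal.span {g'} := Ideal.Quotient.mkₐ k _
  have hgm : Ideal.span {g} ≤ maximalIdeal PS :=
    (Ideal.span_singleton_le_iff_mem _).2 (Ideal.pow_le_self two_ne_zero hg)
  have hgm' : Ideal.span {g'} ≤ maximalIdeal PS :=
    (Ideal.span_singleton_le_iff_mem _).2 (Ideal.pow_le_self two_ne_zero hg')
  haveI : Nontrivial (PS ⧸ Ideal.span {g}) :=
    Ideal.Quotient.nontrivial_iff.2 (ne_top_of_le_ne_top (maximalIdeal.isMaximal PS).ne_top hgm)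
  haveI : Nontrivial (PS ⧸ Ideal.span {g'}) :=
    Ideal.Quotient.nontrivial_iff.2 (ne_top_of_le_ne_top (maximalIdeal.isMaximal PS).ne_top hgm')
  haveI : IsLocalRing (PS ⧸ Ideal.span {g}) :=
    IsLocalRing.of_surjective' (Ideal.Quotient.mk _) Ideal.Quotient.mk_surjective
  haveI : IsLocalRing (PS ⧸ Ideal.span {g'}) :=
    IsLocalRing.of_surjective' (Ideal.Quotient.mk _) Ideal.Quotient.mk_surjective
  haveI : IsLocalHom (Ideal.Quotient.mk (Ideal.span {g})) := IsLocalHom.of_surjective _ Ideal.Quotient.mk_surjective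
  haveI : IsLocalHom (Ideal.Quotient.mk (Ideal.span {g'})) := IsLocalHom.of_surjective _ Ideal.Quotient.mk_surjective
  have hq : ∀ x, q x ∈ maximalIdeal _ ↔ x ∈ maximalIdeal PS := fun x => by
    rw [mem_maximalIdeal, mem_maximalIdeal, mem_nonunits_iff, mem_nonunits_iff]
    exact not_congr (isUnit_map_iff (Ideal.Quotient.mk (Ideal.span {g})) x)
  have hq' : ∀ x, q' x ∈ maximalIdeal _ ↔ x ∈ maximalIdeal PS := fun x => by
    rw [mem_maximalIdeal, mem_maximalIdeal, mem_nonunits_iff, mem_nonunits_iff]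
    exact not_congr (isUnit_map_iff (Ideal.Quotient.mk (Ideal.span {g'})) x)
  have hXm : ∀ i, (MvPowerSeries.X i : PS) ∈ maximalIdeal PS := fun i => by
    rw [QuadSingJac.mem_max_iff, MvPowerSeries.constantCoeff_X]
  have hem : ∀ x, e x ∈ maximalIdeal _ ↔ x ∈ maximalIdeal (PS ⧸ Ideal.span {g'}) := fun x => by
    rw [mem_maximalIdeal, mem_maximalIdeal, mem_nonunits_iff, mem_nonunits_iff]
    exact not_congr ⟨fun hu => by simpa using hu.map e.symm, fun hu => hu.map e⟩
  choose y hy using fun i => Ideal.Quotient.mkₐ_surjective k (Ideal.span {g}) (e (q' (MvPowerSeries.X i)))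
  have hym : ∀ i, y i ∈ maximalIdeal PS := fun i => by
    rw [← hq, show q (y i) = _ from hy i, hem, hq']
    exact hXm i
  haveI : IsAdicComplete (maximalIdeal PS) PS := ArtKit.isAdicComplete_mvPowerSeries
  obtain ⟨θ, hθ⟩ := ArtKit.exists_evalAdic (R := k) (maximalIdeal PS) y hym
  haveI : IsHausdorff (maximalIdeal (PS ⧸ Ideal.span {g})) (PS ⧸ Ideal.span {g}) :=
    IsHausdorff.of_isLocalRing _ _ (maximalIdeal.isMaximal _).ne_top
  have hcomp : q.comp θ = e.toAlgHom.comp q' := ArtKit.algHom_ext_adic (maximalIdeal (PS ⧸ Ideal.span {g}))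
    (fun i => (congrArg q (hθ i)).trans (hy i))
    (fun i => by rw [AlgHom.comp_apply, hθ, hq]; exact hym i)
  have hθm : ∀ x ∈ maximalIdeal PS, θ x ∈ maximalIdeal PS := fun x hx => by
    rw [← hq, ← AlgHom.comp_apply q θ, hcomp, AlgHom.comp_apply]
    exact (hem _).2 ((hq' x).2 hx)
  -- the linear part of `θ`
  have hlin : ∀ (w : Fin N → k) (x : PS), x ∈ maximalIdeal PS →
      lin w (θ x) = lin (fun i => lin w (θ (MvPowerSeries.X i))) x := by
    intro w x hx
    rw [← ArtPow.span_X_eq_maximalIdeal] at hx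
    induction hx using Submodule.span_induction with
    | mem x hx => obtain ⟨i, rfl⟩ := hx; rw [lin_X]
    | zero => simp [lin]
    | add a b _ _ iha ihb => rw [map_add, lin_add, lin_add, iha, ihb]
    | smul a x hx ih =>
      rw [Ideal.submodule_span_eq, ArtPow.span_X_eq_maximalIdeal] at hx
      rw [smul_eq_mul, map_mul, lin_mul, lin_mul, ih, (QuadSingJac.mem_max_iff _).1 hx,
        (QuadSingJac.mem_max_iff _).1 (hθm x hx), map_zero, mul_zero, mul_zero, add_zero, add_zero]
      congr 2
      obtain ⟨a', ha'⟩ : ∃ a', a - MvPowerSeries.C (MvPowerSeries.constantCoeff a) = a' := ⟨_, rfl⟩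
      have h1 : a' ∈ maximalIdeal PS := by
        rw [← ha', QuadSingJac.mem_max_iff, map_sub, MvPowerSeries.constantCoeff_C, sub_self]
      have h2 := (QuadSingJac.mem_max_iff _).1 (hθm a' h1)
      rw [← ha', map_sub, map_sub, sub_eq_zero] at h2
      have hC : ∀ c : k, algebraMap k PS c = MvPowerSeries.C c := fun c => by rw [MvPowerSeries.algebraMap_apply]; rfl
      rw [h2, ← hC, θ.commutes, hC, MvPowerSeries.constantCoeff_C]
  obtain ⟨v₀, hv₀⟩ : ∃ v₀, θ g' = v₀ * g := by
    have h1 : q (θ g') = 0 := by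
      rw [← AlgHom.comp_apply q θ, hcomp, AlgHom.comp_apply,
        show q' g' = 0 from Ideal.Quotient.eq_zero_iff_mem.2 (Ideal.mem_span_singleton_self g'), map_zero]
    obtain ⟨v, hv⟩ := Ideal.mem_span_singleton'.1 (Ideal.Quotient.eq_zero_iff_mem.1 h1)
    exact ⟨v, hv.symm⟩
  let T : (Fin N → k) → Fin N → k := fun w i => lin w (θ (MvPowerSeries.X i))
  have hT1 : ∀ w u, T (w + u) = T w + T u := fun w u => funext fun i => lin_add_vec w u _
  have hQ : ∀ w, Qf (T w) g' = MvPowerSeries.constantCoeff v₀ * Qf w g := by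
    intro w
    have h1 : Qf w (θ g') = Qf (T w) g' :=
      sq_induction (C := fun x => Qf w (θ x) = Qf (T w) x) hg'
        (fun a ha b hb => by rw [map_mul, Qf_mul _ (hθm a ha) (hθm b hb), Qf_mul _ ha hb, hlin w a ha, hlin w b hb])
        (fun a b iha ihb => by rw [map_add, Qf_add, Qf_add, iha, ihb])
    rw [← h1, hv₀]
    simp only [Qf, map_mul, PowerSeries.coeff_mul, Finset.Nat.antidiagonal_succ]
    simp [coeff_evl_of_mem_pow w g 2 1 one_lt_two hg, constantCoeff_evl,
      (QuadSingJac.mem_max_iff g).1 (Ideal.pow_le_self two_ne_zero hg)]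
  -- the variables are images, up to the relation
  have hX : ∀ i, ∃ hh ∈ maximalIdeal PS, ∃ w, MvPowerSeries.X i = θ hh + w * g := fun i => by
    obtain ⟨hh, hh'⟩ := Ideal.Quotient.mkₐ_surjective k (Ideal.span {g'}) (e.symm (q (MvPowerSeries.X i)))
    have h1 : q (θ hh) = q (MvPowerSeries.X i) := by
      rw [← AlgHom.comp_apply q θ, hcomp, AlgHom.comp_apply]
      show e (q' hh) = _
      rw [show q' hh = _ from hh', AlgEquiv.apply_symm_apply]
    obtain ⟨w, hw⟩ := Ideal.mem_span_singleton'.1 (Ideal.Quotient.eq.1 h1.symm)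
    refine ⟨hh, ?_, w, by rw [hw]; ring⟩
    rw [← hq', show q' hh = _ from hh', ← hem, AlgEquiv.apply_symm_apply, hq]
    exact hXm i
  have hker : ∀ w, T w = 0 → w = 0 := fun w hw => funext fun i => by
    obtain ⟨hh, hhm, c, hc⟩ := hX i
    have h1 : lin w (θ hh) = 0 := by
      rw [hlin w hh hhm, show (fun i => lin w (θ (MvPowerSeries.X i))) = 0 from hw, lin_eq_sum]
      simp
    have h2 : lin w (c * g) = 0 := by
      rw [lin_mul, show lin w g = 0 from coeff_evl_of_mem_pow w g 2 1 one_lt_two hg,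
        (QuadSingJac.mem_max_iff g).1 (Ideal.pow_le_self two_ne_zero hg)]
      simp
    rw [Pi.zero_apply, ← lin_X (k := k) w i, hc, lin_add, h1, h2, add_zero]
  let L : (Fin N → k) →ₗ[k] Fin N → k :=
    { toFun := T, map_add' := hT1, map_smul' := fun c w => funext fun i => lin_smul w c _ }
  have hsurj : Function.Surjective L :=
    LinearMap.injective_iff_surjective.1 ((injective_iff_map_eq_zero L).2 hker)
  rintro ⟨w, hw, hwQ, hwP⟩
  refine h ⟨T w, fun h0 => hw (hker w h0), by rw [hQ, hwQ, mul_zero], fun u => ?_⟩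
  obtain ⟨u, rfl⟩ := hsurj u
  show pol (T w) (T u) g' = 0
  rw [pol, ← hT1, hQ, hQ, hQ, ← mul_sub, ← mul_sub]
  rw [show Qf (w + u) g - Qf w g - Qf u g = 0 from hwP u, mul_zero]

/-- Degeneracy is the failure of nondegeneracy of the quadratic part. -/
theorem nondegQuad_iff [IsAlgClosed k] {m : ℕ} {g : MvPowerSeries (Fin (m + 1)) k} (hg : g ∈ maximalIdeal _ ^ 2)
    (Q₂ : LefPen.Form m k 2) (hQ : LefPen.IsQuadPart k g Q₂) : LefPen.NondegQuad k Q₂ ↔ ¬ Deg k g := by
  classical
  have hhom : Q₂.1.IsHomogeneous 2 := (MvPolynomial.mem_homogeneousSubmodule 2 _).1 Q₂.2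
  have hQf : ∀ v : Fin (m + 1) → k, Qf v g = MvPolynomial.eval v Q₂.1 := fun v => by
    rw [Qf_eq_aeval v hg hhom hQ, MvPolynomial.aeval_eq_eval]
  have hpol : ∀ (v : Fin (m + 1) → k) i,
      pol v (Pi.single i 1) g = MvPolynomial.eval v (MvPolynomial.pderiv i Q₂.1) := by
    intro v i
    rw [pol, hQf, hQf, hQf]
    conv_lhs => rw [Q₂.1.as_sum]
    conv_rhs => rw [Q₂.1.as_sum]
    simp only [map_sum, ← Finset.sum_sub_distrib]
    refine Finset.sum_congr rfl fun e he => ?_
    have he2 : e.degree = 2 := hhom.degree_eq_sum_deg_support he ▸ rfl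
    obtain ⟨a, b, rfl⟩ := exists_single_add_single he2
    have hm : ∀ c : k, MvPolynomial.monomial (Finsupp.single a 1 + Finsupp.single b 1) c =
        MvPolynomial.C c * (MvPolynomial.X a * MvPolynomial.X b) := fun c => by
      rw [MvPolynomial.X, MvPolynomial.X, MvPolynomial.monomial_mul, MvPolynomial.C_mul_monomial, mul_one, mul_one]
    rw [hm]
    simp only [map_mul, map_add, MvPolynomial.pderiv_mul, MvPolynomial.pderiv_C, MvPolynomial.pderiv_X,
      MvPolynomial.eval_C, MvPolynomial.eval_X, Pi.add_apply, map_zero, Pi.single_apply]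
    split_ifs <;> simp_all <;> ring
  have hzero : ∀ (l : Fin (m + 1)), HypJac.dehP k l Q₂.1 = 0 → Q₂.1 = 0 := by
    intro l hl
    have key : ∀ v : Fin (m + 1) → k, MvPolynomial.eval v (Q₂.1 * MvPolynomial.X l) = 0 := by
      intro v
      rw [map_mul, MvPolynomial.eval_X]
      by_cases h : v l = 0
      · rw [h, mul_zero]
      · have h1 : MvPolynomial.eval ((v l)⁻¹ • v) Q₂.1 = 0 := by
          have := congrArg (MvPolynomial.eval fun j => (v l)⁻¹ * v j.1) hl
          rw [map_zero] at this
          rw [← this]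
          refine RingHom.congr_fun (MvPolynomial.ringHom_ext (f := MvPolynomial.eval ((v l)⁻¹ • v))
            (g := (MvPolynomial.eval fun j => (v l)⁻¹ * v j.1).comp (HypJac.dehP k l))
            (fun c => by simp [HypJac.dehP]) fun j => ?_) _
          by_cases hj : j = l
          · subst hj; simp [HypJac.dehP, h]
          · simp [HypJac.dehP, hj]
        rw [← hQf, Qf_smul v hg, mul_eq_zero, or_iff_right (pow_ne_zero 2 (inv_ne_zero h)), hQf] at h1
        rw [h1, zero_mul]
    exact (mul_eq_zero.1 (MvPolynomial.funext fun v => by rw [key v, map_zero])).resolve_right (MvPolynomial.X_ne_zero l)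
  -- points of the charts
  have hpt : ∀ (l : Fin (m + 1)) (v : Fin (m + 1) → k), v l = 1 → ∀ p,
      MvPolynomial.eval (fun j => v j.1) (HypJac.dehP k l p) = MvPolynomial.eval v p := by
    intro l v hv
    refine RingHom.congr_fun (MvPolynomial.ringHom_ext (f := (MvPolynomial.eval fun j => v j.1).comp (HypJac.dehP k l))
      (g := MvPolynomial.eval v) (fun c => by simp [HypJac.dehP]) fun j => ?_)
    by_cases hj : j = l
    · subst hj; simp [HypJac.dehP, hv]
    · simp [HypJac.dehP, hj]
  constructor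
  · rintro ⟨h0, hsm⟩ ⟨v, hv, hvQ, hvP⟩
    obtain ⟨l, hl⟩ := Function.ne_iff.1 hv
    rcases hsm with rfl | hsm
    · apply h0
      refine MvPolynomial.funext fun u => ?_
      have hu : u = (u 0 / v 0) • v := funext fun j => by
        obtain rfl : j = 0 := Fin.eq_zero j
        obtain rfl : l = 0 := Fin.eq_zero l
        rw [Pi.smul_apply, smul_eq_mul, div_mul_cancel₀ _ hl]
      rw [map_zero, hu, ← hQf, Qf_smul v hg, hvQ, mul_zero]
    · have hd : ∀ l, HypJac.dehP k l Q₂.1 ≠ 0 := fun l h => h0 (hzero l h)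
      have htop := (HypJac.smooth_hyp_iff Q₂ hd).1 hsm l
      let w := (v l)⁻¹ • v
      have hw1 : w l = 1 := inv_mul_cancel₀ hl
      have hle : HypJac.jac (HypJac.dehP k l Q₂.1) ≤ RingHom.ker (MvPolynomial.eval fun j => w j.1) := by
        rw [HypJac.jac, Ideal.span_le]
        rintro _ (rfl | ⟨j, rfl⟩)
        · rw [SetLike.mem_coe, RingHom.mem_ker, hpt l w hw1, ← hQf, Qf_smul v hg, hvQ, mul_zero]
        · simp only [SetLike.mem_coe, RingHom.mem_ker]
          rw [show (MvPolynomial.pderiv j) (HypJac.dehP k l Q₂.1) = _ from pderiv_dehP k m l j.1 j.2 Q₂.1, hpt l w hw1, ← hpol, pol_smul_left v hg,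
            hvP, mul_zero]
      exact RingHom.ker_ne_top _ (top_le_iff.1 (htop ▸ hle))
  · intro hD
    have h0 : Q₂.1 ≠ 0 := by
      intro h0
      refine hD ⟨Pi.single 0 1, fun h => one_ne_zero (α := k) (by simpa using congrFun h 0), ?_, fun u => ?_⟩
      · rw [hQf, h0, map_zero]
      · rw [pol, hQf, hQf, hQf, h0]; simp
    have hd : ∀ l, HypJac.dehP k l Q₂.1 ≠ 0 := fun l h => h0 (hzero l h)
    refine ⟨h0, Or.inr ((HypJac.smooth_hyp_iff Q₂ hd).2 fun l => ?_)⟩
    by_contra hne
    obtain ⟨M, hM, hle⟩ := Ideal.exists_le_maximal _ hne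
    obtain ⟨z, hz⟩ := (MvPolynomial.isMaximal_iff_eq_vanishingIdeal_singleton (K := k) (I := M)).1 hM
    let v : Fin (m + 1) → k := fun j => if h : j = l then 1 else z ⟨j, h⟩
    have hv1 : v l = 1 := dif_pos rfl
    have hvz : (fun j : {j : Fin (m + 1) // j ≠ l} => v j.1) = z := funext fun j => dif_neg j.2
    have hk : ∀ p ∈ HypJac.jac (HypJac.dehP k l Q₂.1), MvPolynomial.eval z p = 0 := fun p hp => by
      have := hle hp
      rwa [hz, MvPolynomial.mem_vanishingIdeal_singleton_iff, MvPolynomial.aeval_eq_eval] at this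
    have hQv : MvPolynomial.eval v Q₂.1 = 0 := by
      rw [← hpt l v hv1, hvz]; exact hk _ (HypJac.self_mem_jac _)
    refine hD (deg_of_single hg (fun h => one_ne_zero (α := k) (hv1.symm.trans (congrFun h l))) (by rw [hQf, hQv]) fun i => ?_)
    rw [hpol]
    have hne' : ∀ j, j ≠ l → MvPolynomial.eval v (MvPolynomial.pderiv j Q₂.1) = 0 := fun j hj => by
      rw [← hpt l v hv1, ← pderiv_dehP k m l j hj, hvz]
      exact hk _ (HypJac.pderiv_mem_jac _ (⟨j, hj⟩ : {j // j ≠ l}))
    by_cases hi : i = l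
    · subst hi
      have hE := congrArg (MvPolynomial.eval v) hhom.sum_X_mul_pderiv
      rw [map_sum, map_nsmul, hQv, smul_zero, Finset.sum_eq_single i (fun j _ hj => by rw [map_mul, hne' j hj, mul_zero])
        (by simp), map_mul, MvPolynomial.eval_X, hv1, one_mul] at hE
      exact hE
    · exact hne' i hi

end Groth.Agent.DualVar
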