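import Groth.Agent.DualVar.DegLocus

/-!
# Non-degeneracy from the matrix of second derivatives
-/

set_option autoImplicit false
set_option linter.style.haveILetI false
set_option linter.unusedSectionVars false

universe u

open IsLocalRing

noncomputable section

namespace Groth.Agent.DualVar

variable {k A : Type u} [Field k] [CommRing A] [Algebra k A] {n : ℕ} (b : Module.Basis (Fin n) A Ω[A⁄k])

/-- The differentials of functions span at a point. -/
theorem exists_dB_single (ρ : A →ₐ[k] k) (l : Fin n) :
    ∃ a : A, ∀ m, ρ (dB b m a) = if l = m then 1 else 0 := by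
  classical
  let L : A →ₗ[k] (Fin n → k) := LinearMap.pi fun m => ρ.toLinearMap ∘ₗ dB b m
  have hmem : ∀ ω : Ω[A⁄k], (fun m => ρ (b.coord m ω)) ∈ LinearMap.range L := by
    intro ω
    have hω : ω ∈ Submodule.span A (Set.range (KaehlerDifferential.D k A)) := by
      rw [KaehlerDifferential.span_range_derivation]; trivial
    induction hω using Submodule.span_induction with
    | mem w hw =>
      obtain ⟨a, rfl⟩ := hw
      exact ⟨a, funext fun m => rfl⟩
    | zero => exact ⟨0, funext fun m => by simp⟩
    | add w w' _ _ ih ih' =>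
      obtain ⟨a, ha⟩ := ih
      obtain ⟨a', ha'⟩ := ih'
      exact ⟨a + a', by rw [map_add, ha, ha']; funext m; simp⟩
    | smul c w _ ih =>
      obtain ⟨a, ha⟩ := ih
      exact ⟨ρ c • a, by rw [map_smul, ha]; funext m; simp⟩
  obtain ⟨a, ha⟩ := hmem (b l)
  refine ⟨a, fun m => ?_⟩
  have := congrFun ha m
  simp only [Module.Basis.coord_apply, Module.Basis.repr_self, Finsupp.single_apply, apply_ite ρ, map_one, map_zero] at this
  exact this

theorem pol_comm {N : ℕ} (v u : Fin N → k) (g : MvPowerSeries (Fin N) k) : pol v u g = pol u v g := by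
  simp only [pol, add_comm v u]
  ring

/-- A non-degenerate matrix of second derivatives gives a non-degenerate second order term. -/
theorem not_deg_of_hess {ρ : A →ₐ[k] k} {ψ : A →ₐ[k] MvPowerSeries (Fin n) k} (hC : Coord ρ ψ) {g : A}
    (hg : g ∈ RingHom.ker ρ ^ 2)
    (h : ∀ c : Fin n → k, (∀ l, ∑ m, c m * ρ (dB b m (dB b l g)) = 0) → c = 0) : ¬ Deg k (ψ g) := by
  classical
  choose w hw using fun m => hC.exists_vec (K := k) (ρ.toLinearMap ∘ₗ dB b m) (fun a c => by
    simp only [LinearMap.comp_apply, dB_mul, AlgHom.toLinearMap_apply, map_add, map_mul, Algebra.algebraMap_self,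
      RingHom.id_apply]
    ring)
  choose e he using exists_dB_single b ρ
  let L : (Fin n → k) →ₗ[k] (Fin n → k) :=
    { toFun := fun c => ∑ m, c m • w m
      map_add' := fun c c' => by simp [add_smul, Finset.sum_add_distrib]
      map_smul' := fun t c => by simp [Finset.smul_sum, smul_smul] }
  have hL : Function.Injective L := by
    refine (injective_iff_map_eq_zero L).2 fun c hc => funext fun l => ?_
    have := congrArg (fun v => lin v (ψ (e l))) hc
    simp only [show L c = ∑ m, c m • w m from rfl, lin_combo, hw, LinearMap.comp_apply, AlgHom.toLinearMap_apply, he,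
      mul_ite, mul_one, mul_zero, Finset.sum_ite_eq, Finset.mem_univ, if_true] at this
    rw [this]
    simp [lin_eq_sum]
  have hsec : ∀ z ∈ RingHom.ker ρ ^ 2, ∀ l m, ρ (dB b m (dB b l z)) = pol (w l) (w m) (ψ z) := by
    intro z hz
    refine Submodule.mul_induction_on (C := fun z => ∀ l m, ρ (dB b m (dB b l z)) = pol (w l) (w m) (ψ z))
      ((_root_.sq (RingHom.ker ρ)) ▸ hz) (fun x hx y hy l m => ?_) (fun x y ihx ihy l m => ?_)
    · have hmax : ∀ {x : A}, x ∈ RingHom.ker ρ → ψ x ∈ maximalIdeal (MvPowerSeries (Fin n) k) := fun hx => by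
        rw [QuadSingJac.mem_max_iff, hC.const]; exact hx
      rw [RingHom.mem_ker] at hx hy
      rw [map_mul ψ, pol_mul _ _ (hmax hx) (hmax hy)]
      simp only [hw, LinearMap.comp_apply, AlgHom.toLinearMap_apply, dB_mul, map_add, map_mul, hx, hy]
      ring
    · rw [map_add, map_add, map_add, ihx, ihy, map_add, pol_add]
  rintro ⟨v, hv, -, hp⟩
  obtain ⟨c, rfl⟩ := LinearMap.injective_iff_surjective.1 hL v
  refine hv ?_
  rw [h c fun l => ?_]
  · exact map_zero L
  · have := hp (w l)
    rw [pol_comm, show L c = ∑ m, c m • w m from rfl, pol_combo _ (coord_mem_sq hC hg)] at this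
    simpa only [hsec g hg] using this

end Groth.Agent.DualVar
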