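import Groth.Agent.DualVar.Chart
import Groth.Agent.ProjMor.ProjSpaceBase

/-!
# Parameters for which a closed condition holds at no point form an open set
-/

set_option autoImplicit false
set_option linter.style.haveILetI false
set_option linter.unusedSectionVars false
set_option backward.isDefEq.respectTransparency false
set_option backward.isDefEq.respectTransparency.types false

universe u

open CategoryTheory CategoryTheory.Limits AlgebraicGeometry TopologicalSpace Opposite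
open Groth.Agent.WeilLib (secStr)

noncomputable section

namespace Groth.Agent.DualVar

variable {k : Type u} [Field k] [IsAlgClosed k] {r n : ℕ} {X : Scheme.{u}} {i : X ⟶ CohB1.ProjSpace r k}
  [IsClosedImmersion i] [SmoothOfRelativeDimension n (str i)] {ι : Type} [Fintype ι]

include n

theorem exists_poly_incid [LocallyOfFiniteType (str i)] (E : ∀ C : Ch i n, Set (MvPolynomial ι Γ(X, C.V.1)))
    (Cond : X → (ι → k) → Prop)
    (hE : ∀ (C : Ch i n) (x : X) (hx : IsClosed ({x} : Set X)) (hxV : x ∈ C.V.1) (s : ι → k),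
      Cond x s ↔ ∀ Q ∈ E C, MvPolynomial.eval₂ (ev (str i) hx hxV) s Q = 0)
    (s₀ : ι → k) (h₀ : ∀ x : X, IsClosed ({x} : Set X) → ¬ Cond x s₀) :
    ∃ f : MvPolynomial ι k, MvPolynomial.eval s₀ f ≠ 0 ∧ ∀ s, MvPolynomial.eval s f ≠ 0 →
      ∀ x : X, IsClosed ({x} : Set X) → ¬ Cond x s := by
  classical
  haveI : IsProper (CohB1.ProjSpace.toSpec r k) := ProjMor.isProper_toSpec r k
  haveI : IsProper (str i) := inferInstance
  haveI : JacobsonSpace X := LocallyOfFiniteType.jacobsonSpace (str i)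
  let Ro := CommRingCat.of (MvPolynomial ι k)
  let pb : Spec Ro ⟶ Spec (CommRingCat.of k) := Spec.map (CommRingCat.ofHom (algebraMap k (MvPolynomial ι k)))
  let P := pullback (str i) pb
  let p₁ : P ⟶ X := pullback.fst (str i) pb
  let p₂ : P ⟶ Spec Ro := pullback.snd (str i) pb
  let cst : ∀ W : P.Opens, MvPolynomial ι k →+* Γ(P, W) := fun W =>
    ((Scheme.ΓSpecIso Ro).inv ≫ p₂.appLE ⊤ W le_top).hom
  let u : ∀ (C : Ch i n), MvPolynomial ι Γ(X, C.V.1) → Γ(P, p₁ ⁻¹ᵁ C.V.1) := fun C Q =>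
    MvPolynomial.eval₂ (p₁.app C.V.1).hom (fun c => cst _ (MvPolynomial.X c)) Q
  let W : P.Opens := ⨆ C : Ch i n, ⨆ Q : E C, P.basicOpen (u C Q.1)
  let ptm : (ι → k) → (Spec (CommRingCat.of k) ⟶ Spec Ro) := fun s =>
    Spec.map (CommRingCat.ofHom (MvPolynomial.eval s))
  have hpm : ∀ s, ptm s ≫ pb = 𝟙 _ := fun s => by
    show Spec.map _ ≫ Spec.map _ = _
    rw [← Spec.map_comp, ← CommRingCat.ofHom_comp]
    have : (MvPolynomial.eval s).comp (algebraMap k (MvPolynomial ι k)) = RingHom.id k := by ext c; simp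
    rw [this]
    exact Spec.map_id _
  let sec : (ι → k) → (X ⟶ P) := fun s =>
    pullback.lift (𝟙 X) (str i ≫ ptm s) (by rw [Category.assoc, hpm, Category.comp_id, Category.id_comp])
  have hfst : ∀ (s : ι → k) (y : X), p₁ (sec s y) = y := fun s y => congr($(pullback.lift_fst (𝟙 X) (str i ≫ ptm s) _) y)
  have hmem : ∀ (s : ι → k) (x : X) (hx : IsClosed ({x} : Set X)), sec s x ∈ W ↔ ¬ Cond x s := by
    intro s x hx
    have hiff : ∀ (C : Ch i n) (Q : MvPolynomial ι Γ(X, C.V.1)) (hxV : x ∈ C.V.1),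
        sec s x ∈ P.basicOpen (u C Q) ↔ MvPolynomial.eval₂ (ev (str i) hx hxV) s Q ≠ 0 := by
      intro C Q hxV
      have e : C.V.1 ≤ sec s ⁻¹ᵁ (p₁ ⁻¹ᵁ C.V.1) := fun y hy => by
        show p₁ (sec s y) ∈ C.V.1
        rwa [hfst]
      have h1 : ∀ a, ((sec s).appLE _ C.V.1 e).hom ((p₁.app C.V.1).hom a) = a := fun a => by
        show (p₁.app C.V.1 ≫ (sec s).appLE (p₁ ⁻¹ᵁ C.V.1) C.V.1 e) a = a
        rw [← Scheme.Hom.appLE_eq_app, Scheme.Hom.appLE_comp_appLE]
        have key : ∀ (g : X ⟶ X) (e' : C.V.1 ≤ g ⁻¹ᵁ C.V.1), g = 𝟙 X → g.appLE C.V.1 C.V.1 e' = 𝟙 _ := by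
          rintro g e' rfl
          simp [Scheme.Hom.appLE]
          exact X.presheaf.map_id _
        rw [key _ _ (pullback.lift_fst _ _ _)]
        rfl
      have h2 : ∀ p, ((sec s).appLE _ C.V.1 e).hom (cst _ p) = secStr (str i) C.V.1 (MvPolynomial.eval s p) := fun p => by
        show ((Scheme.ΓSpecIso Ro).inv ≫ p₂.appLE ⊤ _ le_top ≫ (sec s).appLE (p₁ ⁻¹ᵁ C.V.1) C.V.1 e) p = _
        rw [Scheme.Hom.appLE_comp_appLE]
        have key : ∀ (g : X ⟶ Spec Ro) (e' : C.V.1 ≤ g ⁻¹ᵁ ⊤), g = str i ≫ ptm s →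
            g.appLE ⊤ C.V.1 e' = (ptm s).appTop ≫ (str i).appLE ⊤ C.V.1 le_top := by
          rintro g e' rfl
          exact (Scheme.Hom.appLE_comp_appLE (str i) (ptm s) ⊤ ⊤ C.V.1 le_top le_top).symm.trans
            (by rw [Scheme.Hom.appTop, ← Scheme.Hom.appLE_eq_app]; rfl)
        rw [key _ _ (pullback.lift_snd _ _ _), ← Category.assoc, ← Scheme.ΓSpecIso_inv_naturality]
        rfl
      have hval : ev (str i) hx hxV (((sec s).appLE _ C.V.1 e).hom (u C Q)) =
          MvPolynomial.eval₂ (ev (str i) hx hxV) s Q := by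
        refine RingHom.congr_fun (f := ((ev (str i) hx hxV).comp ((sec s).appLE _ C.V.1 e).hom).comp
          (MvPolynomial.eval₂Hom (p₁.app C.V.1).hom fun c => cst _ (MvPolynomial.X c)))
          (g := MvPolynomial.eval₂Hom (ev (str i) hx hxV) s) (MvPolynomial.ringHom_ext (fun a => ?_) fun c => ?_) Q
        · simp only [RingHom.comp_apply, MvPolynomial.eval₂Hom_C, h1]
        · simp only [RingHom.comp_apply, MvPolynomial.eval₂Hom_X', h2, ev_secStr, MvPolynomial.eval_X]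
      rw [← hval, ev_ne_zero_iff]
      show _ ↔ x ∈ X.basicOpen (X.presheaf.map (homOfLE e).op ((sec s).app _ (u C Q)))
      rw [Scheme.basicOpen_res, ← Scheme.preimage_basicOpen]
      exact ⟨fun h => ⟨hxV, h⟩, fun h => h.2⟩
    constructor
    · intro hW hB
      simp only [W, Opens.mem_iSup] at hW
      obtain ⟨C, Q, h⟩ := hW
      have hxV : x ∈ C.V.1 := by
        have h2 : p₁ (sec s x) ∈ C.V.1 := P.basicOpen_le (u C Q.1) h
        rwa [hfst] at h2
      exact (hiff C Q.1 hxV).1 h ((hE C x hx hxV s).1 hB Q.1 Q.2)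
    · intro hB
      obtain ⟨C, hxV⟩ := exists_ch (n := n) (i := i) hx
      rw [hE C x hx hxV s] at hB
      push Not at hB
      obtain ⟨Q, hQ, hne⟩ := hB
      simp only [W, Opens.mem_iSup]
      exact ⟨C, ⟨Q, hQ⟩, (hiff C Q hxV).2 hne⟩
  let pt : (ι → k) → (Spec Ro : Scheme.{u}) := fun s => ptm s (IsLocalRing.closedPoint k)
  have hsnd : ∀ (s : ι → k) (x : X), p₂ (sec s x) = pt s := fun s x => by
    have h := congr($(pullback.lift_snd (𝟙 X) (str i ≫ ptm s)
      (by rw [Category.assoc, hpm, Category.comp_id, Category.id_comp])) x)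
    refine h.trans (congrArg (ptm s) ?_)
    exact Subsingleton.elim (α := PrimeSpectrum k) _ _
  have hfib : ∀ (s : ι → k) (z : P), p₂ z = pt s → ∃ x, sec s x = z := by
    intro s z hz
    have hsq : IsPullback (sec s) (str i) p₂ (ptm s) := by
      refine IsPullback.of_right ?_ (pullback.lift_snd _ _ _) (IsPullback.of_hasPullback (str i) pb).flip.flip
      rw [show sec s ≫ p₁ = 𝟙 X from pullback.lift_fst _ _ _, hpm]
      exact IsPullback.of_horiz_isIso ⟨by rw [Category.id_comp, Category.comp_id]⟩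
    obtain ⟨w, hw, -⟩ := Scheme.Pullback.exists_preimage_pullback (f := p₂) (g := ptm s) z
      (IsLocalRing.closedPoint k) hz
    refine ⟨hsq.isoPullback.inv w, ?_⟩
    rw [← hw]
    exact congr($(hsq.isoPullback_inv_fst) w)
  have hcl : IsClosed (p₂ '' (W : Set P)ᶜ) := p₂.isClosedMap _ W.isOpen.isClosed_compl
  have hs₀ : pt s₀ ∉ p₂ '' (W : Set P)ᶜ := by
    rintro ⟨z, hzW, hz⟩
    obtain ⟨x, rfl⟩ := hfib s₀ z hz
    obtain ⟨y, hy, hyc⟩ := nonempty_inter_closedPoints (Z := ((sec s₀ ⁻¹ᵁ W : X.Opens) : Set X)ᶜ) ⟨x, hzW⟩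
      ((sec s₀ ⁻¹ᵁ W).isOpen.isClosed_compl.isLocallyClosed)
    exact hy ((hmem s₀ y hyc).2 (h₀ y hyc))
  obtain ⟨_, ⟨f, rfl⟩, hsf, hsub⟩ := PrimeSpectrum.isTopologicalBasis_basic_opens.exists_subset_of_mem_open
    (show pt s₀ ∈ (p₂ '' (W : Set P)ᶜ)ᶜ from hs₀) hcl.isOpen_compl
  have hpt : ∀ s, pt s ∈ PrimeSpectrum.basicOpen f ↔ MvPolynomial.eval s f ≠ 0 := fun s => by
    rw [PrimeSpectrum.mem_basicOpen]
    show (¬ f ∈ (IsLocalRing.closedPoint k).asIdeal.comap (MvPolynomial.eval s)) ↔ _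
    rw [show (IsLocalRing.closedPoint k).asIdeal = ⊥ from IsLocalRing.maximalIdeal_eq_bot]
    rfl
  exact ⟨f, (hpt s₀).1 hsf, fun s hs x hx hB => hsub ((hpt s).2 hs) ⟨sec s x, fun hW => (hmem s x hx).1 hW hB, hsnd s x⟩⟩

end Groth.Agent.DualVar
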