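import Groth.Prelude.Def_LefPen
import Groth.Agent.GenDim.Basic
import Mathlib

/-!
# Polynomial functions on the space of forms
-/

set_option autoImplicit false

universe u

open MvPolynomial

noncomputable section

namespace Groth.Agent.DualVar

variable {k : Type u} [Field k] {r d : ℕ}

instance finite_form : Module.Finite k (LefPen.Form r k d) := by
  classical
  haveI : FiniteDimensional k (Submodule.span k
      (((Finset.univ : Finset (Fin (r + 1))).finsuppAntidiag d).image (fun m => monomial m (1 : k)) :
        Set (MvPolynomial (Fin (r + 1)) k))) := FiniteDimensional.span_finset k _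
  refine Submodule.finiteDimensional_of_le (S₂ := Submodule.span k
      (((Finset.univ : Finset (Fin (r + 1))).finsuppAntidiag d).image (fun m => monomial m (1 : k)) :
        Set (MvPolynomial (Fin (r + 1)) k))) fun p hp => ?_
  rw [p.as_sum]
  refine sum_mem fun m hm => ?_
  rw [← mul_one (coeff m p), ← smul_eq_mul, ← smul_monomial]
  exact Submodule.smul_mem _ _ (Submodule.subset_span
    (Finset.mem_coe.2 (Finset.mem_image_of_mem _ (GenDim.forms_support p hp hm))))

/-- A basis of the space of forms. -/
def bF (r : ℕ) (k : Type u) [Field k] (d : ℕ) :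
    Module.Basis (Fin (Module.finrank k (LefPen.Form r k d))) k (LefPen.Form r k d) :=
  Module.finBasis k _

/-- The coordinates of a form. -/
def co (H : LefPen.Form r k d) : Fin (Module.finrank k (LefPen.Form r k d)) → k := fun c => (bF r k d).repr H c

theorem sum_co (H : LefPen.Form r k d) : ∑ c, co H c • bF r k d c = H := (bF r k d).sum_repr H

theorem isPolyFun_co (P : MvPolynomial (Fin (Module.finrank k (LefPen.Form r k d))) k) :
    LefPen.IsPolyFun k (fun H : LefPen.Form r k d => eval (co H) P) :=
  GenDim.isPolyFun_eval (fun c => (bF r k d).coord c) P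

theorem exists_poly_of_isPolyFun {f : LefPen.Form r k d → k} (hf : LefPen.IsPolyFun k f) :
    ∃ P : MvPolynomial (Fin (Module.finrank k (LefPen.Form r k d))) k, ∀ H, f H = eval (co H) P := by
  unfold LefPen.IsPolyFun at hf
  induction hf using Algebra.adjoin_induction with
  | mem g hg =>
    obtain ⟨l, rfl⟩ := hg
    refine ⟨∑ c, C (l (bF r k d c)) * X c, fun H => ?_⟩
    show l H = _
    conv_lhs => rw [← sum_co H]
    simp [map_sum, mul_comm]
  | algebraMap a => exact ⟨C a, fun H => by simp⟩
  | add f g _ _ hf hg =>
    obtain ⟨P, hP⟩ := hf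
    obtain ⟨Q, hQ⟩ := hg
    exact ⟨P + Q, fun H => by simp [hP, hQ]⟩
  | mul f g _ _ hf hg =>
    obtain ⟨P, hP⟩ := hf
    obtain ⟨Q, hQ⟩ := hg
    exact ⟨P * Q, fun H => by simp [hP, hQ]⟩

/-- Two polynomial functions with non-zeros on an affine line have a common non-zero on it. -/
theorem exists_line_ne_zero [Infinite k] (P Q : MvPolynomial (Fin (Module.finrank k (LefPen.Form r k d))) k)
    (G H : LefPen.Form r k d) (hP : eval (co G) P ≠ 0) (hQ : eval (co H) Q ≠ 0) :
    ∃ t : k, eval (co (G + t • (H - G))) P ≠ 0 ∧ eval (co (G + t • (H - G))) Q ≠ 0 := by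
  let z : Fin (Module.finrank k (LefPen.Form r k d)) → Polynomial k := fun c =>
    Polynomial.C (co G c) + Polynomial.X * Polynomial.C (co (H - G) c)
  have he : ∀ (R : MvPolynomial (Fin (Module.finrank k (LefPen.Form r k d))) k) (t : k),
      Polynomial.eval t (aeval z R) = eval (co (G + t • (H - G))) R := by
    intro R t
    induction R using MvPolynomial.induction_on with
    | C a => simp
    | add p q hp hq => simp only [map_add, Polynomial.eval_add, hp, hq]
    | mul_X p c hp =>
      simp only [map_mul, Polynomial.eval_mul, hp, aeval_X, eval_X, z, Polynomial.eval_add, Polynomial.eval_C,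
        Polynomial.eval_X]
      simp [co, mul_comm]
  have h1 : aeval z P ≠ 0 := fun h => hP (by have := he P 0; rw [h] at this; simpa using this.symm)
  have h2 : aeval z Q ≠ 0 := fun h => hQ (by have := he Q 1; rw [h] at this; simpa using this.symm)
  obtain ⟨t, ht⟩ : ∃ t, Polynomial.eval t (aeval z P * aeval z Q) ≠ 0 := by
    by_contra hc
    push Not at hc
    exact mul_ne_zero h1 h2 (Polynomial.funext fun t => by simpa using hc t)
  rw [Polynomial.eval_mul, he, he] at ht
  exact ⟨t, left_ne_zero_of_mul ht, right_ne_zero_of_mul ht⟩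

end Groth.Agent.DualVar
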