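import Groth.Agent.DualVar.Frames
import Groth.Agent.DualVar.Poly

/-!
# The forms singular somewhere on an irreducible smooth embedded scheme form an irreducible set
-/

set_option autoImplicit false
set_option linter.style.haveILetI false
set_option linter.unusedSectionVars false
set_option backward.isDefEq.respectTransparency false
set_option backward.isDefEq.respectTransparency.types false

universe u

open CategoryTheory CategoryTheory.Limits AlgebraicGeometry TopologicalSpace Opposite MvPolynomial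
open Groth.Agent.WeilLib (secStr)

noncomputable section

namespace Groth.Agent.DualVar

variable {k : Type u} [Field k] [IsAlgClosed k] {r n d : ℕ} {X : Scheme.{u}} (i : X ⟶ CohB1.ProjSpace r k)
  [LocallyOfFiniteType (str i)]

/-- The value of the conditions of a frame at a point, as a linear map. -/
def Frame.lmap (F : Frame i n d) {y : X} (hy : IsClosed ({y} : Set X)) (hyV : y ∈ F.V.1) :
    LefPen.Form r k d →ₗ[k] (Option (Fin n) → k) where
  toFun H o := ev (str i) hy hyV (F.Φ o H)
  map_add' H H' := funext fun o => by simp [F.map_add]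
  map_smul' c H := funext fun o => by simp [F.map_smul, ev_secStr]

theorem Frame.bad_iff_lmap (F : Frame i n d) {y : X} (hy : IsClosed ({y} : Set X)) (hyV : y ∈ F.V.1)
    (H : LefPen.Form r k d) : Bad i H y ↔ F.lmap i hy hyV H = 0 := by
  rw [F.bad y hy hyV, funext_iff]
  rfl

variable (n) [IsClosedImmersion i] [SmoothOfRelativeDimension n (str i)]

include n

theorem bad_line (hd : 1 ≤ d) {x : X} (hx : IsClosed ({x} : Set X)) {G H : LefPen.Form r k d} (hG : Bad i G x)
    (hH : Bad i H x) (t : k) : Bad i (G + t • (H - G)) x := by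
  obtain ⟨F, hxF⟩ := exists_frame (n := n) i hd hx
  rw [F.bad_iff_lmap i hx hxF] at hG hH ⊢
  simp [hG, hH]

/-- A polynomial function non-zero on the forms bad at a point is non-zero on those bad at the nearby points. -/
theorem exists_open_nonvanishing (hd : 1 ≤ d) (P : MvPolynomial (Fin (Module.finrank k (LefPen.Form r k d))) k)
    {x : X} (hx : IsClosed ({x} : Set X)) {H₀ : LefPen.Form r k d} (hH₀ : Bad i H₀ x) (hP : eval (co H₀) P ≠ 0) :
    ∃ U : X.Opens, x ∈ U ∧ ∀ y ∈ U, IsClosed ({y} : Set X) → ∃ H, Bad i H y ∧ eval (co H) P ≠ 0 := by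
  classical
  obtain ⟨F, hxF⟩ := exists_frame (n := n) i hd hx
  let M : Matrix (Option (Fin n)) (Option (Fin n)) Γ(X, F.V.1) := fun o p => F.Φ o (F.E p)
  let v : Option (Fin n) → Γ(X, F.V.1) := M.adjugate.mulVec fun o => F.Φ o H₀
  let s := secStr (str i) F.V.1
  let z : Fin (Module.finrank k (LefPen.Form r k d)) → Γ(X, F.V.1) := fun c =>
    M.det * s (co H₀ c) - ∑ p, v p * s (co (F.E p) c)
  let Hy : ∀ (y : X), IsClosed ({y} : Set X) → y ∈ F.V.1 → LefPen.Form r k d := fun y hy hyV =>
    ev (str i) hy hyV M.det • H₀ - ∑ p, ev (str i) hy hyV (v p) • F.E p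
  have hbad : ∀ (y : X) (hy : IsClosed ({y} : Set X)) (hyV : y ∈ F.V.1), Bad i (Hy y hy hyV) y := by
    intro y hy hyV
    rw [F.bad_iff_lmap i hy hyV]
    funext o
    simp only [Hy, map_sub, map_smul, map_sum, Pi.sub_apply, Pi.smul_apply, Finset.sum_apply, smul_eq_mul,
      Pi.zero_apply]
    show ev (str i) hy hyV M.det * ev (str i) hy hyV (F.Φ o H₀) -
      ∑ p, ev (str i) hy hyV (v p) * ev (str i) hy hyV (F.Φ o (F.E p)) = 0
    simp only [← map_mul, ← map_sum, ← map_sub]
    have h1 : (M.mulVec v) o = M.det * F.Φ o H₀ := by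
      simp only [v, Matrix.mulVec_mulVec, Matrix.mul_adjugate, Matrix.smul_mulVec, Matrix.one_mulVec,
        Pi.smul_apply, smul_eq_mul]
    have h2 : ∑ p, v p * F.Φ o (F.E p) = (M.mulVec v) o :=
      Finset.sum_congr rfl fun p _ => mul_comm _ _
    rw [h2, h1, sub_self, map_zero]
  have heval : ∀ (y : X) (hy : IsClosed ({y} : Set X)) (hyV : y ∈ F.V.1),
      ev (str i) hy hyV (eval₂ s z P) = eval (co (Hy y hy hyV)) P := by
    intro y hy hyV
    rw [eval₂_comp_left (ev (str i) hy hyV)]
    have hs : (ev (str i) hy hyV).comp s = RingHom.id k := RingHom.ext fun c => ev_secStr (str i) hy hyV c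
    have hz : (ev (str i) hy hyV) ∘ z = co (Hy y hy hyV) := by
      funext c
      simp [z, Hy, s, co, ev_secStr, Finset.sum_apply']
    rw [hs, hz]
    rfl
  have hx0 : Hy x hx hxF = ev (str i) hx hxF M.det • H₀ := by
    have hv : ∀ p, ev (str i) hx hxF (v p) = 0 := fun p => by
      have h0 := (F.bad x hx hxF H₀).1 hH₀
      simp [v, Matrix.mulVec, dotProduct, h0]
    simp [Hy, hv]
  obtain ⟨c, hc⟩ : ∃ c, ev (str i) hx hxF M.det * c = 1 := (F.inv.map (ev (str i) hx hxF)).exists_right_inv
  -- rescale the coefficients to return to `H₀` at `x`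
  let z' : Fin (Module.finrank k (LefPen.Form r k d)) → Γ(X, F.V.1) := fun e => s c * z e
  have heval' : ∀ (y : X) (hy : IsClosed ({y} : Set X)) (hyV : y ∈ F.V.1),
      ev (str i) hy hyV (eval₂ s z' P) = eval (co (c • Hy y hy hyV)) P := by
    intro y hy hyV
    rw [eval₂_comp_left (ev (str i) hy hyV)]
    have hs : (ev (str i) hy hyV).comp s = RingHom.id k := RingHom.ext fun c => ev_secStr (str i) hy hyV c
    have hz : (ev (str i) hy hyV) ∘ z' = co (c • Hy y hy hyV) := by
      funext e
      simp [z', z, Hy, s, co, ev_secStr, Finset.sum_apply']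
    rw [hs, hz]
    rfl
  refine ⟨X.basicOpen (eval₂ s z' P), (ev_ne_zero_iff (str i) hx hxF _).1 ?_, fun y hy hyc => ?_⟩
  · rw [heval', hx0, smul_smul, mul_comm c, hc, one_smul]
    exact hP
  · have hyV := X.basicOpen_le _ hy
    refine ⟨c • Hy y hyc hyV, ?_, ?_⟩
    · rw [F.bad_iff_lmap i hyc hyV, map_smul, (F.bad_iff_lmap i hyc hyV _).1 (hbad y hyc hyV), smul_zero]
    · rw [← heval']
      exact (ev_ne_zero_iff (str i) hyc hyV _).2 hy

/-- Irreducibility of the set of forms bad at some closed point. -/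
theorem bad_irreducible [IrreducibleSpace X] (hd : 1 ≤ d) (f g : LefPen.Form r k d → k)
    (hf : LefPen.IsPolyFun k f) (hg : LefPen.IsPolyFun k g)
    (h : ∀ (x : X) (H : LefPen.Form r k d), IsClosed ({x} : Set X) → Bad i H x → f H * g H = 0) :
    (∀ (x : X) (H : LefPen.Form r k d), IsClosed ({x} : Set X) → Bad i H x → f H = 0) ∨
      ∀ (x : X) (H : LefPen.Form r k d), IsClosed ({x} : Set X) → Bad i H x → g H = 0 := by
  obtain ⟨P, hP⟩ := exists_poly_of_isPolyFun hf
  obtain ⟨Q, hQ⟩ := exists_poly_of_isPolyFun hg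
  by_contra hcon
  push Not at hcon
  obtain ⟨⟨a, A, ha, hA, hfa⟩, b, B, hb, hB, hgb⟩ := hcon
  obtain ⟨U, haU, hU⟩ := exists_open_nonvanishing n i hd P ha hA (hP A ▸ hfa)
  obtain ⟨V, hbV, hV⟩ := exists_open_nonvanishing n i hd Q hb hB (hQ B ▸ hgb)
  haveI : JacobsonSpace X := LocallyOfFiniteType.jacobsonSpace (str i)
  obtain ⟨y, hy, hyc⟩ : ((U ⊓ V : X.Opens) : Set X) ∩ closedPoints X |>.Nonempty := by
    refine nonempty_inter_closedPoints ?_ (U ⊓ V).isOpen.isLocallyClosed
    exact nonempty_preirreducible_inter U.isOpen V.isOpen ⟨a, haU⟩ ⟨b, hbV⟩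
  obtain ⟨G, hG, hGP⟩ := hU y hy.1 hyc
  obtain ⟨H, hH, hHQ⟩ := hV y hy.2 hyc
  obtain ⟨t, htP, htQ⟩ := exists_line_ne_zero P Q G H hGP hHQ
  have := h y _ hyc (bad_line n i hd hyc hG hH t)
  rw [hP, hQ] at this
  exact mul_ne_zero htP htQ this

end Groth.Agent.DualVar
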