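import Groth.Agent.DualVar.Trans
import Groth.Agent.DualVar.Quad
import Groth.Agent.Cohen2.Regular
import Groth.Agent.FlatDepth.Quot
import Groth.Agent.AdicBasics.Dimension
import Groth.Agent.QuadSingJac.Basic
import Groth.Agent.EGA41SymGr.Model

/-!
# A form cutting an ordinary quadratic point at a given point
-/

set_option autoImplicit false
set_option linter.style.haveILetI false
set_option linter.unusedSectionVars false
set_option backward.isDefEq.respectTransparency false
set_option backward.isDefEq.respectTransparency.types false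

universe u

open CategoryTheory CategoryTheory.Limits AlgebraicGeometry TopologicalSpace Opposite IsLocalRing
open Groth.Agent.WeilLib (secStr)

noncomputable section

namespace Groth.Agent.DualVar

/-- An element of a regular local ring with residue field `k` cutting an ordinary quadratic point. -/
theorem exists_quad_element {k R : Type u} [Field k] [CommRing R] [IsRegularLocalRing R] [Algebra k R]
    (hres : Function.Surjective ((residue R).comp (algebraMap k R))) {n : ℕ} (hn : ringKrullDim R = (n + 1 : ℕ)) :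
    ∃ h₀ ∈ maximalIdeal R ^ 2, ∀ h : R, h - h₀ ∈ maximalIdeal R ^ 3 →
      ∀ (S : Type u) [CommRing S] [IsLocalRing S] [IsNoetherianRing S] (φ : R →+* S), Function.Surjective φ →
        RingHom.ker φ = Ideal.span {h} →
        ∃ (Q : MvPowerSeries (Fin (n + 1)) k) (Q₂ : LefPen.Form n k 2)
          (e : AdicCompletion (maximalIdeal S) S ≃+* (MvPowerSeries (Fin (n + 1)) k ⧸ Ideal.span {Q})),
          (∀ c : k, e (algebraMap S _ (φ (algebraMap k R c))) = Ideal.Quotient.mk _ (MvPowerSeries.C c)) ∧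
          LefPen.StartsInDegTwo k Q ∧ LefPen.IsQuadPart k Q Q₂ ∧ LefPen.NondegQuad k Q₂ := by
  classical
  let C := AdicCompletion (maximalIdeal R) R
  haveI : IsRegularLocalRing C := (AdicBasics.isRegularLocalRing_completion_iff R).1 inferInstance
  have hresC : Function.Surjective ((residue C).comp (algebraMap k C)) := by
    intro z
    obtain ⟨x, rfl⟩ := residue_surjective z
    obtain ⟨a, ha⟩ := Cohen.exists_sub_mem_pow x 1
    obtain ⟨c, hc⟩ := hres (residue R a)
    refine ⟨c, ?_⟩
    have h1 : a - algebraMap k R c ∈ maximalIdeal R := by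
      rw [← residue_eq_zero_iff, map_sub, sub_eq_zero]; exact hc.symm
    have h2 : algebraMap R C (a - algebraMap k R c) ∈ maximalIdeal C := by
      rw [AdicCompletion.maximalIdeal_eq_map]; exact Ideal.mem_map_of_mem _ h1
    rw [RingHom.comp_apply, IsScalarTower.algebraMap_apply k R C, eq_comm, ← sub_eq_zero, ← map_sub, residue_eq_zero_iff]
    rw [pow_one] at ha
    have h3 := add_mem ha h2
    rw [map_sub] at h3
    convert h3 using 1
    ring
  obtain ⟨d, ⟨e₀⟩⟩ := Cohen2.exists_algEquiv C k hresC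
  obtain rfl : d = n + 1 := by
    have h := ringKrullDim_eq_of_ringEquiv e₀.toRingEquiv
    rw [EGA41SymGr.Model.ringKrullDim_eq, AdicBasics.ringKrullDim_completion, hn] at h
    exact_mod_cast h.symm
  let P := MvPowerSeries (Fin (n + 1)) k
  let j : R →+* P := e₀.toRingEquiv.toRingHom.comp (algebraMap R C)
  have hjmax : ∀ m : ℕ, ∀ a ∈ maximalIdeal R ^ m, j a ∈ maximalIdeal P ^ m := by
    intro m a ha
    have h1 : algebraMap R C a ∈ maximalIdeal C ^ m := by
      rw [AdicCompletion.maximalIdeal_eq_map, ← Ideal.map_pow]; exact Ideal.mem_map_of_mem _ ha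
    have h2 := Ideal.mem_map_of_mem e₀.toRingEquiv.toRingHom h1
    rwa [Ideal.map_pow, IsLocalRing.map_maximalIdeal_of_surjective _ e₀.toRingEquiv.surjective] at h2
  obtain ⟨h₀, hh₀⟩ : ∃ h₀ : R, ((q0 k n : MvPolynomial (Fin (n + 1)) k) : P) - j h₀ ∈ maximalIdeal P ^ 3 := by
    obtain ⟨a, ha⟩ := Cohen.exists_sub_mem_pow (e₀.symm ((q0 k n : MvPolynomial (Fin (n + 1)) k) : P) : C) 3
    refine ⟨a, ?_⟩
    have h2 := Ideal.mem_map_of_mem e₀.toRingEquiv.toRingHom ha
    rw [Ideal.map_pow, IsLocalRing.map_maximalIdeal_of_surjective _ e₀.toRingEquiv.surjective, map_sub] at h2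
    have e1 : e₀.toRingEquiv.toRingHom (e₀.symm ((q0 k n : MvPolynomial (Fin (n + 1)) k) : P)) =
        ((q0 k n : MvPolynomial (Fin (n + 1)) k) : P) := e₀.apply_symm_apply _
    rw [e1] at h2
    exact h2
  have hq2 : ((q0 k n : MvPolynomial (Fin (n + 1)) k) : P) ∈ maximalIdeal P ^ 2 := by
    rw [QuadSingJac.mem_pow_iff]
    intro d hd
    rw [MvPolynomial.coeff_coe]
    exact (isHomogeneous_q0 k n).coeff_eq_zero (by omega)
  have hback : ∀ a : R, j a ∈ maximalIdeal P ^ 2 → a ∈ maximalIdeal R ^ 2 := by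
    intro a ha
    have h2 := Ideal.mem_map_of_mem e₀.symm.toRingEquiv.toRingHom ha
    rw [Ideal.map_pow, IsLocalRing.map_maximalIdeal_of_surjective _ e₀.symm.toRingEquiv.surjective] at h2
    refine Cohen.eval_mem_pow ?_
    convert h2 using 1
    exact (e₀.symm_apply_apply _).symm
  refine ⟨h₀, hback h₀ ?_, fun h hh S _ _ _ φ hφ hker => ?_⟩
  · have := sub_mem hq2 (Ideal.pow_le_pow_right (show 2 ≤ 3 by norm_num) hh₀)
    rwa [sub_sub_cancel] at this
  obtain ⟨ψ, hψ, hψc, hψker⟩ := FlatDepth.exists_cpl_quotient φ hφ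
  rw [hker, Ideal.map_span, Set.image_singleton] at hψker
  let e₁ := (RingHom.quotientKerEquivOfSurjective hψ).symm.trans (Ideal.quotientEquiv (RingHom.ker ψ)
    (Ideal.span {j h}) e₀.toRingEquiv (by rw [hψker, Ideal.map_span, Set.image_singleton]; rfl))
  refine ⟨j h, quadForm k n, e₁, fun c => ?_, ?_, ?_, nondegQuad k n⟩
  · have h1 : algebraMap S (AdicCompletion (maximalIdeal S) S) (φ (algebraMap k R c)) = ψ (algebraMap k C c) := by
      rw [IsScalarTower.algebraMap_apply k R C]
      exact (RingHom.congr_fun hψc _).symm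
    have h2 : (RingHom.quotientKerEquivOfSurjective hψ).symm (ψ (algebraMap k C c)) =
        Ideal.Quotient.mk _ (algebraMap k C c) := by
      rw [RingEquiv.symm_apply_eq]; rfl
    rw [h1]
    refine (RingEquiv.trans_apply _ _ _).trans ?_
    rw [h2, Ideal.quotientEquiv_mk]
    show Ideal.Quotient.mk _ (e₀ (algebraMap k C c)) = _
    rw [e₀.commutes, MvPowerSeries.algebraMap_apply, Algebra.algebraMap_self, RingHom.id_apply]
  all_goals
    have hjh : ((q0 k n : MvPolynomial (Fin (n + 1)) k) : P) - j h ∈ maximalIdeal P ^ 3 := by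
      have := sub_mem hh₀ (hjmax 3 _ hh)
      rw [map_sub] at this
      convert this using 1
      ring
    rw [QuadSingJac.mem_pow_iff] at hjh
    intro d hd
    have := hjh d (by omega)
    rw [map_sub, MvPolynomial.coeff_coe, sub_eq_zero] at this
  · rw [← this]
    exact (isHomogeneous_q0 k n).coeff_eq_zero (by omega)
  · exact this

variable {k : Type u} [Field k] {r n d : ℕ} {X : Scheme.{u}} (i : X ⟶ CohB1.ProjSpace r k)

/-- Forms of degree at least two realise all the second order jets at a closed point. -/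
theorem exists_form_jet [IsAlgClosed k] [IsClosedImmersion i] [LocallyOfFiniteType (str i)] (hd : 2 ≤ d) {x : X}
    (hx : IsClosed ({x} : Set X)) (l : Fin (r + 1)) (hl : x ∈ i ⁻¹ᵁ (CompInt.C k r l).1) (a : X.presheaf.stalk x) :
    ∃ H : LefPen.Form r k d,
      (X.presheaf.germ _ x hl).hom (hmap i l (i ⁻¹ᵁ (CompInt.C k r l).1) le_rfl H) - a ∈
        maximalIdeal (X.presheaf.stalk x) ^ 3 := by
  classical
  let U := i ⁻¹ᵁ (CompInt.C k r l).1
  have hU : IsAffineOpen U := (CompInt.C k r l).2.preimage i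
  let A := Γ(X, U)
  let h : LefPen.Form r k d → A := hmap i l U le_rfl
  let q := str i
  let φ : MvPolynomial (Fin (r + 1)) k →+* A :=
    (i.appLE (CompInt.C k r l).1 U le_rfl).hom.comp (GrT.deh (CohB1.polyGrading r k) (PicPn.X_mem l))
  have hφl : φ (MvPolynomial.X l) = 1 := by
    show (i.appLE (CompInt.C k r l).1 U le_rfl).hom (GrT.deh (CohB1.polyGrading r k) (PicPn.X_mem l) (MvPolynomial.X l)) = 1
    rw [GrT.deh_self]
    exact map_one _
  have hform : ∀ (H : LefPen.Form r k d), h H = φ H.1 := fun H => rfl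
  let I : Ideal A := RingHom.ker (ev q hx hl)
  let S : Set A := {z | ∃ H : LefPen.Form r k d, z - h H ∈ I ^ 3}
  let cst : k → A := secStr q U
  have hcst : ∀ c, φ (MvPolynomial.C c) = cst c := fun c => (secStr_eq i l U le_rfl c).symm
  have hS_add : ∀ z z', z ∈ S → z' ∈ S → z + z' ∈ S := by
    rintro z z' ⟨H, hH⟩ ⟨H', hH'⟩
    refine ⟨H + H', ?_⟩
    rw [show h (H + H') = h H + h H' from hmap_add i l U le_rfl H H', add_sub_add_comm]
    exact add_mem hH hH'
  have hS_smul : ∀ (c : k) z, z ∈ S → cst c * z ∈ S := by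
    rintro c z ⟨H, hH⟩
    refine ⟨c • H, ?_⟩
    rw [show h (c • H) = cst c * h H from hmap_smul i l U le_rfl c H, ← mul_sub]
    exact Ideal.mul_mem_left _ _ hH
  have hS_mono : ∀ a b : Fin (r + 1), φ (MvPolynomial.X a) * φ (MvPolynomial.X b) ∈ S := by
    intro a b
    refine ⟨⟨MvPolynomial.X l ^ (d - 2) * (MvPolynomial.X a * MvPolynomial.X b), ?_⟩, ?_⟩
    · have := ((MvPolynomial.isHomogeneous_X k l).pow (d - 2)).mul
        ((MvPolynomial.isHomogeneous_X k a).mul (MvPolynomial.isHomogeneous_X k b))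
      rw [show 1 * (d - 2) + (1 + 1) = d by omega] at this
      exact this
    · rw [hform]
      simp only [map_mul, map_pow, hφl, one_pow, one_mul, sub_self]
      exact zero_mem _
  have hS_X : ∀ a : Fin (r + 1), φ (MvPolynomial.X a) ∈ S := fun a => by simpa [hφl] using hS_mono a l
  have hS_cst : ∀ c, cst c ∈ S := fun c => by
    have := hS_smul c _ (hS_X l)
    rwa [hφl, mul_one] at this
  let u : Fin (r + 1) → A := fun a => φ (MvPolynomial.X a) - cst (ev q hx hl (φ (MvPolynomial.X a)))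
  have hu : ∀ a, u a ∈ I := fun a => RingHom.mem_ker.2 (by
    show ev q hx hl (φ (MvPolynomial.X a) - secStr q U (ev q hx hl (φ (MvPolynomial.X a)))) = 0
    rw [map_sub]
    exact sub_eq_zero.2 (ev_secStr q hx hl _).symm)
  -- degree filtration of polynomials in the `u`
  let L : Set A := {z | ∀ a b : Fin (r + 1), z ∈ S ∧ u a * z ∈ S ∧ u a * (u b * z) ∈ S}
  have hS2 : ∀ a b, u a * u b ∈ S := by
    intro a b
    have hc : ∀ c, -cst c = cst (-c) := fun c => (map_neg _ _).symm
    have e : u a * u b = φ (MvPolynomial.X a) * φ (MvPolynomial.X b) +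
        (cst (-(ev q hx hl (φ (MvPolynomial.X a)))) * φ (MvPolynomial.X b) +
        (cst (-(ev q hx hl (φ (MvPolynomial.X b)))) * φ (MvPolynomial.X a) +
        cst (ev q hx hl (φ (MvPolynomial.X a)) * ev q hx hl (φ (MvPolynomial.X b))))) := by
      simp only [u, cst, map_neg, map_mul]
      ring
    rw [e]
    exact hS_add _ _ (hS_mono a b) (hS_add _ _ (hS_smul _ _ (hS_X b)) (hS_add _ _ (hS_smul _ _ (hS_X a)) (hS_cst _)))
  have hS1 : ∀ a, u a ∈ S := fun a => by
    have e : u a = φ (MvPolynomial.X a) + cst (-(ev q hx hl (φ (MvPolynomial.X a)))) := by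
      simp only [u, cst, map_neg]; ring
    rw [e]
    exact hS_add _ _ (hS_X a) (hS_cst _)
  have h3 : ∀ z, z ∈ I ^ 3 → z ∈ S := fun z hz => ⟨0, by
    have h0 : h 0 = 0 := by simpa using hmap_add i l U le_rfl (0 : LefPen.Form r k d) 0
    rwa [h0, sub_zero]⟩
  have hpoly : ∀ p : MvPolynomial (Fin (r + 1)) k, φ p ∈ L := by
    intro p
    induction p using MvPolynomial.induction_on with
    | C c =>
      intro a b
      rw [hcst]
      refine ⟨hS_cst c, ?_, ?_⟩
      · rw [mul_comm]; exact hS_smul c _ (hS1 a)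
      · rw [← mul_assoc, mul_comm]; exact hS_smul c _ (hS2 a b)
    | add p p' hp hp' =>
      intro a b
      rw [map_add, mul_add, mul_add, mul_add]
      exact ⟨hS_add _ _ (hp a b).1 (hp' a b).1, hS_add _ _ (hp a b).2.1 (hp' a b).2.1,
        hS_add _ _ (hp a b).2.2 (hp' a b).2.2⟩
    | mul_X p m hp =>
      intro a b
      have e : φ (p * MvPolynomial.X m) = u m * φ p + cst (ev q hx hl (φ (MvPolynomial.X m))) * φ p := by
        simp only [map_mul, u]; ring
      rw [e]
      refine ⟨hS_add _ _ (hp m m).2.1 (hS_smul _ _ (hp a b).1), ?_, ?_⟩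
      · rw [mul_add, mul_left_comm (u a) (cst _)]
        exact hS_add _ _ (hp a m).2.2 (hS_smul _ _ (hp a b).2.1)
      · rw [mul_add, mul_add, mul_left_comm (u b) (cst _), mul_left_comm (u a) (cst _)]
        refine hS_add _ _ (h3 _ ?_) (hS_smul _ _ (hp a b).2.2)
        rw [show u a * (u b * (u m * φ p)) = (u a * u b * u m) * φ p by ring, pow_succ, pow_two]
        exact Ideal.mul_mem_right _ _ (Ideal.mul_mem_mul (Ideal.mul_mem_mul (hu a) (hu b)) (hu m))
  have hall : ∀ z : A, z ∈ S := by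
    intro z
    obtain ⟨w, rfl⟩ := i.app_surjective _ (CompInt.C k r l).2 z
    obtain ⟨p, rfl⟩ := ProjMor.exists_deh_eq (PicPn.X_mem (k := k) l) w
    have h := (hpoly p l l).1
    have e : φ p = (i.app (CompInt.C k r l).1).hom (GrT.deh (CohB1.polyGrading r k) (PicPn.X_mem l) p) := by
      show (i.appLE (CompInt.C k r l).1 U le_rfl).hom _ = _
      rw [Scheme.Hom.appLE_eq_app]
      rfl
    rwa [e] at h
  -- pass to the local ring
  have hk : RingHom.ker (ev q hx hl) = (hU.primeIdealOf ⟨x, hl⟩).asIdeal := ker_ev q hx hU hl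
  haveI hmax : (hU.primeIdealOf ⟨x, hl⟩).asIdeal.IsMaximal :=
    hk ▸ RingHom.ker_isMaximal_of_surjective _ (ev_surjective q hx hl)
  letI := (X.presheaf.germ U x hl).hom.toAlgebra
  haveI := hU.isLocalization_stalk ⟨x, hl⟩
  obtain ⟨⟨b, s⟩, hbs⟩ := IsLocalization.surj (hU.primeIdealOf ⟨x, hl⟩).asIdeal.primeCompl a
  obtain ⟨t, m, hm, htm⟩ := hmax.exists_inv (show (s : A) ∉ _ from s.2)
  -- `t` inverts `s` modulo the point; an inverse modulo the cube of the maximal ideal
  let v := t * (1 + m + m * m)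
  obtain ⟨H, hH⟩ := hall (b * v)
  refine ⟨H, ?_⟩
  let g := algebraMap A (X.presheaf.stalk x)
  have hgI : ∀ z ∈ I ^ 3, g z ∈ maximalIdeal (X.presheaf.stalk x) ^ 3 := fun z hz => by
    rw [← IsLocalization.AtPrime.map_eq_maximalIdeal (hU.primeIdealOf ⟨x, hl⟩).asIdeal, ← Ideal.map_pow, ← hk]
    exact Ideal.mem_map_of_mem _ hz
  have h1 : g (b * v) - a ∈ maximalIdeal (X.presheaf.stalk x) ^ 3 := by
    have e : g (b * v) - a = -a * g (m * m * m) := by
      have hs : g t * g (s : A) = 1 - g m := by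
        rw [← map_mul, ← map_one g, ← map_sub]
        exact congrArg g (eq_sub_of_add_eq htm)
      simp only [v, map_mul, map_add, map_one]
      rw [show g b = a * g (s : A) from hbs.symm]
      linear_combination (a * (1 + g m + g m * g m)) * hs
    rw [e]
    refine Ideal.mul_mem_left _ _ (hgI _ ?_)
    rw [pow_succ, pow_two, show I = (hU.primeIdealOf ⟨x, hl⟩).asIdeal from hk]
    exact Ideal.mul_mem_mul (Ideal.mul_mem_mul hm hm) hm
  have h2 := hgI _ hH
  rw [map_sub] at h2
  have h12 := sub_mem h1 h2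
  rwa [sub_sub_sub_cancel_left] at h12

theorem exists_ordQuad [IsAlgClosed k] [IsClosedImmersion i] [SmoothOfRelativeDimension n (str i)] (hn : 1 ≤ n)
    (hd : 2 ≤ d) {x₀ : X} (hx₀ : IsClosed ({x₀} : Set X)) :
    ∃ (H : LefPen.Form r k d) (y : LefPen.Sec i ({H} : Set (LefPen.Form r k d))),
      LefPen.secι i ({H} : Set (LefPen.Form r k d)) y = x₀ ∧
      LefPen.IsOrdQuadSing k (n - 1) (LefPen.secToSpec i ({H} : Set (LefPen.Form r k d))) y := by
  classical
  haveI : Smooth (str i) := SmoothOfRelativeDimension.smooth n (str i)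
  obtain ⟨m, rfl⟩ : ∃ m, n = m + 1 := ⟨n - 1, by omega⟩
  obtain ⟨l, hl⟩ := PicPn.exists_mem_ch (k := k) (n := r) (i x₀)
  haveI : IsLocallyNoetherian X := LocallyOfFiniteType.isLocallyNoetherian (str i)
  haveI : IsRegularLocalRing (X.presheaf.stalk x₀) := SmLocalST.isRegularLocalRing_stalk_of_smooth_field (str i) x₀
  letI : Algebra k (X.presheaf.stalk x₀) := (SmDiff.baseToStalk (str i) x₀).hom.toAlgebra
  have hres : Function.Surjective ((residue (X.presheaf.stalk x₀)).comp (algebraMap k (X.presheaf.stalk x₀))) :=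
    SmDiff.residue_baseToStalk_surjective (str i) hx₀
  obtain ⟨h₀, hh₀, hkey⟩ := exists_quad_element hres (dim_stalk_closed (str i) (m + 1) hx₀)
  obtain ⟨H, hH⟩ := exists_form_jet i hd hx₀ l hl h₀
  let U : X.affineOpens := ⟨i ⁻¹ᵁ (CompInt.C k r l).1, (CompInt.C k r l).2.preimage i⟩
  let I := LefPen.secIdeal i ({H} : Set (LefPen.Form r k d))
  let f := (X.presheaf.germ U.1 x₀ hl).hom (hmap i l U.1 le_rfl H)
  have hI : I.ideal U = Ideal.span {hmap i l U.1 le_rfl H} := secIdeal_ideal i H l U le_rfl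
  have hf2 : f ∈ maximalIdeal (X.presheaf.stalk x₀) ^ 2 := by
    have := add_mem (Ideal.pow_le_pow_right (show 2 ≤ 3 by norm_num) hH) hh₀
    rwa [sub_add_cancel] at this
  obtain ⟨y, rfl⟩ : x₀ ∈ Set.range I.subschemeι := by
    rw [Scheme.IdealSheafData.range_subschemeι]
    show x₀ ∈ I.support
    rw [Scheme.IdealSheafData.mem_support_iff_of_mem (U := U) hl, hI, Scheme.zeroLocus_span, Scheme.mem_zeroLocus_iff]
    intro a ha hmem
    rw [Set.mem_singleton_iff.1 ha, Scheme.mem_basicOpen _ _ _ (show x₀ ∈ U.1 from hl)] at hmem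
    exact (mem_maximalIdeal _).1 (Ideal.pow_le_self two_ne_zero hf2) hmem
  refine ⟨H, y, rfl, ?_, ?_⟩
  · have := hx₀.preimage I.subschemeι.continuous
    rwa [← Set.image_singleton, Set.preimage_image_eq _ I.subschemeι.isClosedEmbedding.injective] at this
  haveI : IsLocallyNoetherian I.subscheme := LocallyOfFiniteType.isLocallyNoetherian I.subschemeι
  have hker : RingHom.ker (I.subschemeι.stalkMap y).hom = Ideal.span {f} := by
    rw [CMFlat.ker_stalkMap_eq _ y U hl, ← Scheme.Hom.ker_apply, Scheme.IdealSheafData.ker_subschemeι, hI,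
      Ideal.map_span, Set.image_singleton]
  obtain ⟨Q, Q₂, e, he, h1, h2, h3⟩ := hkey f hH _ (I.subschemeι.stalkMap y).hom (I.subschemeι.stalkMap_surjective y) hker
  refine ⟨Q, Q₂, e, fun c => ?_, h1, h2, h3⟩
  refine Eq.trans (congrArg (fun a => e (algebraMap _ _ a)) ?_) (he c)
  have key : ∀ {Y : Scheme.{u}} (g : Y ⟶ Spec (CommRingCat.of k)) (z : Y),
      LefPen.toStalk k g z c = (SmDiff.baseToStalk g z).hom c := by
    intro Y g z
    show (Y.presheaf.germ ⊤ z trivial).hom (Coh.toGlobal g c) = (g.stalkMap z).hom ((StructureSheaf.toStalk k (g z)).hom c)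
    refine Eq.trans ?_ ((Scheme.Hom.germ_stalkMap_apply g ⊤ z trivial
      ((Scheme.ΓSpecIso (CommRingCat.of k)).inv c)).symm.trans rfl)
    rfl
  rw [key]
  show ((I.subschemeι ≫ str i).stalkMap y).hom ((StructureSheaf.toStalk k _).hom c) = _
  rw [Scheme.Hom.stalkMap_comp]
  rfl

end Groth.Agent.DualVar
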