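import Groth.Agent.DualVar.Chart
import Groth.Agent.DualVar.QuadPoint

/-!
# The second order jets of forms singular at a point
-/

set_option autoImplicit false
set_option linter.style.haveILetI false
set_option linter.unusedSectionVars false
set_option backward.isDefEq.respectTransparency false
set_option backward.isDefEq.respectTransparency.types false

universe u

open CategoryTheory CategoryTheory.Limits AlgebraicGeometry TopologicalSpace Opposite IsLocalRing
open Groth.Agent.WeilLib (secStr)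

noncomputable section

namespace Groth.Agent.DualVar

/-- Membership in the cube of a maximal ideal passes from the local ring. -/
theorem mem_cube_localization {A L : Type*} [CommRing A] [CommRing L] [Algebra A L] (p : Ideal A) [p.IsMaximal]
    [IsLocalization.AtPrime L p] [IsLocalRing L] (z : A) (hz : algebraMap A L z ∈ maximalIdeal L ^ 3) : z ∈ p ^ 3 := by
  rw [← IsLocalization.AtPrime.map_eq_maximalIdeal p L, ← Ideal.map_pow,
    IsLocalization.algebraMap_mem_map_algebraMap_iff p.primeCompl] at hz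
  obtain ⟨s, hs, h⟩ := hz
  obtain ⟨t, m, hm, htm⟩ := (‹p.IsMaximal›).exists_inv (hs : s ∉ p)
  have hm3 : m * m * m ∈ p ^ 3 := by
    rw [pow_succ, sq]; exact Ideal.mul_mem_mul (Ideal.mul_mem_mul hm hm) hm
  have hz : z = (t * (1 + m + m * m)) * (s * z) + z * (m * m * m) := by
    linear_combination (-z * (1 + m + m * m)) * htm
  rw [hz]
  exact add_mem (Ideal.mul_mem_left _ _ h) (Ideal.mul_mem_left _ _ hm3)

variable {k : Type u} [Field k] [IsAlgClosed k] {r d n : ℕ} {X : Scheme.{u}} {i : X ⟶ CohB1.ProjSpace r k}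
  [IsClosedImmersion i] [SmoothOfRelativeDimension n (str i)] [LocallyOfFiniteType (str i)]

/-- Forms singular at a point take all the second order terms. -/
theorem Ch.exists_form_sq (C : Ch i n) (hd : 2 ≤ d) {x : X} (hx : IsClosed ({x} : Set X)) (hxV : x ∈ C.V.1) :
    letI := algV i C.V.1
    ∀ ψ : Γ(X, C.V.1) →ₐ[k] MvPowerSeries (Fin n) k, Coord (C.pt hx hxV) ψ → ∀ z ∈ RingHom.ker (C.pt hx hxV) ^ 2,
      ∃ H : LefPen.Form r k d, Bad i H x ∧
        ψ (hmap i C.l C.V.1 C.hV H) - ψ z ∈ maximalIdeal (MvPowerSeries (Fin n) k) ^ 3 := by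
  letI := algV i C.V.1
  intro ψ hC z hz
  let g := (X.presheaf.germ C.V.1 x hxV).hom
  obtain ⟨H, hH⟩ := exists_form_jet i hd hx C.l (C.hV hxV) (g z)
  have hg : (X.presheaf.germ _ x (C.hV hxV)).hom (hmap i C.l (i ⁻¹ᵁ (CompInt.C k r C.l).1) le_rfl H) =
      g (hmap i C.l C.V.1 C.hV H) := by
    simp only [hmap, g]
    rw [← (X.presheaf.germ_res_apply (homOfLE C.hV) x hxV _)]
    congr 1
    exact congrArg (fun φ => φ.hom (CompInt.eqn H C.l))
      (Scheme.Hom.appLE_map (f := i) (U := (CompInt.C k r C.l).1) le_rfl (homOfLE C.hV).op)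
  rw [hg, ← map_sub] at hH
  have hk : RingHom.ker (C.pt hx hxV) = (C.V.2.primeIdealOf ⟨x, hxV⟩).asIdeal := ker_ev (str i) hx C.V.2 hxV
  have hmax : (RingHom.ker (C.pt hx hxV)).IsMaximal :=
    RingHom.ker_isMaximal_of_surjective _ (fun c => ⟨_, ev_secStr (str i) hx hxV c⟩)
  haveI : (C.V.2.primeIdealOf ⟨x, hxV⟩).asIdeal.IsMaximal := hk ▸ hmax
  letI := (X.presheaf.germ C.V.1 x hxV).hom.toAlgebra
  haveI := C.V.2.isLocalization_stalk ⟨x, hxV⟩
  have h3 : hmap i C.l C.V.1 C.hV H - z ∈ RingHom.ker (C.pt hx hxV) ^ 3 := by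
    rw [hk]
    exact mem_cube_localization _ _ hH
  refine ⟨H, (C.bad_iff hx hxV H).2.2.2 ?_, ?_⟩
  · have := add_mem (Ideal.pow_le_pow_right (by norm_num : 2 ≤ 3) h3) hz
    rwa [sub_add_cancel] at this
  · rw [← map_sub]
    have hle : (RingHom.ker (C.pt hx hxV)).map ψ ≤ maximalIdeal (MvPowerSeries (Fin n) k) := by
      refine Ideal.map_le_iff_le_comap.2 fun a ha => ?_
      rw [Ideal.mem_comap, QuadSingJac.mem_max_iff, hC.const]
      exact ha
    have := Ideal.mem_map_of_mem ψ h3
    rw [Ideal.map_pow] at this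
    exact Ideal.pow_right_mono hle 3 this

end Groth.Agent.DualVar
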