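import Groth.Agent.DualVar.Alg
import Groth.Agent.DualVar.Hess
import Mathlib.RingTheory.Valuation.ValuationSubring
import Mathlib.RingTheory.TensorProduct.Maps

/-!
# Limits of pairs of singular points and of degenerate singular points
-/

set_option autoImplicit false
set_option linter.style.haveILetI false
set_option linter.unusedSectionVars false

universe u

open IsLocalRing TensorProduct

noncomputable section

namespace Groth.Agent.DualVar

variable {k A : Type u} [Field k] [CommRing A] [Algebra k A] {n N M : ℕ} (b : Module.Basis (Fin n) A Ω[A⁄k])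
  (h : Fin N → A)

/-- The derivative along a basis vector of the differentials. -/
def dB (l : Fin n) : A →ₗ[k] A := ((b.coord l).restrictScalars k).comp (KaehlerDifferential.D k A).toLinearMap

theorem dB_mul (l : Fin n) (a c : A) : dB b l (a * c) = dB b l a * c + a * dB b l c := by
  show b.coord l (KaehlerDifferential.D k A (a * c)) = _
  rw [Derivation.leibniz, map_add, map_smul, map_smul, smul_eq_mul, smul_eq_mul]
  show a * dB b l c + c * dB b l a = _
  ring

theorem jet_some_eq (a : A) (l : Fin n) : jet b a (some l) = dB b l a := rfl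

/-- A point with values in `L` at which the form with coordinates `s` is singular. -/
def BadPt {L : Type u} [CommRing L] [Algebra k L] (x : A →ₐ[k] L) (s : Fin N → L) : Prop :=
  ∀ o, ∑ c, s c * x (jet b (h c) o) = 0

variable {R : Type u} [CommRing R] [Algebra k R]

/-- The extension of a point to the base change. -/
def ext (x : A →ₐ[k] R) : R ⊗[k] A →ₐ[R] R := Algebra.TensorProduct.lift (Algebra.ofId R R) x fun _ _ => Commute.all _ _

@[simp] theorem ext_tmul (x : A →ₐ[k] R) (r : R) (a : A) : ext x (r ⊗ₜ a) = r * x a := rfl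

/-- The universal form. -/
def univ (s : Fin N → R) : R ⊗[k] A := ∑ c, s c ⊗ₜ h c

/-- A form is in the square of the ideal of a point over any base iff its jets vanish. -/
theorem univ_mem_sq (x : A →ₐ[k] R) (s : Fin N → R) (hbad : BadPt b h x s) :
    univ h s ∈ RingHom.ker (ext x) ^ 2 := by
  classical
  let J : Ideal (R ⊗[k] A) := RingHom.ker (ext x) ^ 2
  let mk := Ideal.Quotient.mk J
  let ι : A →ₐ[k] R ⊗[k] A := Algebra.TensorProduct.includeRight
  letI : Module A ((R ⊗[k] A) ⧸ J) := Module.compHom _ (mk.comp ι.toRingHom)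
  haveI : IsScalarTower k A ((R ⊗[k] A) ⧸ J) := ⟨fun c a m => by
    show mk (ι (c • a)) * m = c • (mk (ι a) * m)
    rw [map_smul, Algebra.smul_def, map_mul, Algebra.smul_def, mul_assoc]
    rfl⟩
  let p : A →ₗ[k] R ⊗[k] A := ι.toLinearMap -
    ((Algebra.TensorProduct.includeLeft : R →ₐ[k] R ⊗[k] A).comp x).toLinearMap
  have hpv : ∀ a, p a = 1 ⊗ₜ a - x a ⊗ₜ 1 := fun a => rfl
  have hp : ∀ a, p a ∈ RingHom.ker (ext x) := fun a => by simp [hpv, RingHom.mem_ker]
  let δ : Derivation k A ((R ⊗[k] A) ⧸ J) := Derivation.mk' ((Ideal.Quotient.mkₐ k J).toLinearMap.comp p)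
    fun a c => by
      show mk (p (a * c)) = mk (ι a) * mk (p c) + mk (ι c) * mk (p a)
      rw [← map_mul, ← map_mul, ← map_add, Ideal.Quotient.eq]
      have h2 : p (a * c) - (ι a * p c + ι c * p a) = -(p a * p c) := by
        simp only [hpv, ι, Algebra.TensorProduct.includeRight_apply, map_mul, Algebra.TensorProduct.tmul_mul_tmul,
          mul_sub, sub_mul, one_mul, mul_one]
        rw [mul_comm c a]
        abel
      show p (a * c) - (ι a * p c + ι c * p a) ∈ J
      rw [h2, neg_mem_iff, show J = _ from sq (RingHom.ker (ext x))]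
      exact Ideal.mul_mem_mul (hp a) (hp c)
  have hlift : ∀ w : Ω[A⁄k], ∃ y ∈ RingHom.ker (ext x), δ.liftKaehlerDifferential w = mk y := fun w => by
    have hmem : w ∈ Submodule.span A (Set.range (KaehlerDifferential.D k A)) := by
      rw [KaehlerDifferential.span_range_derivation]; trivial
    induction hmem using Submodule.span_induction with
    | mem w hw =>
      obtain ⟨a, rfl⟩ := hw
      exact ⟨p a, hp a, δ.liftKaehlerDifferential_comp_D a⟩
    | zero => exact ⟨0, zero_mem _, by simp⟩
    | add w w' _ _ ihw ihw' =>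
      obtain ⟨y, hy, e⟩ := ihw
      obtain ⟨y', hy', e'⟩ := ihw'
      exact ⟨y + y', add_mem hy hy', by simp [e, e']⟩
    | smul a w _ ih =>
      obtain ⟨y, hy, e⟩ := ih
      exact ⟨ι a * y, Ideal.mul_mem_left _ _ hy, by rw [map_smul, e]; exact (map_mul mk _ _).symm⟩
  choose τ hτ hτe using fun l => hlift (b l)
  have hkey : ∀ a, mk (1 ⊗ₜ a) = mk (x a ⊗ₜ 1) + ∑ l, mk (x (dB b l a) ⊗ₜ 1) * mk (τ l) := by
    intro a
    have h1 : δ.liftKaehlerDifferential (KaehlerDifferential.D k A a) = mk (p a) := δ.liftKaehlerDifferential_comp_D a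
    rw [← b.sum_repr (KaehlerDifferential.D k A a), map_sum, hpv, map_sub, eq_sub_iff_add_eq] at h1
    rw [← h1, add_comm]
    congr 1
    refine Finset.sum_congr rfl fun l _ => ?_
    rw [map_smul, hτe]
    show mk (ι (dB b l a)) * mk (τ l) = _
    rw [← map_mul, ← map_mul, Ideal.Quotient.eq, ← sub_mul, show J = _ from sq (RingHom.ker (ext x))]
    refine Ideal.mul_mem_mul ?_ (hτ l)
    simp [ι, RingHom.mem_ker]
  rw [← Ideal.Quotient.eq_zero_iff_mem]
  show mk (∑ c, s c ⊗ₜ h c) = 0
  have e : ∀ (c : Fin N), mk (s c ⊗ₜ h c) = mk ((s c * x (h c)) ⊗ₜ 1) +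
      ∑ l, mk ((s c * x (dB b l (h c))) ⊗ₜ 1) * mk (τ l) := by
    intro c
    have hs : ∀ r : R, mk (s c ⊗ₜ 1) * mk (r ⊗ₜ 1) = mk ((s c * r) ⊗ₜ 1) := fun r => by
      rw [← map_mul, Algebra.TensorProduct.tmul_mul_tmul, mul_one]
    rw [show s c ⊗ₜ[k] h c = (s c ⊗ₜ 1) * (1 ⊗ₜ h c) by rw [Algebra.TensorProduct.tmul_mul_tmul, mul_one, one_mul],
      map_mul, hkey, mul_add, hs, Finset.mul_sum]
    simp only [← mul_assoc, hs]
  rw [map_sum]
  simp only [e, Finset.sum_add_distrib]
  rw [Finset.sum_comm]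
  simp only [← Finset.sum_mul, ← map_sum, ← TensorProduct.sum_tmul]
  have hv : ∀ l, ∑ c, s c * x (dB b l (h c)) = 0 := fun l => hbad (some l)
  simp [hv, show ∑ c, s c * x (h c) = 0 from hbad none]

variable (ρ : A →ₐ[k] k) (ψ : A →ₐ[k] MvPowerSeries (Fin n) k)

/-- Coordinates of second order at a point. -/
structure Coord : Prop where
  const : ∀ a, MvPowerSeries.constantCoeff (ψ a) = ρ a
  sq : ∀ a, ψ a ∈ maximalIdeal (MvPowerSeries (Fin n) k) ^ 2 → a ∈ RingHom.ker ρ ^ 2
  surj : ∀ l, ∃ a, ψ a - MvPowerSeries.X l ∈ maximalIdeal (MvPowerSeries (Fin n) k) ^ 2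

variable {ρ ψ}

theorem Coord.lin_self (hC : Coord ρ ψ) {K : Type u} [Field K] [Algebra k K] (v : Fin n → K) (a : A) (l : Fin n)
    (ha : ψ a - MvPowerSeries.X l ∈ maximalIdeal (MvPowerSeries (Fin n) k) ^ 2) : lin v (ψ a) = v l := by
  rw [← lin_X (k := k) v l]
  have := coeff_evl_of_mem_pow v _ 2 1 one_lt_two ha
  rwa [map_sub, map_sub, sub_eq_zero] at this

/-- Derivations at the point are given by vectors. -/
theorem Coord.exists_vec (hC : Coord ρ ψ) {K : Type u} [Field K] [Algebra k K] (d : A →ₗ[k] K)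
    (hd : ∀ a c, d (a * c) = algebraMap k K (ρ a) * d c + d a * algebraMap k K (ρ c)) :
    ∃ w : Fin n → K, ∀ a, lin w (ψ a) = d a := by
  classical
  choose e he using hC.surj
  refine ⟨fun l => d (e l), fun a => ?_⟩
  have h1 : d 1 = 0 := by simpa using hd 1 1
  have hsq : ∀ z ∈ RingHom.ker ρ ^ 2, d z = 0 := fun z hz => by
    refine Submodule.mul_induction_on (C := fun z => d z = 0) ((_root_.sq (RingHom.ker ρ)) ▸ hz) (fun a ha c hc => ?_)
      (fun a c iha ihc => by rw [map_add, iha, ihc, add_zero])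
    rw [hd, RingHom.mem_ker.1 ha, RingHom.mem_ker.1 hc]
    simp
  let z := a - ρ a • (1 : A) - ∑ l, MvPowerSeries.coeff (Finsupp.single l 1) (ψ a) • e l
  have hz : z ∈ RingHom.ker ρ ^ 2 := by
    refine hC.sq _ (QuadSingJac.mem_sq_of_noLow ?_)
    have hcC : ∀ c : k, c • (1 : MvPowerSeries (Fin n) k) = MvPowerSeries.C c := fun c => by
      rw [Algebra.smul_def, mul_one, MvPowerSeries.algebraMap_apply]; rfl
    have hcoeff : ∀ l j, MvPowerSeries.coeff (Finsupp.single j 1) (ψ (e l)) = if l = j then 1 else 0 := fun l j => by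
      have := (QuadSingJac.mem_pow_iff _ 2).1 (he l) (Finsupp.single j 1) (by rw [Finsupp.degree_single]; omega)
      rw [map_sub, sub_eq_zero, MvPowerSeries.coeff_X] at this
      rw [this]
      simp [Finsupp.single_left_inj one_ne_zero, eq_comm]
    have hconst : ∀ l, ρ (e l) = 0 := fun l => by
      have := (QuadSingJac.mem_max_iff _).1 (Ideal.pow_le_self two_ne_zero (he l))
      rwa [map_sub, MvPowerSeries.constantCoeff_X, sub_zero, hC.const] at this
    refine ⟨?_, fun j => ?_⟩
    · rw [hC.const]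
      simp [z, hconst]
    · simp only [z, map_sub, map_sum, map_smul, map_one, hcC, MvPowerSeries.coeff_C,
        Finsupp.single_ne_zero.2 one_ne_zero, if_false, hcoeff]
      simp
  have h0 := hsq z hz
  rw [map_sub, map_sub, map_smul, h1, smul_zero, sub_zero, map_sum, sub_eq_zero] at h0
  rw [h0, lin_eq_sum]
  exact Finset.sum_congr rfl fun l _ => by rw [map_smul, Algebra.smul_def, mul_comm]

/-- The restriction to a line of the universal form. -/
def evU {K : Type u} [Field K] [Algebra k K] (π : R →ₐ[k] K) (ψ : A →ₐ[k] MvPowerSeries (Fin n) k) (v : Fin n → K) :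
    R ⊗[k] A →ₐ[k] PowerSeries K :=
  Algebra.TensorProduct.lift ((IsScalarTower.toAlgHom k K (PowerSeries K)).comp π) ((evl v).comp ψ)
    fun _ _ => Commute.all _ _

/-- The abstract limit argument. -/
theorem deg_of_limit [IsAlgClosed k] [IsLocalRing R] {L : Type u} [Field L] [Algebra k L] [Algebra R L]
    [IsScalarTower k R L] (hinj : Function.Injective (algebraMap R L)) (hC : Coord ρ ψ) (s : Fin N → R) (s₀ : Fin N → k)
    (hs : ∀ c, residue R (s c) = algebraMap k (ResidueField R) (s₀ c))
    (h0 : ψ (∑ c, s₀ c • h c) ∈ maximalIdeal (MvPowerSeries (Fin n) k) ^ 2)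
    (x : A →ₐ[k] R) (hx : ∀ a, residue R (x a) = algebraMap k (ResidueField R) (ρ a)) (hbad : BadPt b h x s)
    (V : A →ₗ[k] R) (γ : L) (hγ : γ ≠ 0)
    (hV : ∀ a c, residue R (V (a * c)) = algebraMap k (ResidueField R) (ρ a) * residue R (V c) +
      residue R (V a) * algebraMap k (ResidueField R) (ρ c))
    (hV1 : ∃ a, residue R (V a) ≠ 0)
    (Θ : R ⊗[k] A →ₗ[R] L) (Θ' : Fin n → R ⊗[k] A →ₗ[R] L)
    (hΘ : ∀ a ∈ RingHom.ker (ext x), ∀ c ∈ RingHom.ker (ext x), ∃ q : R, Θ (a * c) = γ ^ 2 * algebraMap R L q ∧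
      residue R q = residue R (V.liftBaseChange R a) * residue R (V.liftBaseChange R c))
    (hΘ' : ∀ l, ∀ a ∈ RingHom.ker (ext x), ∀ c ∈ RingHom.ker (ext x), ∃ q : R,
      Θ' l (a * c) = γ * algebraMap R L q ∧
      residue R q = residue R (ext x ((dB b l).baseChange R a)) * residue R (V.liftBaseChange R c) +
        residue R (V.liftBaseChange R a) * residue R (ext x ((dB b l).baseChange R c)))
    (hΘ0 : Θ (univ h s) = 0) (hΘ'0 : ∀ l, Θ' l (univ h s) = 0) :
    Deg k (ψ (∑ c, s₀ c • h c)) := by
  classical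
  let κ := ResidueField R
  let π : R →ₐ[k] κ := IsScalarTower.toAlgHom k R κ
  have hπ : ∀ r, π r = residue R r := fun r => rfl
  obtain ⟨v, hv⟩ := hC.exists_vec (K := κ) (π.toLinearMap.comp V) hV
  have hv0 : v ≠ 0 := by
    obtain ⟨a, ha⟩ := hV1
    intro h0
    refine ha ?_
    have := hv a
    rw [h0, lin_eq_sum] at this
    simpa [hπ, -IsLocalRing.residue_eq_zero_iff] using this.symm
  have hδ : ∀ l, ∀ a c, residue R (x (dB b l (a * c))) = algebraMap k κ (ρ a) * residue R (x (dB b l c)) +
      residue R (x (dB b l a)) * algebraMap k κ (ρ c) := fun l a c => by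
    rw [dB_mul, map_add, map_add, map_mul, map_mul, map_mul, map_mul, hx a, hx c, add_comm]
  choose w hw using fun l => hC.exists_vec (K := κ) (π.toLinearMap.comp (x.toLinearMap.comp (dB b l))) (hδ l)
  -- the coordinate vectors are combinations of the `w`
  have hspan : ∀ i : Fin n, ∃ c : Fin n → κ, (Pi.single i 1 : Fin n → κ) = ∑ l, c l • w l := by
    intro i
    letI : Algebra A k := ρ.toRingHom.toAlgebra
    haveI : IsScalarTower k A k := IsScalarTower.of_algebraMap_eq fun c => (ρ.commutes c).symm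
    let D : Derivation k A k := Derivation.mk'
      { toFun := fun a => lin (Pi.single i (1 : k)) (ψ a)
        map_add' := fun a c => by rw [map_add, lin_add]
        map_smul' := fun c a => by
          rw [Algebra.smul_def, map_mul, ψ.commutes, lin_mul, MvPowerSeries.algebraMap_apply, lin_C]
          simp }
      fun a c => by
        show lin (Pi.single i (1 : k)) (ψ (a * c)) = ρ a * lin (Pi.single i (1 : k)) (ψ c) + ρ c * lin (Pi.single i (1 : k)) (ψ a)
        rw [map_mul, lin_mul, hC.const, hC.const]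
        simp only [Algebra.algebraMap_self, RingHom.id_apply]
        ring
    refine ⟨fun l => algebraMap k κ (D.liftKaehlerDifferential (b l)), funext fun m => ?_⟩
    obtain ⟨a, ha⟩ := hC.surj m
    have h1 : lin (Pi.single i (1 : k)) (ψ a) = ∑ l, ρ (dB b l a) * D.liftKaehlerDifferential (b l) := by
      rw [show lin (Pi.single i (1 : k)) (ψ a) = D a from rfl, ← D.liftKaehlerDifferential_comp_D a]
      conv_lhs => rw [← b.sum_repr (KaehlerDifferential.D k A a)]
      rw [map_sum]
      exact Finset.sum_congr rfl fun l _ => by rw [map_smul]; rfl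
    rw [hC.lin_self _ a m ha] at h1
    have h2 : (Pi.single i 1 : Fin n → κ) m = algebraMap k κ ((Pi.single i (1 : k) : Fin n → k) m) := by
      simp [Pi.single_apply, apply_ite]
    rw [h2, h1, map_sum, Finset.sum_apply]
    refine Finset.sum_congr rfl fun l _ => ?_
    rw [Pi.smul_apply, smul_eq_mul, map_mul, ← hC.lin_self (w l) a m ha, hw]
    show _ = _ * residue R (x (dB b l a))
    rw [hx, mul_comm]
  -- first order terms of the universal restriction
  have hlin : ∀ (u : Fin n → κ) (d : A →ₗ[k] R), (∀ a, lin u (ψ a) = residue R (d a)) →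
      ∀ z, PowerSeries.coeff 1 (evU π ψ u z) = residue R (d.liftBaseChange R z) := by
    intro u d hd z
    induction z using TensorProduct.induction_on with
    | zero => simp
    | tmul r a =>
      rw [LinearMap.liftBaseChange_tmul, smul_eq_mul, map_mul, ← hd]
      show PowerSeries.coeff 1 (algebraMap κ (PowerSeries κ) (π r) * evl u (ψ a)) = _
      rw [PowerSeries.algebraMap_apply, Algebra.algebraMap_self, RingHom.id_apply, PowerSeries.coeff_C_mul]
      rfl
    | add z z' ih ih' => simp only [map_add, ih, ih']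
  have hlw : ∀ l z, PowerSeries.coeff 1 (evU π ψ (w l) z) = residue R (ext x ((dB b l).baseChange R z)) := by
    intro l z
    rw [hlin (w l) (x.toLinearMap.comp (dB b l)) (hw l) z]
    congr 1
    induction z using TensorProduct.induction_on with
    | zero => simp
    | tmul r a => simp
    | add z z' ih ih' => simp only [map_add, ih, ih']
  have hc0 : ∀ (u : Fin n → κ) z, PowerSeries.constantCoeff (evU π ψ u z) = residue R (ext x z) := by
    intro u z
    induction z using TensorProduct.induction_on with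
    | zero => simp
    | tmul r a =>
      show PowerSeries.constantCoeff (algebraMap κ (PowerSeries κ) (π r) * evl u (ψ a)) = _
      rw [map_mul, PowerSeries.algebraMap_apply, PowerSeries.constantCoeff_C, constantCoeff_evl, hC.const, ext_tmul,
        map_mul, hx]
      rfl
    | add z z' ih ih' => simp only [map_add, ih, ih']
  have hq : ∀ (u : Fin n → κ) a c, a ∈ RingHom.ker (ext x) → c ∈ RingHom.ker (ext x) →
      PowerSeries.coeff 2 (evU π ψ u (a * c)) =
        PowerSeries.coeff 1 (evU π ψ u a) * PowerSeries.coeff 1 (evU π ψ u c) := by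
    intro u a c ha hc
    have h1 : ∀ z ∈ RingHom.ker (ext x), PowerSeries.constantCoeff (evU π ψ u z) = 0 := fun z hz => by
      rw [hc0, RingHom.mem_ker.1 hz, map_zero]
    simp [PowerSeries.coeff_mul, Finset.Nat.antidiagonal_succ, h1 a ha, h1 c hc]
  have hadd : ∀ (u u' : Fin n → κ) z, PowerSeries.coeff 1 (evU π ψ (u + u') z) =
      PowerSeries.coeff 1 (evU π ψ u z) + PowerSeries.coeff 1 (evU π ψ u' z) := by
    intro u u' z
    induction z using TensorProduct.induction_on with
    | zero => simp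
    | tmul r a =>
      show PowerSeries.coeff 1 (algebraMap κ (PowerSeries κ) (π r) * evl (u + u') (ψ a)) =
        PowerSeries.coeff 1 (algebraMap κ (PowerSeries κ) (π r) * evl u (ψ a)) +
          PowerSeries.coeff 1 (algebraMap κ (PowerSeries κ) (π r) * evl u' (ψ a))
      rw [PowerSeries.algebraMap_apply, PowerSeries.coeff_C_mul, PowerSeries.coeff_C_mul, PowerSeries.coeff_C_mul,
        show PowerSeries.coeff 1 (evl (u + u') (ψ a)) = _ from lin_add_vec u u' _, mul_add]
      rfl
    | add z z' ih ih' => simp only [map_add, ih, ih']; ring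
  have hUuniv : ∀ u, evU π ψ u (univ h s) = evl u (ψ (∑ c, s₀ c • h c)) := by
    intro u
    simp only [univ, map_sum, map_smul]
    refine Finset.sum_congr rfl fun c _ => ?_
    show algebraMap κ (PowerSeries κ) (π (s c)) * evl u (ψ (h c)) = _
    rw [hπ, hs, ← IsScalarTower.algebraMap_apply, Algebra.smul_def]
  have hmem := univ_mem_sq b h x s hbad
  rw [sq] at hmem
  have hQ : ∀ z ∈ RingHom.ker (ext x) * RingHom.ker (ext x),
      ∃ q : R, Θ z = γ ^ 2 * algebraMap R L q ∧ residue R q = PowerSeries.coeff 2 (evU π ψ v z) := by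
    intro z hz
    refine Submodule.mul_induction_on hz (fun a ha c hc => ?_) (fun a c iha ihc => ?_)
    · obtain ⟨q, h1, h2⟩ := hΘ a ha c hc
      exact ⟨q, h1, by rw [h2, hq v a c ha hc, hlin v V hv, hlin v V hv]⟩
    · obtain ⟨q, h1, h2⟩ := iha
      obtain ⟨q', h1', h2'⟩ := ihc
      exact ⟨q + q', by rw [map_add, h1, h1', map_add, mul_add], by simp only [map_add, h2, h2']⟩
  have hP : ∀ l, ∀ z ∈ RingHom.ker (ext x) * RingHom.ker (ext x),
      ∃ q : R, Θ' l z = γ * algebraMap R L q ∧ residue R q = PowerSeries.coeff 2 (evU π ψ (v + w l) z) -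
        PowerSeries.coeff 2 (evU π ψ v z) - PowerSeries.coeff 2 (evU π ψ (w l) z) := by
    intro l z hz
    refine Submodule.mul_induction_on hz (fun a ha c hc => ?_) (fun a c iha ihc => ?_)
    · obtain ⟨q, h1, h2⟩ := hΘ' l a ha c hc
      refine ⟨q, h1, ?_⟩
      rw [h2, hq _ a c ha hc, hq _ a c ha hc, hq _ a c ha hc, hadd, hadd, hlw, hlw, hlin v V hv, hlin v V hv]
      ring
    · obtain ⟨q, h1, h2⟩ := iha
      obtain ⟨q', h1', h2'⟩ := ihc
      exact ⟨q + q', by rw [map_add, h1, h1', map_add, mul_add], by simp only [map_add, h2, h2']; ring⟩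
  have hzero : ∀ (c : L) (q : R), c ≠ 0 → 0 = c * algebraMap R L q → residue R q = 0 := fun c q hc h => by
    have := (mul_eq_zero.1 h.symm).resolve_left hc
    rw [← map_zero (algebraMap R L)] at this
    rw [hinj this, map_zero]
  refine deg_iff_poly (K := κ) h0 (deg_of_single h0 hv0 ?_ fun i => ?_)
  · obtain ⟨q, h1, h2⟩ := hQ _ hmem
    rw [Qf, ← hUuniv, ← h2]
    exact hzero _ q (pow_ne_zero 2 hγ) (hΘ0 ▸ h1)
  · obtain ⟨c, hc⟩ := hspan i
    rw [hc, pol_combo v h0]
    refine Finset.sum_eq_zero fun l _ => ?_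
    obtain ⟨q, h1, h2⟩ := hP l _ hmem
    rw [pol, Qf, Qf, Qf, ← hUuniv, ← hUuniv, ← hUuniv, ← h2, hzero _ q hγ (hΘ'0 l ▸ h1), mul_zero]

end Groth.Agent.DualVar
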