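import Groth.Agent.DualVar.Chart
import Mathlib.AlgebraicGeometry.ValuativeCriterion

/-!
# Singular points of nearby forms
-/

set_option autoImplicit false
set_option linter.style.haveILetI false
set_option linter.unusedSectionVars false
set_option backward.isDefEq.respectTransparency false
set_option backward.isDefEq.respectTransparency.types false

universe u

open CategoryTheory CategoryTheory.Limits AlgebraicGeometry TopologicalSpace Opposite
open Groth.Agent.QC (resO resO_resO resO_self)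
open Groth.Agent.WeilLib (secStr)

noncomputable section

namespace Groth.Agent.DualVar

/-- The functions pulled back by a point of an affine open with values in a ring. -/
theorem specMap_appLE {X : Scheme.{u}} {V : X.Opens} (hV : IsAffineOpen V) {L : CommRingCat.{u}} (φ : Γ(X, V) ⟶ L)
    (e : ⊤ ≤ (Spec.map φ ≫ hV.fromSpec) ⁻¹ᵁ V) :
    (Spec.map φ ≫ hV.fromSpec).appLE V ⊤ e = φ ≫ (Scheme.ΓSpecIso L).inv := by
  have h1 : hV.fromSpec.appLE V ⊤ (by rw [hV.fromSpec_preimage_self]) = (Scheme.ΓSpecIso Γ(X, V)).inv := by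
    rw [Scheme.Hom.appLE, hV.fromSpec_app_self, Category.assoc, ← Functor.map_comp]
    convert Category.comp_id _
    exact (Spec Γ(X, V)).presheaf.map_id _
  rw [← Scheme.Hom.appLE_comp_appLE (Spec.map φ) hV.fromSpec V ⊤ ⊤ (by rw [hV.fromSpec_preimage_self]) le_top, h1,
    Scheme.ΓSpecIso_inv_naturality, Scheme.Hom.appTop, ← Scheme.Hom.appLE_eq_app]
  rfl

variable {k : Type u} [Field k] {r d n : ℕ} {X : Scheme.{u}} (i : X ⟶ CohB1.ProjSpace r k)

/-- The space of forms and points. -/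
abbrev PP (d : ℕ) : Scheme.{u} := pullback (str i) (pB k r d)

/-- The point of the space of forms of a form. -/
abbrev ptPt (H : LefPen.Form r k d) : (Spec (CommRingCat.of (CoR k r d)) : Scheme.{u}) :=
  ptH H (IsLocalRing.closedPoint k)

variable {i}

/-- A family of functions on an open as one function on the product with the space of forms. -/
def uG (V : X.Opens) (Φ : Fin (Module.finrank k (LefPen.Form r k d)) → Γ(X, V)) :
    Γ(PP i d, pullback.fst (str i) (pB k r d) ⁻¹ᵁ V) :=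
  ∑ c, ((pullback.fst (str i) (pB k r d)).app V).hom (Φ c) *
    (((Scheme.ΓSpecIso (CommRingCat.of (CoR k r d))).inv ≫
      (pullback.snd (str i) (pB k r d)).appLE ⊤ (pullback.fst (str i) (pB k r d) ⁻¹ᵁ V) le_top).hom (MvPolynomial.X c))

theorem appLE_uG (V : X.Opens) (Φ : Fin (Module.finrank k (LefPen.Form r k d)) → Γ(X, V)) {S : Scheme.{u}}
    (g : S ⟶ PP i d) (gX : S ⟶ X) (gS : S ⟶ Spec (CommRingCat.of (CoR k r d)))
    (hX : g ≫ pullback.fst (str i) (pB k r d) = gX) (hS : g ≫ pullback.snd (str i) (pB k r d) = gS)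
    (U : S.Opens) (e : U ≤ g ⁻¹ᵁ (pullback.fst (str i) (pB k r d) ⁻¹ᵁ V)) (e' : U ≤ gX ⁻¹ᵁ V) :
    (g.appLE _ U e).hom (uG V Φ) = ∑ c, (gX.appLE V U e').hom (Φ c) *
      ((Scheme.ΓSpecIso (CommRingCat.of (CoR k r d))).inv ≫ gS.appLE ⊤ U le_top).hom (MvPolynomial.X c) := by
  subst hX hS
  rw [uG, map_sum]
  refine Finset.sum_congr rfl fun c _ => ?_
  rw [map_mul]
  congr 1
  exact congr($(Scheme.Hom.appLE_comp_appLE g (pullback.snd (str i) (pB k r d)) ⊤ _ U le_top e)
    ((Scheme.ΓSpecIso (CommRingCat.of (CoR k r d))).inv.hom (MvPolynomial.X c)))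

variable [IsAlgClosed k] [IsClosedImmersion i] [SmoothOfRelativeDimension n (str i)]

theorem secH_fst (H : LefPen.Form r k d) (y : X) : pullback.fst (str i) (pB k r d) (secH i H y) = y :=
  congr($(pullback.lift_fst (𝟙 X) (str i ≫ ptH H) _) y)

theorem secH_snd (H : LefPen.Form r k d) (x : X) : pullback.snd (str i) (pB k r d) (secH i H x) = ptPt H := by
  have h := congr($(pullback.lift_snd (𝟙 X) (str i ≫ ptH H)
    (by rw [Category.assoc, ptH_pB, Category.comp_id, Category.id_comp])) x)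
  refine h.trans (congrArg (ptH H) ?_)
  exact Subsingleton.elim (α := PrimeSpectrum k) _ _

theorem exists_secH_eq (H : LefPen.Form r k d) (z : PP i d) (hz : pullback.snd (str i) (pB k r d) z = ptPt H) :
    ∃ x, secH i H x = z := by
  have hsq : IsPullback (secH i H) (str i) (pullback.snd (str i) (pB k r d)) (ptH H) := by
    refine IsPullback.of_right ?_ (pullback.lift_snd _ _ _) (IsPullback.of_hasPullback (str i) (pB k r d)).flip.flip
    rw [show secH i H ≫ pullback.fst (str i) (pB k r d) = 𝟙 X from pullback.lift_fst _ _ _, ptH_pB]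
    exact IsPullback.of_horiz_isIso ⟨by rw [Category.id_comp, Category.comp_id]⟩
  obtain ⟨w, hw, -⟩ := Scheme.Pullback.exists_preimage_pullback (f := pullback.snd (str i) (pB k r d)) (g := ptH H) z
    (IsLocalRing.closedPoint k) hz
  refine ⟨hsq.isoPullback.inv w, ?_⟩
  rw [← hw]
  exact congr($(hsq.isoPullback_inv_fst) w)

theorem ptPt_asIdeal (H : LefPen.Form r k d) :
    (ptPt H).asIdeal = RingHom.ker (MvPolynomial.eval (co H)) := by
  show (IsLocalRing.closedPoint k).asIdeal.comap (MvPolynomial.eval (co H)) = _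
  rw [show (IsLocalRing.closedPoint k).asIdeal = ⊥ from IsLocalRing.maximalIdeal_eq_bot]
  rfl

theorem ptPt_mem_basicOpen (f : CoR k r d) (G : LefPen.Form r k d) :
    ptPt G ∈ PrimeSpectrum.basicOpen f ↔ MvPolynomial.eval (co G) f ≠ 0 := by
  rw [PrimeSpectrum.mem_basicOpen, ptPt_asIdeal, RingHom.mem_ker]

/-- A closed point of the product is the value of a section. -/
theorem exists_secH_of_closed [IsProper (str i)] {z : PP i d} (hz : IsClosed ({z} : Set (PP i d))) :
    ∃ (H : LefPen.Form r k d) (x : X), secH i H x = z ∧ IsClosed ({x} : Set X) := by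
  have h2 : IsClosed ({pullback.snd (str i) (pB k r d) z} : Set (PrimeSpectrum (CoR k r d))) := by
    have := (pullback.snd (str i) (pB k r d)).isClosedMap _ hz
    rwa [Set.image_singleton] at this
  obtain ⟨a, ha⟩ := (MvPolynomial.isMaximal_iff_eq_vanishingIdeal_singleton (K := k)
    (I := (pullback.snd (str i) (pB k r d) z).asIdeal)).1 ((PrimeSpectrum.isClosed_singleton_iff_isMaximal _).1 h2)
  let H : LefPen.Form r k d := ∑ c, a c • bF r k d c
  have hco : co H = a := funext fun c => by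
    show (bF r k d).repr H c = a c
    simp [H, Module.Basis.repr_self, Finsupp.single_apply]
  have hp : pullback.snd (str i) (pB k r d) z = ptPt H := by
    refine PrimeSpectrum.ext ?_
    rw [ptPt_asIdeal, hco]
    refine ha.trans ?_
    ext p
    rw [MvPolynomial.mem_vanishingIdeal_singleton_iff, RingHom.mem_ker, MvPolynomial.aeval_eq_eval]
  obtain ⟨x, rfl⟩ := exists_secH_eq H z hp
  refine ⟨H, x, rfl, ?_⟩
  have := hz.preimage (secH i H).continuous
  rwa [← Set.image_singleton, Set.preimage_image_eq _ (Function.LeftInverse.injective (secH_fst H))] at this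

/-- The condition of a chart on the product. -/
def uC (C : Ch i n) (d : ℕ) (o : Option (Fin n)) : Γ(PP i d, pullback.fst (str i) (pB k r d) ⁻¹ᵁ C.V.1) :=
  letI := algV i C.V.1
  uG C.V.1 fun c => jet C.b (C.h d c) o

/-- The open where the form is not singular. -/
def W0 (i : X ⟶ CohB1.ProjSpace r k) (n d : ℕ) [IsClosedImmersion i] [SmoothOfRelativeDimension n (str i)] :
    (PP i d).Opens :=
  ⨆ C : Ch i n, ⨆ o : Option (Fin n), (PP i d).basicOpen (uC C d o)

theorem mem_basicOpen_uC (C : Ch i n) [LocallyOfFiniteType (str i)] (H : LefPen.Form r k d) {x : X}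
    (hx : IsClosed ({x} : Set X)) (hxV : x ∈ C.V.1) (o : Option (Fin n)) :
    letI := algV i C.V.1
    secH i H x ∈ (PP i d).basicOpen (uC C d o) ↔ ∑ c, co H c * C.pt hx hxV (jet C.b (C.h d c) o) ≠ 0 := by
  letI := algV i C.V.1
  have e : C.V.1 ≤ secH i H ⁻¹ᵁ (pullback.fst (str i) (pB k r d) ⁻¹ᵁ C.V.1) := fun y hy => by
    show pullback.fst (str i) (pB k r d) (secH i H y) ∈ C.V.1
    rwa [secH_fst]
  have hid : ∀ (g : X ⟶ X) (e' : C.V.1 ≤ g ⁻¹ᵁ C.V.1), g = 𝟙 X → g.appLE C.V.1 C.V.1 e' = 𝟙 _ := by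
    rintro g e' rfl
    simp [Scheme.Hom.appLE]
    exact X.presheaf.map_id _
  have hval : ((secH i H).appLE _ C.V.1 e).hom (uC C d o) =
      ∑ c, jet C.b (C.h d c) o * secStr (str i) C.V.1 (co H c) := by
    rw [uC, appLE_uG C.V.1 _ (secH i H) (𝟙 X) (str i ≫ ptH H) (pullback.lift_fst _ _ _) (pullback.lift_snd _ _ _) C.V.1 e
      le_rfl, hid _ _ rfl]
    refine Finset.sum_congr rfl fun c _ => ?_
    congr 1
    rw [show (str i ≫ ptH H).appLE ⊤ C.V.1 le_top = (ptH H).appTop ≫ (str i).appLE ⊤ C.V.1 le_top from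
      (Scheme.Hom.appLE_comp_appLE (str i) (ptH H) ⊤ ⊤ C.V.1 le_top le_top).symm.trans
        (by rw [Scheme.Hom.appTop, ← Scheme.Hom.appLE_eq_app]; rfl), ← Category.assoc, ← Scheme.ΓSpecIso_inv_naturality]
    show secStr (str i) C.V.1 (MvPolynomial.eval (co H) (MvPolynomial.X c)) = _
    rw [MvPolynomial.eval_X]
  have h1 : secH i H x ∈ (PP i d).basicOpen (uC C d o) ↔ ev (str i) hx hxV
      (((secH i H).appLE _ C.V.1 e).hom (uC C d o)) ≠ 0 := by
    rw [ev_ne_zero_iff]
    show _ ↔ x ∈ X.basicOpen (X.presheaf.map (homOfLE e).op ((secH i H).app _ (uC C d o)))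
    rw [Scheme.basicOpen_res, ← Scheme.preimage_basicOpen]
    exact ⟨fun h => ⟨hxV, h⟩, fun h => h.2⟩
  rw [h1, hval, map_sum]
  refine not_congr (Eq.congr_left (Finset.sum_congr rfl fun c _ => ?_))
  rw [map_mul, ev_secStr, mul_comm, C.pt_apply]

variable (n)
include n

theorem mem_W0 [LocallyOfFiniteType (str i)] (H : LefPen.Form r k d) {x : X} (hx : IsClosed ({x} : Set X)) :
    secH i H x ∈ W0 i n d ↔ ¬ Bad i H x := by
  constructor
  · intro hW hB
    simp only [W0, Opens.mem_iSup] at hW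
    obtain ⟨C, o, h⟩ := hW
    have hxV : x ∈ C.V.1 := by
      have h2 := (PP i d).basicOpen_le (uC C d o) h
      have h3 : pullback.fst (str i) (pB k r d) (secH i H x) ∈ C.V.1 := h2
      rwa [secH_fst] at h3
    exact (mem_basicOpen_uC C H hx hxV o).1 h ((C.bad_iff hx hxV H).1.1 hB o)
  · intro hB
    obtain ⟨C, hxV⟩ := exists_ch (n := n) (i := i) hx
    letI := algV i C.V.1
    obtain ⟨o, ho⟩ : ∃ o, ∑ c, co H c * C.pt hx hxV (jet C.b (C.h d c) o) ≠ 0 := by
      by_contra hc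
      push Not at hc
      exact hB ((C.bad_iff hx hxV H).1.2 hc)
    simp only [W0, Opens.mem_iSup]
    exact ⟨C, o, (mem_basicOpen_uC C H hx hxV o).2 ho⟩

/-- If the only singular point of a form lies in an affine chart then so do those of the nearby forms. -/
theorem exists_poly_near [LocallyOfFiniteType (str i)] (C : Ch i n) (H₀ : LefPen.Form r k d)
    (hV : ∀ x : X, IsClosed ({x} : Set X) → Bad i H₀ x → x ∈ C.V.1) :
    ∃ f : CoR k r d, MvPolynomial.eval (co H₀) f ≠ 0 ∧ ∀ H : LefPen.Form r k d, MvPolynomial.eval (co H) f ≠ 0 →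
      ∀ x : X, IsClosed ({x} : Set X) → Bad i H x → x ∈ C.V.1 := by
  haveI : IsProper (CohB1.ProjSpace.toSpec r k) := ProjMor.isProper_toSpec r k
  haveI : IsProper (str i) := inferInstance
  haveI : JacobsonSpace X := LocallyOfFiniteType.jacobsonSpace (str i)
  let p₁ := pullback.fst (str i) (pB k r d)
  let p₂ := pullback.snd (str i) (pB k r d)
  let U : (PP i d).Opens := W0 i n d ⊔ p₁ ⁻¹ᵁ C.V.1
  have hmemU : ∀ (H : LefPen.Form r k d) (x : X), IsClosed ({x} : Set X) →
      (secH i H x ∈ U ↔ (Bad i H x → x ∈ C.V.1)) := by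
    intro H x hx
    show secH i H x ∈ W0 i n d ∨ p₁ (secH i H x) ∈ C.V.1 ↔ _
    rw [mem_W0 n H hx, secH_fst]
    tauto
  have hcl : IsClosed (p₂ '' (U : Set (PP i d))ᶜ) := p₂.isClosedMap _ U.isOpen.isClosed_compl
  have h0 : ptPt H₀ ∉ p₂ '' (U : Set (PP i d))ᶜ := by
    rintro ⟨z, hzU, hz⟩
    obtain ⟨x, rfl⟩ := exists_secH_eq H₀ z hz
    obtain ⟨y, hy, hyc⟩ := nonempty_inter_closedPoints (Z := ((secH i H₀ ⁻¹ᵁ U : X.Opens) : Set X)ᶜ) ⟨x, hzU⟩
      ((secH i H₀ ⁻¹ᵁ U).isOpen.isClosed_compl.isLocallyClosed)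
    exact hy ((hmemU H₀ y hyc).2 (hV y hyc))
  obtain ⟨_, ⟨f, rfl⟩, hHf, hsub⟩ := PrimeSpectrum.isTopologicalBasis_basic_opens.exists_subset_of_mem_open
    (show ptPt H₀ ∈ (p₂ '' (U : Set (PP i d))ᶜ)ᶜ from h0) hcl.isOpen_compl
  refine ⟨f, (ptPt_mem_basicOpen f H₀).1 hHf, fun H hH x hx hB => ?_⟩
  by_contra hxV
  refine hsub ((ptPt_mem_basicOpen f H).2 hH) ⟨secH i H x, fun hU => hxV ((hmemU H x hx).1 hU hB), ?_⟩
  exact secH_snd H x

/-- Singular points with values in a valuation ring specialise to the singular point. -/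
theorem intHyp_of_unique [LocallyOfFiniteType (str i)] (C : Ch i n) (H₀ : LefPen.Form r k d) {x₀ : X}
    (hx₀ : IsClosed ({x₀} : Set X)) (hx₀V : x₀ ∈ C.V.1)
    (huniq : ∀ x : X, IsClosed ({x} : Set X) → Bad i H₀ x → x = x₀) :
    letI := algV i C.V.1
    IntHyp C.b (C.h d) (C.pt hx₀ hx₀V) (co H₀) := by
  letI := algV i C.V.1
  intro L _ _ R hk s hsR hs0 x hbx
  haveI : IsProper (CohB1.ProjSpace.toSpec r k) := ProjMor.isProper_toSpec r k
  haveI : IsProper (str i) := inferInstance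
  haveI : JacobsonSpace X := LocallyOfFiniteType.jacobsonSpace (str i)
  haveI : JacobsonSpace (PP i d) :=
    LocallyOfFiniteType.jacobsonSpace (pullback.snd (str i) (pB k r d))
  let p₁ := pullback.fst (str i) (pB k r d)
  let p₂ := pullback.snd (str i) (pB k r d)
  let gX : Spec (CommRingCat.of L) ⟶ X := Spec.map (CommRingCat.ofHom x.toRingHom) ≫ C.V.2.fromSpec
  let gS : Spec (CommRingCat.of L) ⟶ Spec (CommRingCat.of (CoR k r d)) :=
    Spec.map (CommRingCat.ofHom (MvPolynomial.aeval (R := k) s).toRingHom)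
  let sk : k →+* R := (algebraMap k L).codRestrict R.toSubring hk
  let sR : CoR k r d →+* R := MvPolynomial.eval₂Hom sk fun c => ⟨s c, hsR c⟩
  let gR : Spec (CommRingCat.of R) ⟶ Spec (CommRingCat.of (CoR k r d)) := Spec.map (CommRingCat.ofHom sR)
  let incl : Spec (CommRingCat.of L) ⟶ Spec (CommRingCat.of R) := Spec.map (CommRingCat.ofHom (algebraMap R L))
  have hgS : incl ≫ gR = gS := by
    show Spec.map _ ≫ Spec.map _ = Spec.map _
    rw [← Spec.map_comp, ← CommRingCat.ofHom_comp]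
    congr 2
    refine MvPolynomial.ringHom_ext (fun c => ?_) fun c => ?_ <;> simp [sR, sk] <;> rfl
  have hrange : ⊤ ≤ gX ⁻¹ᵁ C.V.1 := fun a _ => by
    show gX a ∈ C.V.1
    rw [← SetLike.mem_coe, ← C.V.2.range_fromSpec]
    exact ⟨Spec.map (CommRingCat.ofHom x.toRingHom) a, rfl⟩
  have hgX : gX ≫ str i = Spec.map (CommRingCat.ofHom (algebraMap k L)) := by
    refine ext_of_isAffine ?_
    rw [Scheme.Hom.appTop, Scheme.Hom.appTop, ← Scheme.Hom.appLE_eq_app]
    refine (Scheme.Hom.appLE_comp_appLE gX (str i) ⊤ C.V.1 ⊤ le_top hrange).symm.trans ?_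
    rw [specMap_appLE C.V.2 (CommRingCat.ofHom x.toRingHom) hrange]
    rw [← cancel_epi (Scheme.ΓSpecIso (CommRingCat.of k)).inv]
    refine Eq.trans ?_ (Scheme.ΓSpecIso_inv_naturality _)
    rw [← cancel_mono (Scheme.ΓSpecIso (CommRingCat.of L)).hom]
    simp only [Category.assoc, Iso.inv_hom_id, Category.comp_id]
    ext c
    exact x.commutes c
  have hgSk : gS ≫ pB k r d = Spec.map (CommRingCat.ofHom (algebraMap k L)) := by
    show Spec.map _ ≫ Spec.map _ = _
    rw [← Spec.map_comp, ← CommRingCat.ofHom_comp]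
    congr 2
    ext c
    simp
  let σ : Spec (CommRingCat.of L) ⟶ PP i d := pullback.lift gX gS (hgX.trans hgSk.symm)
  let ξ : PP i d := σ (IsLocalRing.closedPoint L)
  have hσ1 : σ ≫ p₁ = gX := pullback.lift_fst _ _ _
  have hσ2 : σ ≫ p₂ = gS := pullback.lift_snd _ _ _
  have hξV : ξ ∈ p₁ ⁻¹ᵁ C.V.1 := by
    show p₁ (σ _) ∈ C.V.1
    rw [← Scheme.Hom.comp_apply, hσ1]
    exact hrange trivial
  have hξ0 : ∀ o, ξ ∉ (PP i d).basicOpen (uC C d o) := by
    intro o hmem
    have e : ⊤ ≤ σ ⁻¹ᵁ (p₁ ⁻¹ᵁ C.V.1) := fun a _ => by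
      show p₁ (σ a) ∈ C.V.1
      rw [← Scheme.Hom.comp_apply, hσ1]
      exact hrange trivial
    have h0 : (σ.appLE _ ⊤ e).hom (uC C d o) = 0 := by
      rw [uC, appLE_uG C.V.1 _ σ gX gS hσ1 hσ2 ⊤ e hrange, specMap_appLE C.V.2 (CommRingCat.ofHom x.toRingHom) hrange]
      rw [show gS.appLE ⊤ ⊤ le_top = gS.appTop from Scheme.Hom.appLE_eq_app _, ← Scheme.ΓSpecIso_inv_naturality]
      show ∑ c, (Scheme.ΓSpecIso (CommRingCat.of L)).inv.hom (x (jet C.b (C.h d c) o)) *
        (Scheme.ΓSpecIso (CommRingCat.of L)).inv.hom (MvPolynomial.aeval s (MvPolynomial.X c)) = 0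
      simp only [← map_mul, ← map_sum, MvPolynomial.aeval_X]
      rw [show ∑ c, x (jet C.b (C.h d c) o) * s c = 0 by
        rw [← hbx o]; exact Finset.sum_congr rfl fun c _ => mul_comm _ _, map_zero]
    have h1 : IsLocalRing.closedPoint L ∈ (Spec (CommRingCat.of L)).basicOpen ((σ.appLE _ ⊤ e).hom (uC C d o)) := by
      show _ ∈ (Spec (CommRingCat.of L)).basicOpen
        ((Spec (CommRingCat.of L)).presheaf.map (homOfLE e).op (σ.app _ (uC C d o)))
      rw [Scheme.basicOpen_res, ← Scheme.preimage_basicOpen]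
      exact ⟨trivial, hmem⟩
    rw [h0, Scheme.basicOpen_zero] at h1
    exact h1
  -- closed points see everything
  have hξW : ξ ∉ W0 i n d := by
    intro hW
    let Z : Set (PP i d) := ((W0 i n d ⊓ p₁ ⁻¹ᵁ C.V.1 : (PP i d).Opens) : Set (PP i d)) ∩
      ((⨆ o, (PP i d).basicOpen (uC C d o) : (PP i d).Opens) : Set (PP i d))ᶜ
    have hne : Z.Nonempty := ⟨ξ, ⟨hW, hξV⟩, fun h => by
      obtain ⟨o, ho⟩ := Opens.mem_iSup.1 h
      exact hξ0 o ho⟩
    obtain ⟨z, ⟨⟨hzW, hzV⟩, hzD⟩, hzc⟩ := nonempty_inter_closedPoints hne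
      (IsLocallyClosed.inter (W0 i n d ⊓ p₁ ⁻¹ᵁ C.V.1).isOpen.isLocallyClosed
        (⨆ o, (PP i d).basicOpen (uC C d o) : (PP i d).Opens).isOpen.isClosed_compl.isLocallyClosed)
    obtain ⟨H, y, rfl, hyc⟩ := exists_secH_of_closed hzc
    have hyV : y ∈ C.V.1 := by
      have h3 : p₁ (secH i H y) ∈ C.V.1 := hzV
      rwa [secH_fst] at h3
    refine (mem_W0 n H hyc).1 hzW ((C.bad_iff hyc hyV H).1.2 fun o => ?_)
    by_contra ho
    exact hzD (Opens.mem_iSup.2 ⟨o, (mem_basicOpen_uC C H hyc hyV o).2 ho⟩)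
  -- valuative criterion
  have hex : ValuativeCriterion.Existence (str i) := by
    have h : @UniversallyClosed _ _ (str i) := inferInstance
    rw [UniversallyClosed.eq_valuativeCriterion] at h
    exact h.1
  have hsq : CommSq gX incl (str i) (gR ≫ pB k r d) := ⟨hgX.trans (by rw [← hgSk, ← hgS, Category.assoc])⟩
  obtain ⟨⟨⟨lR, hl1, hl2⟩⟩⟩ := hex ⟨R, L, gX, gR ≫ pB k r d, hsq⟩
  let σR : Spec (CommRingCat.of R) ⟶ PP i d := pullback.lift lR gR hl2
  let z : PP i d := σR (IsLocalRing.closedPoint R)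
  have hσR : incl ≫ σR = σ := by
    refine pullback.hom_ext ?_ ?_
    · rw [Category.assoc, pullback.lift_fst, pullback.lift_fst]; exact hl1
    · rw [Category.assoc, pullback.lift_snd, pullback.lift_snd, hgS]
  have hzW : z ∉ W0 i n d := by
    intro hz
    refine hξW ?_
    show σ (IsLocalRing.closedPoint L) ∈ W0 i n d
    rw [← hσR, Scheme.Hom.comp_apply]
    exact (IsLocalRing.specializes_closedPoint _).mem_open (σR ⁻¹ᵁ W0 i n d).isOpen hz
  have hres : ∀ f : CoR k r d, sR f - sk (MvPolynomial.eval (co H₀) f) ∈ IsLocalRing.maximalIdeal R := by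
    intro f
    induction f using MvPolynomial.induction_on with
    | C c => simp [sR]
    | add f g hf hg =>
      have := add_mem hf hg
      rw [map_add, map_add, map_add]
      convert this using 1
      ring
    | mul_X f c hf =>
      have h2 : sR (MvPolynomial.X c) - sk (co H₀ c) ∈ IsLocalRing.maximalIdeal R := by
        rw [← ValuationSubring.coe_mem_nonunits_iff]
        simp only [sR, MvPolynomial.eval₂Hom_X']
        exact hs0 c
      have := add_mem (Ideal.mul_mem_right (sR (MvPolynomial.X c)) _ hf)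
        (Ideal.mul_mem_left _ (sk (MvPolynomial.eval (co H₀) f)) h2)
      rw [map_mul, map_mul, MvPolynomial.eval_X, map_mul]
      convert this using 1
      ring
  have hzp : p₂ z = ptPt H₀ := by
    show p₂ (σR _) = _
    rw [← Scheme.Hom.comp_apply, pullback.lift_snd]
    refine PrimeSpectrum.ext ?_
    rw [ptPt_asIdeal]
    show (IsLocalRing.maximalIdeal R).comap sR = _
    ext f
    rw [Ideal.mem_comap, RingHom.mem_ker]
    constructor
    · intro hf
      by_contra h0
      have h2 := sub_mem hf (hres f)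
      rw [sub_sub_cancel] at h2
      exact (IsLocalRing.maximalIdeal.isMaximal R).ne_top
        (Ideal.eq_top_of_isUnit_mem _ h2 ((isUnit_iff_ne_zero.2 h0).map sk))
    · intro h0
      simpa [h0] using hres f
  obtain ⟨y, hy⟩ := exists_secH_eq H₀ z hzp
  have hy0 : y = x₀ := by
    let S : Set X := ((secH i H₀ ⁻¹ᵁ W0 i n d : X.Opens) : Set X)ᶜ
    have hS : IsClosed S := (secH i H₀ ⁻¹ᵁ W0 i n d).isOpen.isClosed_compl
    have hsub : S ∩ closedPoints X ⊆ {x₀} := by
      rintro a ⟨ha, hac⟩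
      refine huniq a hac ?_
      by_contra hb
      exact ha ((mem_W0 n H₀ hac).2 hb)
    have hyS : y ∈ S := by
      show secH i H₀ y ∉ W0 i n d
      rw [hy]; exact hzW
    have := closure_inter_closedPoints hS (X := X)
    exact hx₀.closure_subset_iff.2 hsub (this.ge hyS)
  have hlR : lR (IsLocalRing.closedPoint R) = x₀ := by
    rw [← hy0, ← secH_fst (i := i) H₀ y, hy]
    show lR _ = p₁ (σR _)
    rw [← Scheme.Hom.comp_apply, pullback.lift_fst]
  have hlV : Set.range lR ⊆ Set.range C.V.2.fromSpec := by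
    rintro _ ⟨a, rfl⟩
    rw [C.V.2.range_fromSpec]
    exact (IsLocalRing.specializes_closedPoint a).mem_open (lR ⁻¹ᵁ C.V.1).isOpen
      (show lR (IsLocalRing.closedPoint R) ∈ C.V.1 by rw [hlR]; exact hx₀V)
  obtain ⟨φ, hφ⟩ := Spec.map_surjective (IsOpenImmersion.lift C.V.2.fromSpec lR hlV)
  have hfac : Spec.map φ ≫ C.V.2.fromSpec = lR := by rw [hφ, IsOpenImmersion.lift_fac]
  have hφx : φ ≫ CommRingCat.ofHom (algebraMap R L) = CommRingCat.ofHom x.toRingHom := by
    refine Spec.map_injective ?_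
    rw [← cancel_mono C.V.2.fromSpec, Spec.map_comp, Category.assoc, hfac]
    exact hl1
  have hφ0 : (IsLocalRing.maximalIdeal R).comap φ.hom = RingHom.ker (ev (str i) hx₀ hx₀V) := by
    rw [ker_ev (str i) hx₀ C.V.2 hx₀V]
    refine congrArg PrimeSpectrum.asIdeal (C.V.2.fromSpec.isOpenEmbedding.injective
      (a₁ := Spec.map φ (IsLocalRing.closedPoint R)) (a₂ := C.V.2.primeIdealOf ⟨x₀, hx₀V⟩) ?_)
    rw [C.V.2.fromSpec_primeIdealOf]
    show C.V.2.fromSpec (Spec.map φ _) = x₀
    rw [← Scheme.Hom.comp_apply, hfac, hlR]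
  have hxa : ∀ a, (φ.hom a : L) = x a := fun a => congr($hφx a)
  intro a
  refine ⟨hxa a ▸ (φ.hom a).2, ?_⟩
  have h1 : φ.hom (a - algebraMap k _ (C.pt hx₀ hx₀V a)) ∈ IsLocalRing.maximalIdeal R := by
    rw [← Ideal.mem_comap, hφ0, RingHom.mem_ker, ← C.pt_apply, map_sub, AlgHom.commutes]
    simp
  have h2 := ValuationSubring.coe_mem_nonunits_iff.2 h1
  rw [hxa, map_sub, AlgHom.commutes] at h2
  exact h2

end Groth.Agent.DualVar
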