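import Groth.Agent.DualVar.Frames
import Groth.Agent.DualVar.Poly
import Groth.Agent.ProjMor.ProjSpaceBase

/-!
# The forms singular nowhere on an embedded scheme form a Zariski open set
-/

set_option autoImplicit false
set_option linter.style.haveILetI false
set_option linter.unusedSectionVars false
set_option backward.isDefEq.respectTransparency false
set_option backward.isDefEq.respectTransparency.types false

universe u

open CategoryTheory CategoryTheory.Limits AlgebraicGeometry TopologicalSpace Opposite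
open Groth.Agent.QC (resO resO_resO resO_self)
open Groth.Agent.WeilLib (secStr)

noncomputable section

namespace Groth.Agent.DualVar

variable {k : Type u} [Field k] [IsAlgClosed k] {r d : ℕ} (n : ℕ) {X : Scheme.{u}} (i : X ⟶ CohB1.ProjSpace r k)
  [IsClosedImmersion i] [SmoothOfRelativeDimension n (str i)]

/-- The affine space of forms. -/
abbrev CoR (k : Type u) [Field k] (r d : ℕ) : Type u :=
  MvPolynomial (Fin (Module.finrank k (LefPen.Form r k d))) k

/-- The base morphism of the space of forms. -/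
abbrev pB (k : Type u) [Field k] (r d : ℕ) : Spec (CommRingCat.of (CoR k r d)) ⟶ Spec (CommRingCat.of k) :=
  Spec.map (CommRingCat.ofHom (algebraMap k (CoR k r d)))

/-- The point of a form. -/
abbrev ptH (H : LefPen.Form r k d) : Spec (CommRingCat.of k) ⟶ Spec (CommRingCat.of (CoR k r d)) :=
  Spec.map (CommRingCat.ofHom (MvPolynomial.eval (co H)))

omit [IsAlgClosed k] in
theorem ptH_pB (H : LefPen.Form r k d) : ptH H ≫ pB k r d = 𝟙 _ := by
  rw [ptH, pB, ← Spec.map_comp, ← CommRingCat.ofHom_comp]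
  have : (MvPolynomial.eval (co H)).comp (algebraMap k (CoR k r d)) = RingHom.id k := by ext c; simp
  rw [this]
  exact Spec.map_id _

/-- The section over a form. -/
abbrev secH (H : LefPen.Form r k d) : X ⟶ pullback (str i) (pB k r d) :=
  pullback.lift (𝟙 X) (str i ≫ ptH H) (by rw [Category.assoc, ptH_pB, Category.comp_id, Category.id_comp])

include n

theorem isZOpen_good (hd : 1 ≤ d) :
    LefPen.IsZOpen k {H : LefPen.Form r k d | ∀ x : X, IsClosed ({x} : Set X) → ¬ Bad i H x} := by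
  classical
  haveI : Smooth (str i) := SmoothOfRelativeDimension.smooth n (str i)
  haveI : IsProper (CohB1.ProjSpace.toSpec r k) := ProjMor.isProper_toSpec r k
  haveI : IsProper (str i) := inferInstance
  let P := pullback (str i) (pB k r d)
  let p₁ : P ⟶ X := pullback.fst (str i) (pB k r d)
  let p₂ : P ⟶ Spec (CommRingCat.of (CoR k r d)) := pullback.snd (str i) (pB k r d)
  -- the universal condition
  let cst : ∀ W : P.Opens, CoR k r d →+* Γ(P, W) := fun W =>
    ((Scheme.ΓSpecIso (CommRingCat.of (CoR k r d))).inv ≫ p₂.appLE ⊤ W le_top).hom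
  let u : ∀ (F : Frame i n d) (o : Option (Fin n)), Γ(P, p₁ ⁻¹ᵁ F.V.1) := fun F o =>
    ∑ c, (p₁.app F.V.1).hom (F.Φ o (bF r k d c)) * cst _ (MvPolynomial.X c)
  let W : P.Opens := ⨆ F : Frame i n d, ⨆ o : Option (Fin n), P.basicOpen (u F o)
  have hsec : ∀ (H : LefPen.Form r k d) (F : Frame i n d) (o : Option (Fin n)) (e : F.V.1 ≤ secH i H ⁻¹ᵁ (p₁ ⁻¹ᵁ F.V.1)),
      ((secH i H).appLE (p₁ ⁻¹ᵁ F.V.1) F.V.1 e).hom (u F o) = F.Φ o H := by
    intro H F o e
    have h1 : ∀ a, ((secH i H).appLE (p₁ ⁻¹ᵁ F.V.1) F.V.1 e).hom ((p₁.app F.V.1).hom a) = a := fun a => by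
      show (p₁.app F.V.1 ≫ (secH i H).appLE (p₁ ⁻¹ᵁ F.V.1) F.V.1 e) a = a
      rw [← Scheme.Hom.appLE_eq_app, Scheme.Hom.appLE_comp_appLE]
      have key : ∀ (g : X ⟶ X) (e' : F.V.1 ≤ g ⁻¹ᵁ F.V.1), g = 𝟙 X → g.appLE F.V.1 F.V.1 e' = 𝟙 _ := by
        rintro g e' rfl
        simp [Scheme.Hom.appLE]
        exact X.presheaf.map_id _
      rw [key _ _ (pullback.lift_fst _ _ _)]
      rfl
    have h2 : ∀ p : CoR k r d, ((secH i H).appLE (p₁ ⁻¹ᵁ F.V.1) F.V.1 e).hom (cst _ p) =
        secStr (str i) F.V.1 (MvPolynomial.eval (co H) p) := fun p => by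
      show ((Scheme.ΓSpecIso (CommRingCat.of (CoR k r d))).inv ≫ p₂.appLE ⊤ _ le_top ≫
        (secH i H).appLE (p₁ ⁻¹ᵁ F.V.1) F.V.1 e) p = _
      rw [Scheme.Hom.appLE_comp_appLE]
      have hp : secH i H ≫ p₂ = str i ≫ ptH H := pullback.lift_snd _ _ _
      have key : ∀ (g : X ⟶ Spec (CommRingCat.of (CoR k r d))) (e' : F.V.1 ≤ g ⁻¹ᵁ ⊤), g = str i ≫ ptH H →
          g.appLE ⊤ F.V.1 e' = (ptH H).appTop ≫ (str i).appLE ⊤ F.V.1 le_top := by
        rintro g e' rfl
        exact (Scheme.Hom.appLE_comp_appLE (str i) (ptH H) ⊤ ⊤ F.V.1 le_top le_top).symm.trans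
          (by rw [Scheme.Hom.appTop, ← Scheme.Hom.appLE_eq_app]; rfl)
      rw [key _ _ hp, ← Category.assoc, ← Scheme.ΓSpecIso_inv_naturality]
      rfl
    simp only [u, map_sum, map_mul, h1, h2, MvPolynomial.eval_X]
    have hsum : ∀ (s : Finset (Fin (Module.finrank k (LefPen.Form r k d)))),
        F.Φ o (∑ c ∈ s, co H c • bF r k d c) = ∑ c ∈ s, F.Φ o (bF r k d c) * secStr (str i) F.V.1 (co H c) := by
      intro s
      induction s using Finset.induction with
      | empty =>
        simp only [Finset.sum_empty]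
        simpa using F.map_add o 0 0
      | insert a s ha ih => rw [Finset.sum_insert ha, Finset.sum_insert ha, F.map_add, F.map_smul, ih, mul_comm]
    rw [← hsum, sum_co]
  -- the trace of `W` on the section of a form
  have hmem : ∀ (H : LefPen.Form r k d) (x : X) (hx : IsClosed ({x} : Set X)), secH i H x ∈ W ↔ ¬ Bad i H x := by
    intro H x hx
    have hfst : ∀ y : X, p₁ (secH i H y) = y := fun y =>
      congr($(pullback.lift_fst (𝟙 X) (str i ≫ ptH H) _) y)
    have hiff : ∀ (F : Frame i n d) (o : Option (Fin n)) (hxV : x ∈ F.V.1),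
        secH i H x ∈ P.basicOpen (u F o) ↔ ev (str i) hx hxV (F.Φ o H) ≠ 0 := by
      intro F o hxV
      have e : F.V.1 ≤ secH i H ⁻¹ᵁ (p₁ ⁻¹ᵁ F.V.1) := fun y hy => by
        show p₁ (secH i H y) ∈ F.V.1
        rwa [hfst]
      rw [ev_ne_zero_iff, ← hsec H F o e]
      show _ ↔ x ∈ X.basicOpen (X.presheaf.map (homOfLE e).op ((secH i H).app _ (u F o)))
      rw [Scheme.basicOpen_res, ← Scheme.preimage_basicOpen]
      exact ⟨fun h => ⟨hxV, h⟩, fun h => h.2⟩
    constructor
    · intro hW hB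
      simp only [W, Opens.mem_iSup] at hW
      obtain ⟨F, o, h⟩ := hW
      have hxV : x ∈ F.V.1 := by
        have := P.basicOpen_le (u F o) h
        rwa [show secH i H x ∈ p₁ ⁻¹ᵁ F.V.1 ↔ p₁ (secH i H x) ∈ F.V.1 from Iff.rfl, hfst] at this
      exact (hiff F o hxV).1 h ((F.bad x hx hxV H).1 hB o)
    · intro hB
      obtain ⟨F, hxV⟩ := exists_frame (n := n) (d := d) i hd hx
      obtain ⟨o, ho⟩ : ∃ o, ev (str i) hx hxV (F.Φ o H) ≠ 0 := by
        by_contra hc
        push Not at hc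
        exact hB ((F.bad x hx hxV H).2 hc)
      simp only [W, Opens.mem_iSup]
      exact ⟨F, o, (hiff F o hxV).2 ho⟩
  -- the section of a form is its fibre
  let pt : LefPen.Form r k d → (Spec (CommRingCat.of (CoR k r d)) : Scheme.{u}) := fun H =>
    ptH H (IsLocalRing.closedPoint k)
  have hsnd : ∀ (H : LefPen.Form r k d) (x : X), p₂ (secH i H x) = pt H := fun H x => by
    have h := congr($(pullback.lift_snd (𝟙 X) (str i ≫ ptH H)
      (by rw [Category.assoc, ptH_pB, Category.comp_id, Category.id_comp])) x)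
    refine h.trans (congrArg (ptH H) ?_)
    exact Subsingleton.elim (α := PrimeSpectrum k) _ _
  have hfib : ∀ (H : LefPen.Form r k d) (z : P), p₂ z = pt H → ∃ x, secH i H x = z := by
    intro H z hz
    have hsq : IsPullback (secH i H) (str i) p₂ (ptH H) := by
      refine IsPullback.of_right ?_ (pullback.lift_snd _ _ _) (IsPullback.of_hasPullback (str i) (pB k r d)).flip.flip
      rw [show secH i H ≫ p₁ = 𝟙 X from pullback.lift_fst _ _ _, ptH_pB]
      exact IsPullback.of_horiz_isIso ⟨by rw [Category.id_comp, Category.comp_id]⟩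
    obtain ⟨w, hw, -⟩ := Scheme.Pullback.exists_preimage_pullback (f := p₂) (g := ptH H) z
      (IsLocalRing.closedPoint k) hz
    refine ⟨hsq.isoPullback.inv w, ?_⟩
    rw [← hw]
    exact congr($(hsq.isoPullback_inv_fst) w)
  haveI : JacobsonSpace X := LocallyOfFiniteType.jacobsonSpace (str i)
  have hgood : ∀ H : LefPen.Form r k d,
      (∀ x : X, IsClosed ({x} : Set X) → ¬ Bad i H x) ↔ pt H ∉ p₂ '' (W : Set P)ᶜ := by
    intro H
    constructor
    · rintro hgd ⟨z, hzW, hz⟩
      obtain ⟨x, rfl⟩ := hfib H z hz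
      by_contra
      have hne : ((secH i H ⁻¹ᵁ W : X.Opens) : Set X)ᶜ.Nonempty := ⟨x, hzW⟩
      obtain ⟨y, hy, hyc⟩ := nonempty_inter_closedPoints hne
        ((secH i H ⁻¹ᵁ W).isOpen.isClosed_compl.isLocallyClosed)
      exact hy ((hmem H y hyc).2 (hgd y hyc))
    · intro hno x hx hB
      refine hno ⟨secH i H x, fun hW => (hmem H x hx).1 hW hB, hsnd H x⟩
  intro H hH
  have hcl : IsClosed (p₂ '' (W : Set P)ᶜ) := p₂.isClosedMap _ W.isOpen.isClosed_compl
  obtain ⟨_, ⟨f, rfl⟩, hHf, hsub⟩ := PrimeSpectrum.isTopologicalBasis_basic_opens.exists_subset_of_mem_open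
    (show pt H ∈ (p₂ '' (W : Set P)ᶜ)ᶜ from (hgood H).1 hH) hcl.isOpen_compl
  have hpt : ∀ (G : LefPen.Form r k d), pt G ∈ PrimeSpectrum.basicOpen f ↔ MvPolynomial.eval (co G) f ≠ 0 := by
    intro G
    show f ∉ (IsLocalRing.closedPoint k).asIdeal.comap (MvPolynomial.eval (co G)) ↔ _
    rw [Ideal.mem_comap]
    show (¬ MvPolynomial.eval (co G) f ∈ IsLocalRing.maximalIdeal k) ↔ _
    rw [IsLocalRing.maximalIdeal_eq_bot, Ideal.mem_bot]
  exact ⟨fun G => MvPolynomial.eval (co G) f, isPolyFun_co f, (hpt H).1 hHf,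
    fun G hG => (hgood G).2 (hsub ((hpt G).2 hG))⟩

end Groth.Agent.DualVar
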