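import Groth.Agent.DualVar.Incid

/-!
# Transversality of the intersection with two hypersurfaces
-/

set_option autoImplicit false
set_option linter.style.haveILetI false
set_option linter.unusedSectionVars false
set_option backward.isDefEq.respectTransparency false
set_option backward.isDefEq.respectTransparency.types false

universe u

open CategoryTheory CategoryTheory.Limits AlgebraicGeometry TopologicalSpace Opposite IsLocalRing
open Groth.Agent.WeilLib (secStr)

noncomputable section

namespace Groth.Agent.DualVar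

section Local

variable {R : Type u} [CommRing R] [IsRegularLocalRing R]

/-- A regular quotient by an ideal inside the square of the maximal ideal keeps the dimension. -/
theorem le_dim_quot_le_sq {J : Ideal R} (hJ : J ≤ maximalIdeal R ^ 2) {n m : ℕ} (hn : ringKrullDim R = n)
    [IsRegularLocalRing (R ⧸ J)] (hm : ringKrullDim (R ⧸ J) = m) : n ≤ m := by
  classical
  obtain ⟨s, hcard, hspan⟩ := Submodule.FG.exists_span_finset_card_eq_spanFinrank
    (IsNoetherian.noetherian (maximalIdeal (R ⧸ J)))
  choose l hl using fun v : R ⧸ J => Ideal.Quotient.mk_surjective v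
  let T : Ideal R := Ideal.span ((s.image l : Finset R) : Set R)
  have hT : T.map (Ideal.Quotient.mk J) = maximalIdeal _ := by
    rw [Ideal.map_span, Finset.coe_image, Set.image_image]
    simp only [hl, Set.image_id']
    exact hspan
  have hc : maximalIdeal R = T ⊔ J := by
    haveI : (Ideal.comap (Ideal.Quotient.mk J) (maximalIdeal _)).IsMaximal :=
      Ideal.comap_isMaximal_of_surjective _ Ideal.Quotient.mk_surjective
    rw [← IsLocalRing.eq_maximalIdeal (I := Ideal.comap (Ideal.Quotient.mk J) (maximalIdeal _))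
      inferInstance, ← hT, Ideal.comap_map_of_surjective _ Ideal.Quotient.mk_surjective, ← RingHom.ker_eq_comap_bot,
      Ideal.mk_ker]
  have hle : maximalIdeal R ≤ T := by
    refine Submodule.le_of_le_smul_of_le_jacobson_bot (I := maximalIdeal R) (IsNoetherian.noetherian _)
      (IsLocalRing.maximalIdeal_le_jacobson ⊥) ?_
    refine hc.le.trans (sup_le_sup_left ?_ T)
    rw [smul_eq_mul, ← sq]
    exact hJ
  have heq : maximalIdeal R = T := le_antisymm hle (hc ▸ le_sup_left)
  have h1 : (maximalIdeal R).spanFinrank ≤ s.card := by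
    rw [heq]
    refine (Submodule.spanFinrank_span_le_ncard_of_finite (Finset.finite_toSet _)).trans ?_
    rw [Set.ncard_coe_finset]
    exact Finset.card_image_le
  have h2 := IsRegularLocalRing.spanFinrank_maximalIdeal (R := R)
  have h3 := IsRegularLocalRing.spanFinrank_maximalIdeal (R := R ⧸ J)
  rw [hn] at h2
  rw [hm] at h3
  have h2' : (maximalIdeal R).spanFinrank = n := by exact_mod_cast h2
  have h3' : (maximalIdeal (R ⧸ J)).spanFinrank = m := by exact_mod_cast h3
  omega

/-- Quotient by a part of a system of parameters. -/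
theorem quot_one {x : R} (hx : x ∈ maximalIdeal R) (hx2 : x ∉ maximalIdeal R ^ 2) {n : ℕ} (hn : ringKrullDim R = n) :
    IsRegularLocalRing (R ⧸ Ideal.span {x}) ∧ ∃ m : ℕ, ringKrullDim (R ⧸ Ideal.span {x}) = m ∧ m + 1 = n := by
  obtain ⟨hq, hreg⟩ := SerreReg.isRegularLocalRing_quot hx hx2
  have h1 := ringKrullDim_quotient_span_singleton_succ_eq_ringKrullDim hreg hx
  rw [hn, ← IsRegularLocalRing.spanFinrank_maximalIdeal (R := R ⧸ Ideal.span {x})] at h1
  exact ⟨hq, _, (IsRegularLocalRing.spanFinrank_maximalIdeal (R := R ⧸ Ideal.span {x})).symm, by exact_mod_cast h1⟩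

variable {k : Type u} [Field k] [Algebra k R]

theorem quot_pair (hres : Function.Surjective ((residue R).comp (algebraMap k R))) {f g : R} (hf : f ∈ maximalIdeal R)
    (hg : g ∈ maximalIdeal R) {n : ℕ} (hn : ringKrullDim R = n)
    (hind : ∀ a b : k, algebraMap k R a * f + algebraMap k R b * g ∈ maximalIdeal R ^ 2 → a = 0 ∧ b = 0) :
    IsRegularLocalRing (R ⧸ Ideal.span {f, g}) ∧
      ∃ m : ℕ, ringKrullDim (R ⧸ Ideal.span {f, g}) = m ∧ m + 2 = n := by
  have hf2 : f ∉ maximalIdeal R ^ 2 := fun h => one_ne_zero (α := k) (hind 1 0 (by simpa using h)).1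
  obtain ⟨hq, m, hm, hmn⟩ := quot_one hf hf2 hn
  haveI := hq
  let p := Ideal.Quotient.mk (Ideal.span {f})
  have hpm : (maximalIdeal R).map p = maximalIdeal _ := by
    haveI : IsLocalHom p := IsLocalHom.of_surjective _ Ideal.Quotient.mk_surjective
    exact SyntLib.map_maximalIdeal_of_surjective p Ideal.Quotient.mk_surjective
  have hgq : p g ∈ maximalIdeal _ := hpm ▸ Ideal.mem_map_of_mem p hg
  have hgq2 : p g ∉ maximalIdeal _ ^ 2 := by
    intro h
    rw [← hpm, ← Ideal.map_pow, ← Ideal.mem_comap, Ideal.comap_map_of_surjective p Ideal.Quotient.mk_surjective,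
      ← RingHom.ker_eq_comap_bot, Ideal.mk_ker, Submodule.mem_sup] at h
    obtain ⟨t, ht, c', hc', hsum⟩ := h
    obtain ⟨c, rfl⟩ := Ideal.mem_span_singleton'.1 hc'
    obtain ⟨c₀, hc₀⟩ := hres (residue R c)
    rw [RingHom.comp_apply] at hc₀
    have hd : c - algebraMap k R c₀ ∈ maximalIdeal R := by rw [← residue_eq_zero_iff, map_sub, hc₀, sub_self]
    have h2 : algebraMap k R (-c₀) * f + algebraMap k R 1 * g ∈ maximalIdeal R ^ 2 := by
      have e : algebraMap k R (-c₀) * f + algebraMap k R 1 * g = t + (c - algebraMap k R c₀) * f := by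
        rw [← hsum, map_one, map_neg]; ring
      rw [e, sq]
      exact add_mem (sq (maximalIdeal R) ▸ ht) (Ideal.mul_mem_mul hd hf)
    exact one_ne_zero (α := k) (hind _ _ h2).2
  obtain ⟨hq2, m2, hm2, hm2n⟩ := quot_one hgq hgq2 hm
  have e : (R ⧸ Ideal.span {f}) ⧸ Ideal.span {p g} ≃+* R ⧸ Ideal.span {f, g} :=
    (Ideal.quotEquivOfEq (by rw [Ideal.map_span, Set.image_singleton])).trans
      ((DoubleQuot.quotQuotEquivQuotSup (Ideal.span {f}) (Ideal.span {g})).trans
        (Ideal.quotEquivOfEq (Ideal.span_insert f {g}).symm))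
  haveI := hq2
  exact ⟨IsRegularLocalRing.of_ringEquiv e, m2, (ringKrullDim_eq_of_ringEquiv e).symm.trans hm2, by omega⟩

theorem not_quot_pair {f g : R} (hf : f ∈ maximalIdeal R) (hg : g ∈ maximalIdeal R) {n : ℕ} (hn : ringKrullDim R = n)
    {a b : k} (hab : a ≠ 0 ∨ b ≠ 0) (h : algebraMap k R a * f + algebraMap k R b * g ∈ maximalIdeal R ^ 2)
    [IsRegularLocalRing (R ⧸ Ideal.span {f, g})] {m : ℕ} (hm : ringKrullDim (R ⧸ Ideal.span {f, g}) = m) :
    n ≤ m + 1 := by
  wlog ha : a ≠ 0 generalizing f g a b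
  · have hb := hab.resolve_left ha
    haveI hreg' : IsRegularLocalRing (R ⧸ Ideal.span {g, f}) :=
      IsRegularLocalRing.of_ringEquiv (Ideal.quotEquivOfEq (congrArg Ideal.span (Set.pair_comm f g)))
    exact this hg hf (hab.symm) (by rwa [add_comm]) ((ringKrullDim_eq_of_ringEquiv
      (Ideal.quotEquivOfEq (congrArg Ideal.span (Set.pair_comm g f)))).trans hm) hb
  have hspan : Ideal.span {f, g} = Ideal.span {g, algebraMap k R a * f + algebraMap k R b * g} := by
    refine le_antisymm (Ideal.span_le.2 ?_) (Ideal.span_le.2 ?_)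
    · rintro x (rfl | rfl)
      · refine Ideal.mem_span_pair.2 ⟨-(algebraMap k R a⁻¹ * algebraMap k R b), algebraMap k R a⁻¹, ?_⟩
        have hu : algebraMap k R a⁻¹ * algebraMap k R a = 1 := by rw [← map_mul, inv_mul_cancel₀ ha, map_one]
        linear_combination x * hu
      · exact Ideal.subset_span (Or.inl rfl)
    · rintro x (rfl | rfl)
      · exact Ideal.subset_span (Or.inr rfl)
      · exact Ideal.mem_span_pair.2 ⟨_, _, rfl⟩
  by_cases hg2 : g ∈ maximalIdeal R ^ 2
  · have hle : Ideal.span {f, g} ≤ maximalIdeal R ^ 2 := by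
      rw [hspan, Ideal.span_le]
      rintro x (rfl | rfl)
      · exact hg2
      · exact h
    have := le_dim_quot_le_sq hle hn hm
    omega
  · obtain ⟨hq, m1, hm1, hm1n⟩ := quot_one hg hg2 hn
    haveI := hq
    let p := Ideal.Quotient.mk (Ideal.span {g})
    let hh := algebraMap k R a * f + algebraMap k R b * g
    have hp2 : Ideal.span {p hh} ≤ maximalIdeal _ ^ 2 := by
      haveI : IsLocalHom p := IsLocalHom.of_surjective _ Ideal.Quotient.mk_surjective
      rw [Ideal.span_singleton_le_iff_mem, ← SyntLib.map_maximalIdeal_of_surjective p Ideal.Quotient.mk_surjective,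
        ← Ideal.map_pow]
      exact Ideal.mem_map_of_mem p h
    have e : (R ⧸ Ideal.span {g}) ⧸ Ideal.span {p hh} ≃+* R ⧸ Ideal.span {f, g} :=
      (Ideal.quotEquivOfEq (by rw [Ideal.map_span, Set.image_singleton])).trans
        ((DoubleQuot.quotQuotEquivQuotSup (Ideal.span {g}) (Ideal.span {hh})).trans
          (Ideal.quotEquivOfEq ((Ideal.span_insert g {hh}).symm.trans hspan.symm)))
    haveI : IsRegularLocalRing ((R ⧸ Ideal.span {g}) ⧸ Ideal.span {p hh}) := IsRegularLocalRing.of_ringEquiv e.symm
    have := le_dim_quot_le_sq hp2 hm1 ((ringKrullDim_eq_of_ringEquiv e).trans hm)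
    omega

end Local

variable {k : Type u} [Field k] [IsAlgClosed k] {r d n : ℕ} {X : Scheme.{u}} (i : X ⟶ CohB1.ProjSpace r k)

/-- The intersection with two hypersurfaces is not transversal at a point. -/
def Bad2 (F G : LefPen.Form r k d) (x : X) : Prop :=
  x ∈ (LefPen.secIdeal i ({F} : Set (LefPen.Form r k d))).support ∧
    x ∈ (LefPen.secIdeal i ({G} : Set (LefPen.Form r k d))).support ∧
      ∃ a b : k, (a ≠ 0 ∨ b ≠ 0) ∧ Bad i (a • F + b • G) x

theorem secIdeal_pair (F G : LefPen.Form r k d) :
    LefPen.secIdeal i ({F, G} : Set (LefPen.Form r k d)) =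
      LefPen.secIdeal i ({F} : Set (LefPen.Form r k d)) ⊔ LefPen.secIdeal i ({G} : Set (LefPen.Form r k d)) := by
  rw [secIdeal_singleton, secIdeal_singleton, LefPen.secIdeal, iSup_pair, Scheme.IdealSheafData.comap_sup]

variable {i} [IsClosedImmersion i] [SmoothOfRelativeDimension n (str i)]

theorem mem_support_iff (C : Ch i n) [LocallyOfFiniteType (str i)] (H : LefPen.Form r k d) {x : X}
    (hx : IsClosed ({x} : Set X)) (hxV : x ∈ C.V.1) :
    x ∈ (LefPen.secIdeal i ({H} : Set (LefPen.Form r k d))).support ↔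
      ev (str i) hx hxV (hmap i C.l C.V.1 C.hV H) = 0 := by
  rw [Scheme.IdealSheafData.mem_support_iff_of_mem (U := C.V) hxV, secIdeal_ideal i H C.l C.V C.hV,
    Scheme.zeroLocus_span, Scheme.mem_zeroLocus_iff]
  constructor
  · intro h
    by_contra hne
    exact h _ rfl ((ev_ne_zero_iff (str i) hx hxV _).1 hne)
  · intro h a ha hmem
    rw [Set.mem_singleton_iff.1 ha] at hmem
    exact (ev_ne_zero_iff (str i) hx hxV _).2 hmem h

include n

/-- Transversality of a base locus. -/
theorem transversal2_iff (hn : 1 ≤ n) (F G : LefPen.Form r k d) :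
    LefPen.Transversal k n 2 (LefPen.secToSpec i ({F, G} : Set (LefPen.Form r k d))) ↔
      ∀ x : X, IsClosed ({x} : Set X) → ¬ Bad2 i F G x := by
  classical
  haveI : Smooth (str i) := SmoothOfRelativeDimension.smooth n (str i)
  haveI : LocallyOfFiniteType (str i) := inferInstance
  let I := LefPen.secIdeal i ({F, G} : Set (LefPen.Form r k d))
  haveI : JacobsonSpace I.subscheme := LocallyOfFiniteType.jacobsonSpace (I.subschemeι ≫ str i)
  have hmemI : ∀ (C : Ch i n) (x : X) (hx : IsClosed ({x} : Set X)) (hxV : x ∈ C.V.1), x ∈ I.support ↔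
      x ∈ (LefPen.secIdeal i ({F} : Set (LefPen.Form r k d))).support ∧
        x ∈ (LefPen.secIdeal i ({G} : Set (LefPen.Form r k d))).support := by
    intro C x hx hxV
    rw [Scheme.IdealSheafData.mem_support_iff_of_mem (U := C.V) hxV,
      Scheme.IdealSheafData.mem_support_iff_of_mem (U := C.V) hxV,
      Scheme.IdealSheafData.mem_support_iff_of_mem (U := C.V) hxV]
    show x ∈ X.zeroLocus (U := C.V.1) (I.ideal C.V : Set Γ(X, C.V.1)) ↔ _
    rw [show I.ideal C.V = _ from congrFun (congrArg Scheme.IdealSheafData.ideal (secIdeal_pair i F G)) C.V,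
      Scheme.IdealSheafData.ideal_sup]
    show x ∈ X.zeroLocus (U := C.V.1)
      (((LefPen.secIdeal i {F}).ideal C.V ⊔ (LefPen.secIdeal i {G}).ideal C.V : Ideal _) : Set _) ↔ _
    simp only [secIdeal_ideal i _ C.l C.V C.hV, ← Ideal.span_union, Scheme.zeroLocus_span, Scheme.mem_zeroLocus_iff,
      Set.singleton_union, Set.mem_insert_iff, Set.mem_singleton_iff, forall_eq_or_imp, forall_eq]
  -- local computation at a closed point of the intersection
  have hloc : ∀ (z : I.subscheme), IsClosed ({z} : Set I.subscheme) →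
      (Bad2 i F G (I.subschemeι z) → ∀ m : ℕ, IsRegularLocalRing (I.subscheme.presheaf.stalk z) →
        ringKrullDim (I.subscheme.presheaf.stalk z) = m → n ≤ m + 1) ∧
      (¬ Bad2 i F G (I.subschemeι z) → IsRegularLocalRing (I.subscheme.presheaf.stalk z) ∧
        ∃ m : ℕ, ringKrullDim (I.subscheme.presheaf.stalk z) = m ∧ m + 2 = n) := by
    intro z hz
    have hx : IsClosed ({I.subschemeι z} : Set X) := by
      have := I.subschemeι.isClosedEmbedding.isClosedMap _ hz
      rwa [Set.image_singleton] at this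
    obtain ⟨C, hV⟩ := exists_ch (n := n) (i := i) hx
    let g : Γ(X, C.V.1) →+* X.presheaf.stalk (I.subschemeι z) := (X.presheaf.germ C.V.1 _ hV).hom
    letI : Algebra k (X.presheaf.stalk (I.subschemeι z)) := (g.comp (secStr (str i) C.V.1)).toAlgebra
    haveI : IsRegularLocalRing (X.presheaf.stalk (I.subschemeι z)) :=
      SmLocalST.isRegularLocalRing_stalk_of_smooth_field (str i) _
    let f₁ := g (hmap i C.l C.V.1 C.hV F)
    let f₂ := g (hmap i C.l C.V.1 C.hV G)
    have hker : RingHom.ker (I.subschemeι.stalkMap z).hom = Ideal.span {f₁, f₂} := by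
      rw [CMFlat.ker_stalkMap_eq _ z C.V hV, ← Scheme.Hom.ker_apply, Scheme.IdealSheafData.ker_subschemeι,
        show I.ideal C.V = _ from congrFun (congrArg Scheme.IdealSheafData.ideal (secIdeal_pair i F G)) C.V,
        Scheme.IdealSheafData.ideal_sup]
      show Ideal.map _ ((LefPen.secIdeal i {F}).ideal C.V ⊔ (LefPen.secIdeal i {G}).ideal C.V) = _
      rw [secIdeal_ideal i F C.l C.V C.hV, secIdeal_ideal i G C.l C.V C.hV, Ideal.map_sup, Ideal.map_span,
        Ideal.map_span, Set.image_singleton, Set.image_singleton, ← Ideal.span_union, Set.singleton_union]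
    let e := (Ideal.quotEquivOfEq hker.symm).trans
      (RingHom.quotientKerEquivOfSurjective (I.subschemeι.stalkMap_surjective z))
    have hm : ∀ t ∈ ({f₁, f₂} : Set _), t ∈ maximalIdeal (X.presheaf.stalk (I.subschemeι z)) := fun t ht =>
      le_maximalIdeal (RingHom.ker_ne_top _) (hker.ge (Ideal.subset_span ht))
    have hcomb : ∀ a b : k, algebraMap k _ a * f₁ + algebraMap k _ b * f₂ ∈ maximalIdeal _ ^ 2 ↔
        Bad i (a • F + b • G) (I.subschemeι z) := by
      intro a b
      rw [(C.bad_iff hx hV (a • F + b • G)).2.1]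
      rw [hmap_add, hmap_smul, hmap_smul, map_add, map_mul, map_mul]
      rfl
    have hsupp := (hmemI C _ hx hV).1 (by
      show I.subschemeι z ∈ I.support
      rw [← SetLike.mem_coe, ← I.range_subschemeι]
      exact Set.mem_range_self z)
    have hdim := dim_stalk_closed (str i) n hx
    refine ⟨fun hB m hreg hdm => ?_, fun hB => ?_⟩
    · obtain ⟨-, -, a, b, hab, hbad⟩ := hB
      haveI := IsRegularLocalRing.of_ringEquiv e.symm
      exact not_quot_pair (hm _ (Or.inl rfl)) (hm _ (Or.inr rfl)) hdim hab ((hcomb a b).2 hbad)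
        ((ringKrullDim_eq_of_ringEquiv e).trans hdm)
    · have hres : Function.Surjective ((residue (X.presheaf.stalk (I.subschemeι z))).comp
          (algebraMap k (X.presheaf.stalk (I.subschemeι z)))) := by
        intro w
        obtain ⟨c, hc⟩ := SmDiff.residue_baseToStalk_surjective (str i) hx w
        refine ⟨c, ?_⟩
        rw [← hc]
        show residue _ (g (secStr (str i) C.V.1 c)) = residue _ ((SmDiff.baseToStalk (str i) _).hom c)
        congr 1
        rw [← toStalk_eq (str i) hV c]
        show (X.presheaf.germ ⊤ _ trivial).hom (Coh.toGlobal (str i) c) =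
          ((str i).stalkMap _).hom ((StructureSheaf.toStalk k _).hom c)
        refine Eq.trans ?_ ((Scheme.Hom.germ_stalkMap_apply (str i) ⊤ _ trivial
          ((Scheme.ΓSpecIso (CommRingCat.of k)).inv c)).symm.trans rfl)
        rfl
      obtain ⟨hq, m, hdm, hmn⟩ := quot_pair hres (hm _ (Or.inl rfl)) (hm _ (Or.inr rfl)) hdim (fun a b hab => by
        by_contra hne
        exact hB ⟨hsupp.1, hsupp.2, a, b, not_and_or.1 hne, (hcomb a b).1 hab⟩)
      exact ⟨IsRegularLocalRing.of_ringEquiv e, m, (ringKrullDim_eq_of_ringEquiv e).symm.trans hdm, hmn⟩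
  have hpt : ∀ x : X, IsClosed ({x} : Set X) → Bad2 i F G x →
      ∃ z : I.subscheme, I.subschemeι z = x ∧ IsClosed ({z} : Set I.subscheme) := by
    intro x hx hB
    obtain ⟨C, hV⟩ := exists_ch (n := n) (i := i) hx
    obtain ⟨z, rfl⟩ : x ∈ Set.range I.subschemeι := by
      rw [Scheme.IdealSheafData.range_subschemeι]
      exact (hmemI C x hx hV).2 ⟨hB.1, hB.2.1⟩
    refine ⟨z, rfl, ?_⟩
    have := hx.preimage I.subschemeι.continuous
    rwa [← Set.image_singleton, Set.preimage_image_eq _ I.subschemeι.isClosedEmbedding.injective] at this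
  have hclz : ∀ {z : I.subscheme}, IsClosed ({z} : Set I.subscheme) → IsClosed ({I.subschemeι z} : Set X) := by
    intro z hz
    have := I.subschemeι.isClosedEmbedding.isClosedMap _ hz
    rwa [Set.image_singleton] at this
  constructor
  · intro hT x hx hB
    obtain ⟨z, rfl, hz⟩ := hpt x hx hB
    rcases hT with ⟨h2, hs⟩ | ⟨-, hemp⟩
    · haveI : SmoothOfRelativeDimension (n - 2) (I.subschemeι ≫ str i) := hs
      haveI : Smooth (I.subschemeι ≫ str i) := SmoothOfRelativeDimension.smooth (n - 2) _
      have := (hloc z hz).1 hB (n - 2) (SmLocalST.isRegularLocalRing_stalk_of_smooth_field (I.subschemeι ≫ str i) z)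
        (dim_stalk_closed (I.subschemeι ≫ str i) (n - 2) hz)
      omega
    · exact hemp.elim z
  · intro hgood
    by_cases h2 : 2 ≤ n
    · refine Or.inl ⟨h2, smoothOfRelativeDimension_of_regular (I.subschemeι ≫ str i) (n - 2) fun z hz => ?_⟩
      obtain ⟨hreg, m, hm, hmn⟩ := (hloc z hz).2 (hgood _ (hclz hz))
      exact ⟨hreg, by rw [hm, show m = n - 2 by omega]⟩
    · refine Or.inr ⟨by omega, ⟨fun z => ?_⟩⟩
      obtain ⟨y, -, hy⟩ := nonempty_inter_closedPoints (Z := (Set.univ : Set I.subscheme)) ⟨z, trivial⟩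
        isClosed_univ.isLocallyClosed
      obtain ⟨-, m, -, hmn⟩ := (hloc y hy).2 (hgood _ (hclz hy))
      omega

end Groth.Agent.DualVar
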