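import Groth.Agent.DualVar.Limit
import Groth.Agent.DualVar.AlgDep

/-!
# A parametrisation of the forms singular at the points of a chart, and its tangent vectors
-/

set_option autoImplicit false
set_option linter.style.haveILetI false
set_option linter.unusedSectionVars false
set_option maxHeartbeats 800000

universe u

noncomputable section

namespace Groth.Agent.DualVar

open MvPolynomial
open scoped DualNumber

variable {k A : Type u} [Field k] [CommRing A] [Algebra k A] {n N m : ℕ}

/-- A first order deformation of a point. -/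
def theta {K : Type u} [Field K] [Algebra k K] (ρ : A →ₐ[k] K) (D : A →ₗ[k] K)
    (hD : ∀ a c, D (a * c) = ρ a * D c + D a * ρ c) (t w : Fin m → K) : MvPolynomial (Fin m) A →ₐ[k] K[ε] :=
  let g : A →ₐ[k] K[ε] :=
    { toFun := fun a => TrivSqZeroExt.inl (ρ a) + TrivSqZeroExt.inr (D a)
      map_one' := by
        have h1 : D 1 = 0 := by
          have := hD 1 1
          simp at this
          exact this
        simp [h1]
      map_mul' := fun a c => TrivSqZeroExt.ext (by simp) (by simp [hD, DualNumber.snd_mul])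
      map_zero' := by simp
      map_add' := fun a c => TrivSqZeroExt.ext (by simp) (by simp)
      commutes' := fun c => by
        have h1 : D (algebraMap k A c) = 0 := by
          have := hD 1 1
          simp at this
          rw [Algebra.algebraMap_eq_smul_one, map_smul, this, smul_zero]
        simp [h1, TrivSqZeroExt.algebraMap_eq_inl'] }
  { eval₂Hom g.toRingHom fun q => TrivSqZeroExt.inl (t q) + TrivSqZeroExt.inr (w q) with
    commutes' := fun c => by
      show eval₂Hom g.toRingHom _ (algebraMap k (MvPolynomial (Fin m) A) c) = _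
      rw [IsScalarTower.algebraMap_apply k A (MvPolynomial (Fin m) A), algebraMap_eq, eval₂Hom_C]
      exact g.commutes c }

section Theta

variable {K : Type u} [Field K] [Algebra k K] (ρ : A →ₐ[k] K) (D : A →ₗ[k] K)
  (hD : ∀ a c, D (a * c) = ρ a * D c + D a * ρ c) (t w : Fin m → K)

theorem theta_C (a : A) :
    theta ρ D hD t w (C a) = TrivSqZeroExt.inl (ρ a) + TrivSqZeroExt.inr (D a) := eval₂Hom_C _ _ _

theorem theta_X (q : Fin m) :
    theta ρ D hD t w (X q) = TrivSqZeroExt.inl (t q) + TrivSqZeroExt.inr (w q) := eval₂Hom_X' _ _ _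

theorem fst_theta (P : MvPolynomial (Fin m) A) :
    TrivSqZeroExt.fst (theta ρ D hD t w P) = eval₂Hom ρ.toRingHom t P :=
  RingHom.congr_fun (f := (TrivSqZeroExt.fstHom K K K).toRingHom.comp (theta ρ D hD t w).toRingHom)
    (ringHom_ext (fun a => by simp [theta_C]) fun q => by simp [theta_X]) P

end Theta

variable (Φ : Option (Fin n) → Fin N → A) (E : Option (Fin n) → Fin N → k) (bW : Fin m → Fin N → k)

/-- The matrix of the conditions on the chosen vectors. -/
def pM : Matrix (Option (Fin n)) (Option (Fin n)) A := fun o p => ∑ c, algebraMap k A (E p c) * Φ o c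

local notation "B" => MvPolynomial (Fin m) A

/-- The free part. -/
def pH0 (c : Fin N) : B := ∑ q, X q * C (algebraMap k A (bW q c))

/-- The correction. -/
def pV (p : Option (Fin n)) : B :=
  ∑ o, C ((pM Φ E).adjugate p o) * ∑ c, pH0 (A := A) bW c * C (Φ o c)

/-- The parametrisation. -/
def pZ (c : Fin N) : B := C (pM Φ E).det * pH0 bW c - ∑ p, pV Φ E bW p * C (algebraMap k A (E p c))

theorem sum_pZ (o : Option (Fin n)) : ∑ c, pZ Φ E bW c * C (Φ o c) = 0 := by
  classical
  let G : Option (Fin n) → B := fun o' => ∑ c, pH0 (A := A) bW c * C (Φ o' c)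
  let M' : Matrix (Option (Fin n)) (Option (Fin n)) B := (pM Φ E).map (C (σ := Fin m))
  have hV : (fun p => pV Φ E bW p) = Matrix.mulVec ((pM Φ E).adjugate.map (C (σ := Fin m))) G := rfl
  have hM : ∀ p, ∑ c, (C (algebraMap k A (E p c)) : B) * C (Φ o c) = M' o p := fun p => by
    simp [M', pM, map_sum, map_mul]
  calc ∑ c, pZ Φ E bW c * C (Φ o c)
      = C (pM Φ E).det * G o - ∑ c, ∑ p, pV Φ E bW p * (C (algebraMap k A (E p c)) * C (Φ o c)) := by
        simp only [pZ, G, sub_mul, Finset.sum_sub_distrib, Finset.sum_mul, Finset.mul_sum, mul_assoc]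
    _ = C (pM Φ E).det * G o - Matrix.mulVec M' (fun p => pV Φ E bW p) o := by
        rw [Finset.sum_comm]
        congr 1
        simp only [Matrix.mulVec, dotProduct]
        exact Finset.sum_congr rfl fun p _ => by rw [← Finset.mul_sum, hM, mul_comm]
    _ = 0 := by
        rw [hV, Matrix.mulVec_mulVec, ← Matrix.map_mul, Matrix.mul_adjugate, sub_eq_zero]
        rw [show ((pM Φ E).det • (1 : Matrix (Option (Fin n)) (Option (Fin n)) A)).map (C (σ := Fin m)) =
          (C (pM Φ E).det : B) • (1 : Matrix (Option (Fin n)) (Option (Fin n)) B) by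
          ext a b; simp [Matrix.one_apply, apply_ite C]]
        rw [Matrix.smul_mulVec, Matrix.one_mulVec, Pi.smul_apply, smul_eq_mul]

variable {K : Type u} [Field K] [Algebra k K] (ρ : A →ₐ[k] K) (hdet : ρ (pM Φ E).det ≠ 0)
  (τ : Fin N → Fin m → k) (σ : Fin N → Option (Fin n) → k)
  (hdec : ∀ c c', (if c = c' then (1 : k) else 0) = ∑ q, τ c q * bW q c' + ∑ p, σ c p * E p c')

include hdet in
theorem eq_zero_of_span (s : Option (Fin n) → K) (δ : Fin N → K) (hs : ∀ c, δ c = ∑ p, s p * algebraMap k K (E p c))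
    (h : ∀ o, ∑ c, δ c * ρ (Φ o c) = 0) : δ = 0 := by
  classical
  have hs0 : s = 0 := by
    refine Matrix.eq_zero_of_mulVec_eq_zero (M := (pM Φ E).map ρ) (by rw [← AlgHom.mapMatrix_apply, ← AlgHom.map_det]; exact hdet)
      (funext fun o => ?_)
    rw [Pi.zero_apply, ← h o]
    simp only [hs, Matrix.mulVec, dotProduct, Matrix.map_apply, pM, map_sum, map_mul, AlgHom.commutes, Finset.sum_mul]
    rw [Finset.sum_comm]
    exact Finset.sum_congr rfl fun p _ => Finset.sum_congr rfl fun c _ => by ring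
  funext c
  simp [hs, hs0]

include hdec in
theorem decomp (δ : Fin N → K) (c' : Fin N) : δ c' = ∑ q, (∑ c, δ c * algebraMap k K (τ c q)) * algebraMap k K (bW q c') +
    ∑ p, (∑ c, δ c * algebraMap k K (σ c p)) * algebraMap k K (E p c') := by
  classical
  have h := fun c => congrArg (algebraMap k K) (hdec c c')
  simp only [map_add, map_sum, map_mul, apply_ite (algebraMap k K), map_one, map_zero] at h
  simp only [Finset.sum_mul]
  rw [Finset.sum_comm, Finset.sum_comm (γ := Option (Fin n)), ← Finset.sum_add_distrib]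
  calc δ c' = ∑ c, δ c * (if c = c' then 1 else 0) := by simp
    _ = _ := Finset.sum_congr rfl fun c _ => by
      rw [h c, mul_add, Finset.mul_sum, Finset.mul_sum]
      congr 1 <;> exact Finset.sum_congr rfl fun x _ => by ring

include hdet hdec

/-- Every solution at a point is a value of the parametrisation. -/
theorem exists_eval_pZ (H : Fin N → K) (hH : ∀ o, ∑ c, H c * ρ (Φ o c) = 0) :
    ∃ t : Fin m → K, ∀ c, eval₂Hom ρ.toRingHom t (pZ Φ E bW c) = H c := by
  let t : Fin m → K := fun q => (∑ c, H c * algebraMap k K (τ c q)) / ρ (pM Φ E).det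
  refine ⟨t, fun c' => ?_⟩
  let f := eval₂Hom ρ.toRingHom t
  have h := eq_zero_of_span Φ E ρ hdet
    (fun p => -f (pV Φ E bW p) - ∑ c, H c * algebraMap k K (σ c p)) (fun c => f (pZ Φ E bW c) - H c) (fun c => ?_)
    (fun o => ?_)
  · exact sub_eq_zero.1 (congrFun h c')
  · have hd := decomp E bW τ σ hdec H c
    have ht : ∀ q, ρ (pM Φ E).det * t q = ∑ c, H c * algebraMap k K (τ c q) := fun q => mul_div_cancel₀ _ hdet
    simp only [pZ, pH0, map_sub, map_sum, map_mul, f, eval₂Hom_C, eval₂Hom_X', AlgHom.toRingHom_eq_coe, RingHom.coe_coe,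
      AlgHom.commutes, sub_mul, Finset.sum_sub_distrib, neg_mul, Finset.sum_neg_distrib, Finset.mul_sum]
    rw [hd]
    simp only [← mul_assoc, ht]
    ring
  · have h0 := congrArg f (sum_pZ Φ E bW o)
    simp only [map_sum, map_mul, map_zero, f, eval₂Hom_C, AlgHom.toRingHom_eq_coe, RingHom.coe_coe] at h0
    simp only [sub_mul, Finset.sum_sub_distrib, hH, sub_zero]
    exact h0

/-- Tangent vectors of the parametrisation. -/
theorem exists_theta (D : A →ₗ[k] K) (hD : ∀ a c, D (a * c) = ρ a * D c + D a * ρ c) (t : Fin m → K) (δ : Fin N → K)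
    (hδ : ∀ o, ∑ c, δ c * ρ (Φ o c) + ∑ c, eval₂Hom ρ.toRingHom t (pZ Φ E bW c) * D (Φ o c) = 0) :
    ∃ w : Fin m → K, ∀ c, TrivSqZeroExt.snd (theta ρ D hD t w (pZ Φ E bW c)) = δ c := by
  let w : Fin m → K := fun q => (∑ c, δ c * algebraMap k K (τ c q) - D (pM Φ E).det * t q) / ρ (pM Φ E).det
  refine ⟨w, fun c' => ?_⟩
  let Θ := theta ρ D hD t w
  have hDk : ∀ x, D (algebraMap k A x) = 0 := fun x => by
    have h1 : D 1 = 0 := by
      have := hD 1 1
      simp at this
      exact this
    rw [Algebra.algebraMap_eq_smul_one, map_smul, h1, smul_zero]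
  have hCk : ∀ x, Θ (C (algebraMap k A x)) = TrivSqZeroExt.inl (algebraMap k K x) := fun x => by
    simp [Θ, theta_C, hDk]
  have hsndC : ∀ (b : B) x, TrivSqZeroExt.snd (Θ (b * C (algebraMap k A x))) =
      TrivSqZeroExt.snd (Θ b) * algebraMap k K x := fun b x => by
    rw [map_mul, DualNumber.snd_mul, hCk, TrivSqZeroExt.snd_inl, TrivSqZeroExt.fst_inl, mul_zero, zero_add]
  have hH0 : ∀ c, TrivSqZeroExt.snd (Θ (C (pM Φ E).det * pH0 bW c)) =
      ∑ q, (∑ c, δ c * algebraMap k K (τ c q)) * algebraMap k K (bW q c) := fun c => by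
    have hw : ∀ q, ρ (pM Φ E).det * w q + D (pM Φ E).det * t q = ∑ c, δ c * algebraMap k K (τ c q) := fun q => by
      rw [show ρ (pM Φ E).det * w q = _ from mul_div_cancel₀ _ hdet, sub_add_cancel]
    simp only [← hw, pH0, Finset.mul_sum, map_sum, TrivSqZeroExt.snd_sum]
    refine Finset.sum_congr rfl fun q _ => ?_
    rw [← mul_assoc, hsndC, map_mul, DualNumber.snd_mul]
    simp [Θ, theta_C, theta_X]
  have h := eq_zero_of_span Φ E ρ hdet
    (fun p => -TrivSqZeroExt.snd (Θ (pV Φ E bW p)) - ∑ c, δ c * algebraMap k K (σ c p))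
    (fun c => TrivSqZeroExt.snd (Θ (pZ Φ E bW c)) - δ c) (fun c => ?_) (fun o => ?_)
  · exact sub_eq_zero.1 (congrFun h c')
  · have hd := decomp E bW τ σ hdec δ c
    simp only [pZ, map_sub, TrivSqZeroExt.snd_sub, hH0, map_sum, TrivSqZeroExt.snd_sum, hsndC, sub_mul,
      Finset.sum_sub_distrib, neg_mul, Finset.sum_neg_distrib]
    rw [hd]
    ring
  · have h0 := congrArg (fun b => TrivSqZeroExt.snd (Θ b)) (sum_pZ Φ E bW o)
    simp only [map_sum, map_zero, TrivSqZeroExt.snd_sum, TrivSqZeroExt.snd_zero, map_mul, DualNumber.snd_mul] at h0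
    have hfst : ∀ c, TrivSqZeroExt.fst (Θ (pZ Φ E bW c)) = eval₂Hom ρ.toRingHom t (pZ Φ E bW c) := fun c =>
      fst_theta ρ D hD t w _
    simp only [hfst, Θ, theta_C, TrivSqZeroExt.snd_add, TrivSqZeroExt.snd_inl, TrivSqZeroExt.snd_inr, zero_add,
      TrivSqZeroExt.fst_add, TrivSqZeroExt.fst_inl, TrivSqZeroExt.fst_inr, add_zero, Finset.sum_add_distrib] at h0
    simp only [sub_mul, Finset.sum_sub_distrib]
    linear_combination h0 - hδ o

end Groth.Agent.DualVar
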