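import Mathlib

/-!
# Pencils avoiding a closed cone
-/

set_option autoImplicit false
set_option linter.style.haveILetI false
set_option linter.unusedSectionVars false

universe u

noncomputable section

namespace Groth.Agent.DualVar

open MvPolynomial

variable {k : Type u} [Field k] {σ : Type} [Fintype σ]

/-- Homogeneous components of a polynomial vanishing on a cone vanish on it. -/
theorem eval_homogeneousComponent_eq_zero [Infinite k] (Z : Set (σ → k))
    (hcone : ∀ t : k, t ≠ 0 → ∀ v ∈ Z, t • v ∈ Z) (p : MvPolynomial σ k) (hp : ∀ z ∈ Z, eval z p = 0) (j : ℕ)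
    {z : σ → k} (hz : z ∈ Z) : eval z (homogeneousComponent j p) = 0 := by
  classical
  let Q : Polynomial k := ∑ i ∈ Finset.range (p.totalDegree + 1),
    Polynomial.C (eval z (homogeneousComponent i p)) * Polynomial.X ^ i
  have hQ : ∀ t : k, t ≠ 0 → Q.eval t = 0 := by
    intro t ht
    have hsmul : ∀ i, eval (t • z) (homogeneousComponent i p) = t ^ i * eval z (homogeneousComponent i p) := by
      intro i
      have hh := homogeneousComponent_isHomogeneous i p
      rw [eval_eq, eval_eq, Finset.mul_sum]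
      refine Finset.sum_congr rfl fun d hd => ?_
      have hd' : d.degree = i := hh.degree_eq_sum_deg_support hd ▸ rfl
      rw [← hd', Finsupp.degree_apply, ← Finset.prod_pow_eq_pow_sum, mul_left_comm, ← Finset.prod_mul_distrib]
      congr 1
      exact Finset.prod_congr rfl fun a _ => by rw [Pi.smul_apply, smul_eq_mul, mul_pow]
    have := hp _ (hcone t ht z hz)
    rw [← sum_homogeneousComponent p, map_sum] at this
    simp only [hsmul] at this
    simp only [Q, Polynomial.eval_finset_sum, Polynomial.eval_mul, Polynomial.eval_C, Polynomial.eval_pow,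
      Polynomial.eval_X]
    rw [← this]
    exact Finset.sum_congr rfl fun i _ => mul_comm _ _
  have hQ0 : Q = 0 := by
    refine Polynomial.eq_zero_of_infinite_isRoot Q ?_
    exact Set.Infinite.mono (s := {0}ᶜ) (fun t ht => hQ t ht) (Set.finite_singleton (0 : k)).infinite_compl
  by_cases hj : j ∈ Finset.range (p.totalDegree + 1)
  · have := congrArg (fun P => Polynomial.coeff P j) hQ0
    simpa [Q, Polynomial.coeff_X_pow, hj, Finset.mem_range.1 hj] using this
  · rw [homogeneousComponent_eq_zero _ _ (by simpa using hj), map_zero]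

/-- The expansion of a form along a line. -/
theorem coeff_aeval_line {R : Type u} [CommRing R] [Algebra k R] (x y : σ → R) {p : MvPolynomial σ k} {D : ℕ}
    (hp : p.IsHomogeneous D) :
    (aeval (fun a => Polynomial.C (x a) + Polynomial.X * Polynomial.C (y a)) p).natDegree ≤ D ∧
      (aeval (fun a => Polynomial.C (x a) + Polynomial.X * Polynomial.C (y a)) p).coeff D = aeval y p := by
  classical
  let L : σ → Polynomial R := fun a => Polynomial.C (x a) + Polynomial.X * Polynomial.C (y a)
  have hL : ∀ a, (L a).natDegree ≤ 1 := fun a => by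
    refine (Polynomial.natDegree_add_le _ _).trans (max_le (by simp) ?_)
    refine (Polynomial.natDegree_mul_le).trans ?_
    simp [Polynomial.natDegree_X_le]
  have hL1 : ∀ a, (L a).coeff 1 = y a := fun a => by simp [L, Polynomial.coeff_C]
  have hprod : ∀ (d : σ → ℕ) (s : Finset σ), (∏ a ∈ s, L a ^ d a).natDegree ≤ ∑ a ∈ s, d a ∧
      (∏ a ∈ s, L a ^ d a).coeff (∑ a ∈ s, d a) = ∏ a ∈ s, y a ^ d a := by
    intro d s
    induction s using Finset.induction with
    | empty => simp
    | insert a s ha ih =>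
      rw [Finset.prod_insert ha, Finset.sum_insert ha, Finset.prod_insert ha]
      have h1 : (L a ^ d a).natDegree ≤ d a := by
        refine Polynomial.natDegree_pow_le.trans ?_
        exact (Nat.mul_le_mul_left _ (hL a)).trans (le_of_eq (mul_one _))
      refine ⟨Polynomial.natDegree_mul_le.trans (Nat.add_le_add h1 ih.1), ?_⟩
      rw [Polynomial.coeff_mul_add_eq_of_natDegree_le h1 ih.1, ih.2]
      congr 1
      have := Polynomial.coeff_pow_of_natDegree_le (p := L a) (n := 1) (m := d a) (hL a)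
      rwa [mul_one, hL1] at this
  have hterm : ∀ d ∈ p.support, (aeval L (monomial d (coeff d p))).natDegree ≤ D ∧
      (aeval L (monomial d (coeff d p))).coeff D = aeval y (monomial d (coeff d p)) := by
    intro d hd
    have hd' : ∑ a ∈ d.support, d a = D := (Finsupp.degree_apply d).symm.trans (hp.degree_eq_sum_deg_support hd ▸ rfl)
    rw [aeval_monomial, aeval_monomial, IsScalarTower.algebraMap_apply k R (Polynomial R), Polynomial.algebraMap_eq,
      Polynomial.coeff_C_mul, Finsupp.prod, Finsupp.prod]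
    obtain ⟨h1, h2⟩ := hprod d d.support
    rw [hd'] at h1 h2
    exact ⟨(Polynomial.natDegree_C_mul_le _ _).trans h1, by rw [h2]⟩
  show (aeval L p).natDegree ≤ D ∧ (aeval L p).coeff D = aeval y p
  have e : ∀ {S : Type u} [CommRing S] [Algebra k S] (z : σ → S),
      aeval z p = ∑ d ∈ p.support, aeval z (monomial d (coeff d p)) := fun z => by
    rw [← map_sum, ← as_sum]
  rw [e, e]
  refine ⟨Polynomial.natDegree_sum_le_of_forall_le _ _ fun d hd => (hterm d hd).1, ?_⟩
  rw [Polynomial.finset_sum_coeff]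
  exact Finset.sum_congr rfl fun d hd => (hterm d hd).2

/-- Pencils avoiding a closed cone form an open set. -/
theorem exists_poly_pencil [IsAlgClosed k] (Z : Set (σ → k)) (hcone : ∀ t : k, t ≠ 0 → ∀ v ∈ Z, t • v ∈ Z)
    (F G : σ → k) (hG : ∃ p : MvPolynomial σ k, (∀ z ∈ Z, eval z p = 0) ∧ eval G p ≠ 0)
    (hF : ∀ c : k, ∃ p : MvPolynomial σ k, (∀ z ∈ Z, eval z p = 0) ∧ eval (F + c • G) p ≠ 0) :
    ∃ g : MvPolynomial (σ ⊕ σ) k, eval (Sum.elim F G) g ≠ 0 ∧
      ∀ F' G' : σ → k, eval (Sum.elim F' G') g ≠ 0 → G' ∉ Z ∧ ∀ c : k, F' + c • G' ∉ Z := by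
  classical
  have hhom : ∀ (v : σ → k) (p : MvPolynomial σ k), (∀ z ∈ Z, eval z p = 0) → eval v p ≠ 0 →
      ∃ (D : ℕ) (q : MvPolynomial σ k), q.IsHomogeneous D ∧ (∀ z ∈ Z, eval z q = 0) ∧ eval v q ≠ 0 := by
    intro v p hp hv
    rw [← sum_homogeneousComponent p, map_sum] at hv
    obtain ⟨j, -, hj⟩ := Finset.exists_ne_zero_of_sum_ne_zero hv
    exact ⟨j, _, homogeneousComponent_isHomogeneous j p, fun z hz => eval_homogeneousComponent_eq_zero Z hcone p hp j hz, hj⟩
  obtain ⟨pG, hpG, hpG'⟩ := hG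
  obtain ⟨D, p₀, hp₀, hp₀Z, hp₀G⟩ := hhom G pG hpG hpG'
  rcases Nat.eq_zero_or_pos D with rfl | hD
  · have hc : p₀ = C (coeff 0 p₀) := (totalDegree_eq_zero_iff_eq_C).1 (Nat.le_zero.1 hp₀.totalDegree_le)
    have hZ : ∀ z, z ∉ Z := fun z hz => hp₀G (by
      have := hp₀Z z hz
      rw [hc, eval_C] at this
      rw [hc, eval_C, this])
    exact ⟨1, by simp, fun F' G' _ => ⟨hZ _, fun c => hZ _⟩⟩
  let R := MvPolynomial (σ ⊕ σ) k
  let xF : σ → R := fun a => X (Sum.inl a)
  let xG : σ → R := fun a => X (Sum.inr a)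
  let a₀ : R := aeval xG p₀
  let q : Polynomial R := aeval (fun a => Polynomial.C (xF a) + Polynomial.X * Polynomial.C (xG a)) p₀
  have hev : ∀ (F' G' : σ → k), eval (Sum.elim F' G') a₀ = eval G' p₀ := fun F' G' => by
    show eval (Sum.elim F' G') (aeval xG p₀) = _
    rw [show (eval (Sum.elim F' G') : R → k) = aeval (R := k) (Sum.elim F' G') from rfl, comp_aeval_apply,
      aeval_eq_eval]
    congr 2
    funext a
    simp [xG]
  have ha₀ : a₀ ≠ 0 := fun h0 => hp₀G (by rw [← hev F G, h0, map_zero])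
  obtain ⟨hqdeg, hqcoeff⟩ := coeff_aeval_line xF xG hp₀
  change q.natDegree ≤ D at hqdeg
  change q.coeff D = a₀ at hqcoeff
  have hqn : q.natDegree = D := le_antisymm hqdeg (Polynomial.le_natDegree_of_ne_zero (hqcoeff ▸ ha₀))
  have hlc : q.leadingCoeff = a₀ := by rw [Polynomial.leadingCoeff, hqn, hqcoeff]
  have hq0 : q ≠ 0 := fun h0 => ha₀ (by rw [← hlc, h0, Polynomial.leadingCoeff_zero])
  let qm := Polynomial.integralNormalization q
  have hqm : qm.Monic := Polynomial.monic_integralNormalization hq0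
  let B := AdjoinRoot qm
  haveI : Module.Finite R B := hqm.finite_adjoinRoot
  let vB : σ → B := fun a => algebraMap R B a₀ * algebraMap R B (xF a) + AdjoinRoot.root qm * algebraMap R B (xG a)
  let J : Ideal B := Ideal.span {b | ∃ (j : ℕ) (p : MvPolynomial σ k), p.IsHomogeneous j ∧ (∀ z ∈ Z, eval z p = 0) ∧
    b = aeval vB p}
  have hkey : ∀ (L : Type u) [Field L] [Algebra k L] (F' G' : σ → k) (φ : B →ₐ[k] L) (c : k),
      (∀ r : R, φ (algebraMap R B r) = algebraMap k L (eval (Sum.elim F' G') r)) →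
      φ (AdjoinRoot.root qm) = algebraMap k L (eval G' p₀ * c) → ∀ (j : ℕ) (p : MvPolynomial σ k), p.IsHomogeneous j →
        φ (aeval vB p) = algebraMap k L ((eval G' p₀) ^ j * eval (F' + c • G') p) := by
    intro L _ _ F' G' φ c hφ hroot j p hp
    rw [comp_aeval_apply]
    have hv : (fun a => φ (vB a)) = fun a => algebraMap k L (eval G' p₀ * (F' + c • G') a) := by
      funext a
      simp only [vB, map_add, map_mul, hφ, hroot, hev]
      simp [xF, xG]
      ring
    rw [hv, show aeval (fun a => algebraMap k L (eval G' p₀ * (F' + c • G') a)) p =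
      algebraMap k L (aeval (fun a => eval G' p₀ * (F' + c • G') a) p) from
      (comp_aeval_apply _ (Algebra.ofId k L) p).symm, aeval_eq_eval]
    congr 1
    generalize eval G' p₀ = t
    rw [eval_eq, eval_eq, Finset.mul_sum]
    refine Finset.sum_congr rfl fun d hd => ?_
    have hd' : d.degree = j := hp.degree_eq_sum_deg_support hd ▸ rfl
    rw [← hd', Finsupp.degree_apply, ← Finset.prod_pow_eq_pow_sum, mul_left_comm, ← Finset.prod_mul_distrib]
    congr 1
    exact Finset.prod_congr rfl fun b _ => by rw [mul_pow]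
  have hqeval : ∀ (F' G' : σ → k) (c : k), Polynomial.eval₂ (eval (Sum.elim F' G')) (eval G' p₀ * c) qm =
      eval G' p₀ ^ (D - 1) * eval (F' + c • G') p₀ := by
    intro F' G' c
    have h1 := Polynomial.integralNormalization_eval₂_leadingCoeff_mul (p := q) (hqn ▸ hD) (eval (Sum.elim F' G')) c
    rw [hlc, hev, hqn] at h1
    rw [h1]
    congr 1
    let φ : Polynomial R →+* k := Polynomial.eval₂RingHom (eval (Sum.elim F' G')) c
    refine RingHom.congr_fun (f := φ.comp (aeval fun a => Polynomial.C (xF a) + Polynomial.X * Polynomial.C (xG a)).toRingHom)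
      (g := eval (F' + c • G')) (ringHom_ext (fun t => ?_) fun a => ?_) p₀
    · simp [φ, IsScalarTower.algebraMap_apply k R (Polynomial R), R]
    · simp [φ, xF, xG]
      erw [eval_X, eval_X]
      simp
      ring
  -- no prime of `B` over the point contains `J`
  let m₀ : Ideal R := RingHom.ker (eval (Sum.elim F G))
  haveI : m₀.IsMaximal := RingHom.ker_isMaximal_of_surjective _ fun c => ⟨C c, eval_C c⟩
  have hno : ¬ J.comap (algebraMap R B) ≤ m₀ := by
    intro hle
    obtain ⟨Q, hJQ, hQ, hQm⟩ := Ideal.exists_ideal_over_prime_of_isIntegral m₀ J hle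
    haveI := hQ
    let L := FractionRing (B ⧸ Q)
    let φ : B →ₐ[k] L := (IsScalarTower.toAlgHom k (B ⧸ Q) L).comp (Ideal.Quotient.mkₐ k Q)
    have hφQ : ∀ b ∈ Q, φ b = 0 := fun b hb => by
      simp only [φ, AlgHom.comp_apply, Ideal.Quotient.mkₐ_eq_mk, Ideal.Quotient.eq_zero_iff_mem.2 hb, map_zero]
    have hφR : ∀ r : R, φ (algebraMap R B r) = algebraMap k L (eval (Sum.elim F G) r) := by
      intro r
      have h1 : r - C (eval (Sum.elim F G) r) ∈ m₀ := by
        rw [RingHom.mem_ker, map_sub, sub_eq_zero]; exact (eval_C _).symm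
      rw [← hQm] at h1
      have := hφQ _ h1
      rw [map_sub, map_sub, sub_eq_zero] at this
      rw [this, ← MvPolynomial.algebraMap_eq, ← IsScalarTower.algebraMap_apply, φ.commutes]
    have hroot : Polynomial.aeval (φ (AdjoinRoot.root qm)) (qm.map (eval (Sum.elim F G))) = 0 := by
      rw [Polynomial.aeval_def, Polynomial.eval₂_map]
      have h1 : Polynomial.eval₂ (algebraMap R B) (AdjoinRoot.root qm) qm = 0 := AdjoinRoot.eval₂_root qm
      have h2 := congrArg φ h1
      rw [map_zero] at h2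
      rw [← h2, show (φ : B → L) = φ.toRingHom from rfl, Polynomial.hom_eval₂]
      congr 1
      exact RingHom.ext fun r => (hφR r).symm
    obtain ⟨e, he, hev'⟩ : ∃ e : k, algebraMap k L e = φ (AdjoinRoot.root qm) ∧
        (qm.map (eval (Sum.elim F G))).eval e = 0 := by
      have hs := (IsAlgClosed.splits (qm.map (eval (Sum.elim F G)))).eq_prod_roots
      have hm := hqm.map (eval (Sum.elim F G))
      rw [hm.leadingCoeff, map_one, one_mul] at hs
      have hroot' := hroot
      rw [hs, map_multiset_prod, Multiset.prod_eq_zero_iff, Multiset.map_map, Multiset.mem_map] at hroot'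
      obtain ⟨e, he, h0⟩ := hroot'
      refine ⟨e, ?_, (Polynomial.mem_roots hm.ne_zero).1 he⟩
      simp only [Function.comp_apply, map_sub, Polynomial.aeval_X, Polynomial.aeval_C, sub_eq_zero] at h0
      exact h0.symm
    let c := e / eval G p₀
    have hec : e = eval G p₀ * c := (mul_div_cancel₀ e hp₀G).symm
    obtain ⟨pc, hpc, hpc'⟩ := hF c
    obtain ⟨j, p, hp, hpZ, hpv⟩ := hhom (F + c • G) pc hpc hpc'
    have h0 := hφQ _ (hJQ (Ideal.subset_span ⟨j, p, hp, hpZ, rfl⟩))
    rw [hkey L F G φ c hφR (by rw [← hec, he]) j p hp, map_eq_zero_iff _ (algebraMap k L).injective] at h0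
    exact mul_ne_zero (pow_ne_zero j hp₀G) hpv h0
  obtain ⟨g, hgJ, hg⟩ := SetLike.not_le_iff_exists.1 hno
  refine ⟨g * a₀, by rw [map_mul, hev]; exact mul_ne_zero hg hp₀G, fun F' G' hFG => ?_⟩
  rw [map_mul, mul_ne_zero_iff, hev] at hFG
  refine ⟨fun hZ => hFG.2 (hp₀Z _ hZ), fun c hZ => hFG.1 ?_⟩
  have hroot : Polynomial.eval₂ (eval (Sum.elim F' G')) (eval G' p₀ * c) qm = 0 := by
    rw [hqeval, hp₀Z _ hZ, mul_zero]
  let φ : B →ₐ[k] k :=
    { AdjoinRoot.lift (eval (Sum.elim F' G')) _ hroot with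
      commutes' := fun t => by
        show AdjoinRoot.lift (eval (Sum.elim F' G')) _ hroot (algebraMap k B t) = t
        rw [IsScalarTower.algebraMap_apply k R B, AdjoinRoot.algebraMap_eq, AdjoinRoot.lift_of]
        exact eval_C t }
  have hJ : J ≤ RingHom.ker φ := by
    refine Ideal.span_le.2 ?_
    rintro _ ⟨j, p, hp, hpZ, rfl⟩
    have hR : ∀ r : R, φ (algebraMap R B r) = algebraMap k k (eval (Sum.elim F' G') r) := fun r => by
      show AdjoinRoot.lift _ _ hroot (AdjoinRoot.of qm r) = _
      rw [AdjoinRoot.lift_of]; rfl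
    rw [SetLike.mem_coe, RingHom.mem_ker, hkey k F' G' φ c hR (AdjoinRoot.lift_root hroot) j p hp, hpZ _ hZ, mul_zero,
      map_zero]
  have h1 : φ (algebraMap R B g) = 0 := hJ hgJ
  rw [← h1]
  show _ = AdjoinRoot.lift _ _ hroot (AdjoinRoot.of qm g)
  rw [AdjoinRoot.lift_of]

end Groth.Agent.DualVar
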