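import Groth.Agent.DualVar.OneOrd
import Groth.Agent.DualVar.Pencil
import Groth.Agent.DualVar.Pair

/-!
# The Lefschetz pencils form an open set
-/

set_option autoImplicit false
set_option linter.style.haveILetI false
set_option linter.unusedSectionVars false
set_option backward.isDefEq.respectTransparency false
set_option backward.isDefEq.respectTransparency.types false

universe u

open CategoryTheory CategoryTheory.Limits AlgebraicGeometry TopologicalSpace Opposite
open Groth.Agent.WeilLib (secStr)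

noncomputable section

namespace Groth.Agent.DualVar

variable {k : Type u} [Field k] {r d n : ℕ}

/-- The form with given coordinates. -/
def fc (v : Fin (Module.finrank k (LefPen.Form r k d)) → k) : LefPen.Form r k d := ∑ c, v c • bF r k d c

theorem co_eq_equivFun (H : LefPen.Form r k d) : co H = (bF r k d).equivFun H := rfl

theorem co_fc (v : Fin (Module.finrank k (LefPen.Form r k d)) → k) : co (fc v) = v := by
  rw [co_eq_equivFun, fc, ← Module.Basis.equivFun_symm_apply, LinearEquiv.apply_symm_apply]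

theorem fc_co (H : LefPen.Form r k d) : fc (co H) = H := sum_co H

theorem co_add (F G : LefPen.Form r k d) : co (F + G) = co F + co G := by simp only [co_eq_equivFun, map_add]

theorem co_smul (t : k) (G : LefPen.Form r k d) : co (t • G) = t • co G := by simp only [co_eq_equivFun, map_smul]

/-- Two vectors are dependent iff their minors vanish. -/
theorem dep_iff_minors {κ : Type} (u w : κ → k) :
    (∃ a b : k, (a ≠ 0 ∨ b ≠ 0) ∧ ∀ o, a * u o + b * w o = 0) ↔ ∀ o p, u o * w p - u p * w o = 0 := by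
  constructor
  · rintro ⟨a, b, hab, h⟩ o p
    rcases hab with ha | hb
    · refine (mul_eq_zero.1 (?_ : a * (u o * w p - u p * w o) = 0)).resolve_left ha
      linear_combination w p * h o - w o * h p
    · refine (mul_eq_zero.1 (?_ : b * (u o * w p - u p * w o) = 0)).resolve_left hb
      linear_combination u o * h p - u p * h o
  · intro h
    by_cases hu : ∀ o, u o = 0
    · exact ⟨1, 0, Or.inl one_ne_zero, fun o => by rw [hu o]; ring⟩
    · push Not at hu
      obtain ⟨o, ho⟩ := hu
      exact ⟨w o, -u o, Or.inr (neg_ne_zero.2 ho), fun p => by linear_combination -(h o p)⟩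

variable [IsAlgClosed k] {X : Scheme.{u}} {i : X ⟶ CohB1.ProjSpace r k} [IsClosedImmersion i] [IrreducibleSpace X]
  [SmoothOfRelativeDimension n (str i)]

omit [IsAlgClosed k] [IsClosedImmersion i] [IrreducibleSpace X] [SmoothOfRelativeDimension n (str i)] in
theorem secIdeal_smul [IsClosedImmersion i] {t : k} (ht : t ≠ 0) (H : LefPen.Form r k d) :
    LefPen.secIdeal i ({t • H} : Set (LefPen.Form r k d)) = LefPen.secIdeal i ({H} : Set (LefPen.Form r k d)) := by
  let U : Fin (r + 1) → X.affineOpens := fun l => ⟨i ⁻¹ᵁ (CompInt.C k r l).1, (CompInt.C k r l).2.preimage i⟩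
  refine Scheme.IdealSheafData.ext_of_iSup_eq_top U
    (top_le_iff.1 fun x _ => Opens.mem_iSup.2 (PicPn.exists_mem_ch (i x))) fun l => ?_
  rw [secIdeal_ideal i _ l (U l) le_rfl, secIdeal_ideal i _ l (U l) le_rfl, hmap_smul]
  exact Ideal.span_singleton_mul_left_unit ((isUnit_iff_ne_zero.2 ht).map _) _

theorem good_smul {t : k} (ht : t ≠ 0) (H : LefPen.Form r k d) :
    (LefPen.OneOrdQuad k n i (t • H) ↔ LefPen.OneOrdQuad k n i H) ∧ ∀ x, Bad i (t • H) x ↔ Bad i H x := by
  refine ⟨?_, fun x => by unfold Bad; rw [secIdeal_smul ht]⟩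
  have key : ∀ (I J : X.IdealSheafData), I = J →
      ((∃ y : I.subscheme, {y' | LefPen.SmoothAt (I.subschemeι ≫ str i) y'} = ({y}ᶜ : Set I.subscheme) ∧
        LefPen.IsOrdQuadSing k (n - 1) (I.subschemeι ≫ str i) y) ↔
      (∃ y : J.subscheme, {y' | LefPen.SmoothAt (J.subschemeι ≫ str i) y'} = ({y}ᶜ : Set J.subscheme) ∧
        LefPen.IsOrdQuadSing k (n - 1) (J.subschemeι ≫ str i) y)) := by
    rintro I J rfl; rfl
  exact key _ _ (secIdeal_smul ht H)

/-- The singular forms that do not cut a single ordinary quadratic point. -/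
def WBad {r d : ℕ} {X : Scheme.{u}} (i : X ⟶ CohB1.ProjSpace r k) (n : ℕ) : Set (Fin (Module.finrank k (LefPen.Form r k d)) → k) :=
  {v | (∃ x : X, IsClosed ({x} : Set X) ∧ Bad i (fc v) x) ∧ ¬ LefPen.OneOrdQuad k n i (fc v)}

include n

theorem wbad_cone (t : k) (ht : t ≠ 0) (v : Fin (Module.finrank k (LefPen.Form r k d)) → k) (hv : v ∈ WBad i n) :
    t • v ∈ WBad i n := by
  have e : fc (t • v) = t • fc v := by simp [fc, Finset.smul_sum, smul_smul]
  obtain ⟨⟨x, hx, hB⟩, hO⟩ := hv
  exact ⟨⟨x, hx, by rw [e]; exact ((good_smul (n := n) ht _).2 x).2 hB⟩,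
    by rw [e]; exact fun h => hO ((good_smul (n := n) ht _).1.1 h)⟩

theorem exists_poly_not_wbad (hn : 1 ≤ n) (hd : 1 ≤ d) (H : LefPen.Form r k d)
    (h : ¬ LefPen.Transversal k n 1 (LefPen.secToSpec i ({H} : Set (LefPen.Form r k d))) → LefPen.OneOrdQuad k n i H) :
    ∃ p : CoR k r d, (∀ z ∈ WBad i n, MvPolynomial.eval z p = 0) ∧ MvPolynomial.eval (co H) p ≠ 0 := by
  by_cases hT : ∀ x : X, IsClosed ({x} : Set X) → ¬ Bad i H x
  · obtain ⟨f, hf, hfH, hfs⟩ := isZOpen_good (n := n) i hd H hT
    obtain ⟨P, hP⟩ := exists_poly_of_isPolyFun hf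
    refine ⟨P, fun z hz => ?_, by rw [← hP]; exact hfH⟩
    by_contra hne
    obtain ⟨x, hx, hB⟩ := hz.1
    exact hfs (fc z) (by rw [hP, co_fc]; exact hne) x hx hB
  · obtain ⟨f, hf, hfs⟩ := exists_poly_oneOrdQuad hn hd H (h fun ht => hT ((transversal_iff i hn H).1 ht))
    refine ⟨f, fun z hz => ?_, hf⟩
    by_contra hne
    exact hz.2 (hfs (fc z) (by rw [co_fc]; exact hne) hz.1)

/-- The Lefschetz pencils form an open set. -/
theorem isZOpen_isLefschetzPencil (hn : 1 ≤ n) (hd : 1 ≤ d) :
    LefPen.IsZOpen k {FG : LefPen.Form r k d × LefPen.Form r k d | LefPen.IsLefschetzPencil k n i d FG.1 FG.2} := by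
  classical
  haveI : Smooth (str i) := SmoothOfRelativeDimension.smooth n (str i)
  haveI : LocallyOfFiniteType (str i) := inferInstance
  rintro ⟨F, G⟩ ⟨hli, htr, hfin, hmem⟩
  -- independence
  obtain ⟨a, b, hab⟩ : ∃ a b, co F a * co G b - co F b * co G a ≠ 0 := by
    by_contra hno
    push Not at hno
    obtain ⟨s, t, hst, h⟩ := (dep_iff_minors (co F) (co G)).2 hno
    have h0 : s • F + t • G = 0 := by
      rw [← fc_co (s • F + t • G), co_add, co_smul, co_smul]
      exact Finset.sum_eq_zero fun c _ => by rw [Pi.add_apply, Pi.smul_apply, Pi.smul_apply, smul_eq_mul, smul_eq_mul, h c, zero_smul]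
    obtain ⟨hs, ht⟩ := LinearIndependent.pair_iff.1 hli s t h0
    exact hst.elim (fun h => h hs) (fun h => h ht)
  let g₁ : MvPolynomial (Fin (Module.finrank k (LefPen.Form r k d)) ⊕ Fin (Module.finrank k (LefPen.Form r k d))) k :=
    MvPolynomial.X (Sum.inl a) * MvPolynomial.X (Sum.inr b) - MvPolynomial.X (Sum.inl b) * MvPolynomial.X (Sum.inr a)
  -- the members
  obtain ⟨g₂, hg₂, hg₂s⟩ := exists_poly_pencil (WBad i n) (wbad_cone (n := n) (i := i)) (co F) (co G)
    (exists_poly_not_wbad hn hd G (hmem G (Or.inl rfl)))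
    (fun c => by
      rw [← co_smul, ← co_add]
      exact exists_poly_not_wbad hn hd _ (hmem _ (Or.inr ⟨c, rfl⟩)))
  -- a transversal member
  obtain ⟨c₀, hc₀⟩ := (Set.Finite.infinite_compl hfin).nonempty
  obtain ⟨f₀, hf₀, hf₀v, hf₀s⟩ := isZOpen_good (n := n) i hd (F + c₀ • G) ((transversal_iff i hn _).1 (not_not.1 hc₀))
  obtain ⟨P₀, hP₀⟩ := exists_poly_of_isPolyFun hf₀
  let g₃ : MvPolynomial (Fin (Module.finrank k (LefPen.Form r k d)) ⊕ Fin (Module.finrank k (LefPen.Form r k d))) k :=
    MvPolynomial.aeval (fun c => MvPolynomial.X (Sum.inl c) + MvPolynomial.C c₀ * MvPolynomial.X (Sum.inr c)) P₀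
  have hg₃ : ∀ F' G' : LefPen.Form r k d, MvPolynomial.eval (Sum.elim (co F') (co G')) g₃ = f₀ (F' + c₀ • G') := by
    intro F' G'
    rw [hP₀, co_add, co_smul]
    refine RingHom.congr_fun (f := (MvPolynomial.eval (Sum.elim (co F') (co G'))).comp (MvPolynomial.aeval
      (fun c => (MvPolynomial.X (Sum.inl c) + MvPolynomial.C c₀ * MvPolynomial.X (Sum.inr c) :
        MvPolynomial (Fin (Module.finrank k (LefPen.Form r k d)) ⊕ Fin (Module.finrank k (LefPen.Form r k d))) k))).toRingHom)
      (g := MvPolynomial.eval (co F' + c₀ • co G')) (MvPolynomial.ringHom_ext (fun t => by simp) fun c => by simp) P₀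
  -- the base locus
  let Cond : X → (Fin (Module.finrank k (LefPen.Form r k d)) ⊕ Fin (Module.finrank k (LefPen.Form r k d)) → k) → Prop :=
    fun x s => Bad2 i (fc (d := d) (s ∘ Sum.inl)) (fc (s ∘ Sum.inr)) x
  let L : ∀ (C : Ch i n), Bool → Option (Fin n) →
      MvPolynomial (Fin (Module.finrank k (LefPen.Form r k d)) ⊕ Fin (Module.finrank k (LefPen.Form r k d))) Γ(X, C.V.1) :=
    fun C e o =>
      letI := algV i C.V.1
      ∑ c, MvPolynomial.C (jet C.b (C.h d c) o) * MvPolynomial.X (if e then Sum.inl c else Sum.inr c)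
  let E : ∀ C : Ch i n, Set (MvPolynomial
      (Fin (Module.finrank k (LefPen.Form r k d)) ⊕ Fin (Module.finrank k (LefPen.Form r k d))) Γ(X, C.V.1)) := fun C =>
    {L C true none, L C false none} ∪
      Set.range fun p : Option (Fin n) × Option (Fin n) => L C true p.1 * L C false p.2 - L C true p.2 * L C false p.1
  have hE : ∀ (C : Ch i n) (x : X) (hx : IsClosed ({x} : Set X)) (hxV : x ∈ C.V.1)
      (s : Fin (Module.finrank k (LefPen.Form r k d)) ⊕ Fin (Module.finrank k (LefPen.Form r k d)) → k),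
      Cond x s ↔ ∀ Q ∈ E C, MvPolynomial.eval₂ (ev (str i) hx hxV) s Q = 0 := by
    intro C x hx hxV s
    letI := algV i C.V.1
    let v : Bool → LefPen.Form r k d := fun e => fc (if e then s ∘ Sum.inl else s ∘ Sum.inr)
    have hL : ∀ e o, MvPolynomial.eval₂ (ev (str i) hx hxV) s (L C e o) =
        ∑ c, co (v e) c * C.pt hx hxV (jet C.b (C.h d c) o) := by
      intro e o
      simp only [L, MvPolynomial.eval₂_sum, MvPolynomial.eval₂_mul, MvPolynomial.eval₂_C, MvPolynomial.eval₂_X, v, co_fc]
      refine Finset.sum_congr rfl fun c _ => ?_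
      cases e <;> simp [Ch.pt_apply, mul_comm]
    have hnone : ∀ e, (x ∈ (LefPen.secIdeal i ({v e} : Set (LefPen.Form r k d))).support ↔
        MvPolynomial.eval₂ (ev (str i) hx hxV) s (L C e none) = 0) := by
      intro e
      rw [mem_support_iff C (v e) hx hxV, hL, ← C.sum_h (v e), ← C.pt_apply hx hxV, map_sum]
      simp only [map_smul, smul_eq_mul, jet_none]
    have hdep : (∃ a b : k, (a ≠ 0 ∨ b ≠ 0) ∧ Bad i (a • v true + b • v false) x) ↔
        ∀ o p, MvPolynomial.eval₂ (ev (str i) hx hxV) s (L C true o) * MvPolynomial.eval₂ (ev (str i) hx hxV) s (L C false p)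
          - MvPolynomial.eval₂ (ev (str i) hx hxV) s (L C true p) * MvPolynomial.eval₂ (ev (str i) hx hxV) s (L C false o) = 0 := by
      rw [← dep_iff_minors]
      refine exists_congr fun a => exists_congr fun b => and_congr_right fun _ => ?_
      rw [(C.bad_iff hx hxV _).1]
      refine forall_congr' fun o => ?_
      simp only [hL, co_add, co_smul, Pi.add_apply, Pi.smul_apply, smul_eq_mul, add_mul, Finset.sum_add_distrib,
        Finset.mul_sum, mul_assoc]
    show (x ∈ _ ∧ x ∈ _ ∧ _) ↔ _
    rw [show fc (d := d) (s ∘ Sum.inl) = v true from rfl, show fc (d := d) (s ∘ Sum.inr) = v false from rfl, hnone, hnone, hdep]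
    simp only [E, Set.mem_union, Set.mem_insert_iff, Set.mem_singleton_iff, or_imp, forall_and, forall_eq,
      Set.forall_mem_range, Prod.forall, MvPolynomial.eval₂_sub, MvPolynomial.eval₂_mul, and_assoc]
  obtain ⟨g₄, hg₄, hg₄s⟩ := exists_poly_incid E Cond hE (Sum.elim (co F) (co G)) (fun x hx hB => by
    have hB' : Bad2 i (fc (d := d) (co F)) (fc (co G)) x := hB
    rw [fc_co, fc_co] at hB'
    exact (transversal2_iff hn F G).1 htr x hx hB')
  let g := g₁ * g₂ * g₃ * g₄
  refine ⟨fun FG => MvPolynomial.eval (Sum.elim (co FG.1) (co FG.2)) g, ?_, ?_, ?_⟩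
  · have := GenDim.isPolyFun_eval (k := k) (V := LefPen.Form r k d × LefPen.Form r k d)
      (Sum.elim (fun c => ((bF r k d).coord c).comp (LinearMap.fst k _ _))
        fun c => ((bF r k d).coord c).comp (LinearMap.snd k _ _)) g
    convert this using 2 with FG
    congr 2
    funext c
    cases c <;> rfl
  · show MvPolynomial.eval (Sum.elim (co F) (co G)) g ≠ 0
    simp only [g, map_mul]
    refine mul_ne_zero (mul_ne_zero (mul_ne_zero ?_ hg₂) ?_) hg₄
    · simpa [g₁] using hab
    · rw [hg₃]; exact hf₀v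
  · rintro ⟨F', G'⟩ hFG
    simp only [g, map_mul, mul_ne_zero_iff] at hFG
    obtain ⟨⟨⟨h1, h2⟩, h3⟩, h4⟩ := hFG
    refine ⟨?_, ?_, ?_, ?_⟩
    · rw [LinearIndependent.pair_iff]
      intro s t hst
      by_contra hne
      refine h1 ?_
      simp only [g₁, map_sub, map_mul, MvPolynomial.eval_X, Sum.elim_inl, Sum.elim_inr]
      refine (dep_iff_minors (co F') (co G')).1 ⟨s, t, not_and_or.1 hne, fun o => ?_⟩ a b
      have := congrArg (fun H => co H o) hst
      simpa [co_add, co_smul, co_eq_equivFun] using this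
    · refine (transversal2_iff hn F' G').2 fun x hx hB => hg₄s _ h4 x hx ?_
      show Bad2 i (fc (d := d) (co F')) (fc (co G')) x
      rw [fc_co, fc_co]
      exact hB
    · let q : Polynomial k := MvPolynomial.aeval
        (fun c => Polynomial.C (co F' c) + Polynomial.X * Polynomial.C (co G' c)) P₀
      have hq : ∀ c : k, q.eval c = f₀ (F' + c • G') := fun c => by
        rw [hP₀, co_add, co_smul]
        refine RingHom.congr_fun (f := (Polynomial.evalRingHom c).comp (MvPolynomial.aeval
          (fun e => Polynomial.C (co F' e) + Polynomial.X * Polynomial.C (co G' e))).toRingHom)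
          (g := MvPolynomial.eval (co F' + c • co G')) (MvPolynomial.ringHom_ext (fun t => by simp) fun e => by simp; ring) P₀
      have hq0 : q ≠ 0 := fun h0 => by
        apply h3
        rw [hg₃, ← hq, h0, Polynomial.eval_zero]
      refine (Polynomial.finite_setOf_isRoot hq0).subset fun c hc => ?_
      by_contra hne
      exact hc ((transversal_iff i hn _).2 (hf₀s _ (by rw [← hq]; exact hne)))
    · obtain ⟨hG', hF'⟩ := hg₂s (co F') (co G') h2
      intro H hH hT
      by_contra hO
      have hW : co H ∈ WBad i n := by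
        refine ⟨?_, by rwa [fc_co]⟩
        rw [fc_co]
        by_contra hno
        push Not at hno
        exact hT ((transversal_iff i hn H).2 hno)
      rcases hH with rfl | ⟨c, rfl⟩
      · exact hG' hW
      · rw [co_add, co_smul] at hW
        exact hF' c hW

end Groth.Agent.DualVar
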