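import Groth.Agent.DualVar.Jets
import Groth.Agent.DualVar.Pair
import Groth.Agent.PicPn.Chart

/-!
# Forms singular at a point: their jets at the other points
-/

set_option autoImplicit false
set_option linter.style.haveILetI false
set_option linter.unusedSectionVars false
set_option backward.isDefEq.respectTransparency false
set_option backward.isDefEq.respectTransparency.types false

universe u

open CategoryTheory CategoryTheory.Limits AlgebraicGeometry TopologicalSpace Opposite IsLocalRing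
open Groth.Agent.WeilLib (secStr)

noncomputable section

namespace Groth.Agent.DualVar

variable {k : Type u} [Field k] {r : ℕ}

/-- A coordinate as a linear form. -/
def X1 (a : Fin (r + 1)) : LefPen.Form r k 1 :=
  ⟨MvPolynomial.X a, MvPolynomial.isHomogeneous_X k a⟩

/-- The product of a power of a linear form with a linear form. -/
def pm (e : ℕ) (m x : LefPen.Form r k 1) : LefPen.Form r k (e + 1) :=
  ⟨m.1 ^ e * x.1, by
    have h := ((MvPolynomial.mem_homogeneousSubmodule 1 _).1 m.2).pow e |>.mul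
      ((MvPolynomial.mem_homogeneousSubmodule 1 _).1 x.2)
    rw [one_mul] at h
    exact (MvPolynomial.mem_homogeneousSubmodule _ _).2 h⟩

variable {X : Scheme.{u}} {i : X ⟶ CohB1.ProjSpace r k}

theorem hmap_pm (l : Fin (r + 1)) (V : X.Opens) (hV : V ≤ i ⁻¹ᵁ (CompInt.C k r l).1) (e : ℕ)
    (m x : LefPen.Form r k 1) : hmap i l V hV (pm e m x) = hmap i l V hV m ^ e * hmap i l V hV x := by
  simp only [hmap, CompInt.eqn, pm, map_mul, map_pow]

theorem hmap_X1_self (l : Fin (r + 1)) (V : X.Opens) (hV : V ≤ i ⁻¹ᵁ (CompInt.C k r l).1) :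
    hmap i l V hV (X1 l) = 1 := by
  simp only [hmap, CompInt.eqn, X1, GrT.deh_self]
  exact map_one _

variable [IsAlgClosed k] [IsClosedImmersion i] {n : ℕ} [SmoothOfRelativeDimension n (str i)]
  [LocallyOfFiniteType (str i)]

theorem mem_support_iff' (l : Fin (r + 1)) (U : X.affineOpens) (hU : U.1 ≤ i ⁻¹ᵁ (CompInt.C k r l).1) {d : ℕ}
    (H : LefPen.Form r k d) {x : X} (hx : IsClosed ({x} : Set X)) (hxU : x ∈ U.1) :
    x ∈ (LefPen.secIdeal i ({H} : Set (LefPen.Form r k d))).support ↔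
      ev (str i) hx hxU (hmap i l U.1 hU H) = 0 := by
  rw [Scheme.IdealSheafData.mem_support_iff_of_mem (U := U) hxU, secIdeal_ideal i H l U hU,
    Scheme.zeroLocus_span, Scheme.mem_zeroLocus_iff]
  constructor
  · intro h
    by_contra hne
    exact h _ rfl ((ev_ne_zero_iff (str i) hx hxU _).1 hne)
  · intro h a ha hmem
    rw [Set.mem_singleton_iff.1 ha] at hmem
    exact (ev_ne_zero_iff (str i) hx hxU _).2 hmem h

theorem Ch.J_none (C : Ch i n) {x : X} (hx : IsClosed ({x} : Set X)) (hxV : x ∈ C.V.1) {d : ℕ}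
    (H : LefPen.Form r k d) : C.J hx hxV d H none = ev (str i) hx hxV (hmap i C.l C.V.1 C.hV H) := rfl

theorem Ch.J_X1_self (C : Ch i n) {x : X} (hx : IsClosed ({x} : Set X)) (hxV : x ∈ C.V.1) :
    C.J hx hxV 1 (X1 C.l) none = 1 := by rw [C.J_none, hmap_X1_self, map_one]

/-- The linear forms separate the closed points. -/
theorem exists_lin_sep (C₀ C : Ch i n) {x y : X} (hx : IsClosed ({x} : Set X)) (hxV : x ∈ C₀.V.1)
    (hy : IsClosed ({y} : Set X)) (hyV : y ∈ C.V.1) (hne : y ≠ x) :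
    ∃ m : LefPen.Form r k 1, C₀.J hx hxV 1 m none = 0 ∧ C.J hy hyV 1 m none = 1 := by
  classical
  by_contra hno
  push Not at hno
  have h0 : ∀ m, C₀.J hx hxV 1 m none = 0 → C.J hy hyV 1 m none = 0 := fun m hm => by
    by_contra hm'
    refine hno ((C.J hy hyV 1 m none)⁻¹ • m) ?_ ?_
    · rw [map_smul, Pi.smul_apply, hm, smul_zero]
    · rw [map_smul, Pi.smul_apply, smul_eq_mul, inv_mul_cancel₀ hm']
  let E₀ : Fin (r + 1) → k := fun a => C₀.J hx hxV 1 (X1 a) none
  have hm' : ∀ a, C₀.J hx hxV 1 (X1 a - E₀ a • X1 C₀.l) none = 0 := fun a => by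
    simp [E₀, C₀.J_X1_self hx hxV]
  have hy0 : C.J hy hyV 1 (X1 C₀.l) none ≠ 0 := fun h => by
    have := h0 _ (hm' C.l)
    simp [C.J_X1_self hy hyV, h] at this
  have hyU : y ∈ i ⁻¹ᵁ (CompInt.C k r C₀.l).1 := by
    rw [C.J_none, ev_ne_zero_iff (str i) hy hyV, hmap, Scheme.basicOpen_appLE] at hy0
    have h2 : i y ∈ (PicPn.P r k).basicOpen (PicPn.z (k := k) C.l C₀.l) := hy0.2
    rw [← PicPn.ch_inf] at h2
    exact h2.2
  let U : X.affineOpens := ⟨i ⁻¹ᵁ (CompInt.C k r C₀.l).1, (CompInt.C k r C₀.l).2.preimage i⟩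
  have hxU : x ∈ U.1 := C₀.hV hxV
  have hval : ∀ (z : X) (hz : IsClosed ({z} : Set X)) (hzU : z ∈ U.1),
      (∀ a, z ∈ (LefPen.secIdeal i ({X1 a - E₀ a • X1 C₀.l} : Set (LefPen.Form r k 1))).support) →
        ∀ g : Γ(X, U.1), ∀ p, g = (i.appLE (CompInt.C k r C₀.l).1 U.1 le_rfl).hom
          (GrT.deh (CohB1.polyGrading r k) (PicPn.X_mem C₀.l) p) →
          ev (str i) hz hzU g = MvPolynomial.eval E₀ p := by
    intro z hz hzU hsupp g p hg
    subst hg
    induction p using MvPolynomial.induction_on with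
    | C c => rw [← secStr_eq i C₀.l U.1 le_rfl, ev_secStr, MvPolynomial.eval_C]
    | add p q hp hq => rw [map_add, map_add, map_add, map_add, hp, hq]
    | mul_X p a hp =>
      rw [map_mul, map_mul, map_mul, map_mul, hp, MvPolynomial.eval_X]
      congr 1
      have := (mem_support_iff' C₀.l U le_rfl _ hz hzU).1 (hsupp a)
      rw [show X1 a - E₀ a • X1 C₀.l = X1 a + (-E₀ a) • X1 C₀.l by module, hmap_add, hmap_smul, hmap_X1_self, map_add,
        map_mul, map_one, mul_one, ev_secStr, add_neg_eq_zero] at this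
      exact this
  have hall : ∀ g : Γ(X, U.1), ev (str i) hy hyU g = ev (str i) hx hxU g := by
    intro g
    obtain ⟨w, hw⟩ := i.app_surjective _ (CompInt.C k r C₀.l).2 g
    obtain ⟨p, rfl⟩ := ProjMor.exists_deh_eq (PicPn.X_mem (k := k) C₀.l) w
    have hg : g = (i.appLE (CompInt.C k r C₀.l).1 U.1 le_rfl).hom
        (GrT.deh (CohB1.polyGrading r k) (PicPn.X_mem C₀.l) p) := by
      rw [← hw, Scheme.Hom.appLE_eq_app]
    rw [hval y hy hyU (fun a => (mem_support_iff C _ hy hyV).2 (h0 _ (hm' a))) g p hg,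
      hval x hx hxU (fun a => (mem_support_iff C₀ _ hx hxV).2 (hm' a)) g p hg]
  have hk : RingHom.ker (ev (str i) hy hyU) = RingHom.ker (ev (str i) hx hxU) := by
    rw [RingHom.ext hall]
  rw [ker_ev (str i) hy U.2 hyU, ker_ev (str i) hx U.2 hxU] at hk
  have h2 := congrArg U.2.fromSpec (PrimeSpectrum.ext hk)
  rw [U.2.fromSpec_primeIdealOf, U.2.fromSpec_primeIdealOf] at h2
  exact hne h2

variable (C : Ch i n) {y : X} (hy : IsClosed ({y} : Set X)) (hyV : y ∈ C.V.1)

theorem Ch.J_pm_none (e : ℕ) (m x : LefPen.Form r k 1) :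
    C.J hy hyV (e + 1) (pm e m x) none = C.J hy hyV 1 m none ^ e * C.J hy hyV 1 x none := by
  simp only [C.J_none, hmap_pm, map_mul, map_pow]

theorem Ch.J_pm_some (e : ℕ) (m x : LefPen.Form r k 1) (l : Fin n) :
    C.J hy hyV (e + 1) (pm e m x) (some l) = C.J hy hyV 1 m none ^ e * C.J hy hyV 1 x (some l) +
      C.J hy hyV 1 x none * ((e : k) * C.J hy hyV 1 m none ^ (e - 1) * C.J hy hyV 1 m (some l)) := by
  letI := algV i C.V.1
  simp only [C.J_apply, hmap_pm, jet_some_eq, jet_none]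
  generalize hmap i C.l C.V.1 C.hV m = a
  generalize hmap i C.l C.V.1 C.hV x = c
  induction e generalizing c with
  | zero => simp
  | succ e ih =>
    rw [pow_succ, mul_assoc, ih (a * c), dB_mul, map_add, map_mul, map_mul, map_mul]
    rcases e with _ | e
    · simp; ring
    · simp only [Nat.succ_sub_one, pow_succ, Nat.cast_succ]
      ring

section Cases

variable (C₀ : Ch i n) {x : X} (hx : IsClosed ({x} : Set X)) (hxV : x ∈ C₀.V.1) (hne : y ≠ x)

include hne hxV hx hyV hy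

/-- The jets at another point of the forms singular at a point: full, or a linear condition on the point. -/
theorem rank_cases {e : ℕ} (he : 1 ≤ e) :
    ((∀ w, ∃ G : LefPen.Form r k (e + 1), Bad i G x ∧ C.J hy hyV (e + 1) G = w) ∨
      (e = 1 ∧ ∀ μ : LefPen.Form r k 1, Bad i μ x → C.J hy hyV 1 μ none = 0)) ∧
    ∃ o₀ : Option (Fin n), ∀ w : Option (Fin n) → k, ∃ G : LefPen.Form r k (e + 1), Bad i G x ∧
      ∀ o ≠ o₀, C.J hy hyV (e + 1) G o = w o := by
  classical
  obtain ⟨m₁, hm₁x, hm₁y⟩ := exists_lin_sep C₀ C hx hxV hy hyV hne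
  let u := X1 C₀.l - C.J hy hyV 1 (X1 C₀.l) none • m₁
  have hux : C₀.J hx hxV 1 u none = 1 := by simp [u, hm₁x, C₀.J_X1_self hx hxV]
  have huy : C.J hy hyV 1 u none = 0 := by simp [u, hm₁y]
  let L : Submodule k (LefPen.Form r k (e + 1)) := LinearMap.ker (C₀.J hx hxV (e + 1))
  let S : Submodule k (Option (Fin n) → k) := L.map (C.J hy hyV (e + 1))
  have hL : ∀ x', (2 ≤ e ∨ C₀.J hx hxV 1 x' none = 0) → pm e m₁ x' ∈ L := fun x' hx' => by
    refine LinearMap.mem_ker.2 (funext fun o => ?_)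
    have h0 : C₀.J hx hxV 1 m₁ none ^ e = 0 := by rw [hm₁x, zero_pow (by omega)]
    rcases o with _ | l
    · rw [C₀.J_pm_none, h0, zero_mul, Pi.zero_apply]
    · rw [C₀.J_pm_some, h0, zero_mul, zero_add, Pi.zero_apply]
      rcases hx' with h | h
      · rw [hm₁x, zero_pow (by omega : e - 1 ≠ 0)]; ring
      · rw [h, zero_mul]
  have hJ0 : ∀ x', C.J hy hyV 1 x' none = 0 → C.J hy hyV (e + 1) (pm e m₁ x') = C.J hy hyV 1 x' := fun x' hx' => by
    funext o
    rcases o with _ | l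
    · rw [C.J_pm_none, hm₁y, one_pow, one_mul]
    · rw [C.J_pm_some, hm₁y, hx', one_pow, one_mul, zero_mul, add_zero]
  let w₁ := C.J hy hyV 1 u
  have hspan : ∀ t, ∃ s ∈ S, ∃ c : k, t = s + c • w₁ := by
    intro t
    let t' := t - t none • C.J hy hyV (e + 1) (pm e m₁ m₁)
    have ht' : t' none = 0 := by simp [t', C.J_pm_none, hm₁y]
    obtain ⟨x', hx'⟩ := C.J_surjective hy hyV le_rfl t'
    let xk := x' - C₀.J hx hxV 1 x' none • u
    have hxky : C.J hy hyV 1 xk none = 0 := by simp [xk, huy, hx', ht']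
    refine ⟨t none • C.J hy hyV (e + 1) (pm e m₁ m₁) + C.J hy hyV 1 xk, add_mem
      (S.smul_mem _ (Submodule.mem_map_of_mem (hL _ (Or.inr hm₁x)))) ?_, C₀.J hx hxV 1 x' none, ?_⟩
    · rw [← hJ0 xk hxky]
      exact Submodule.mem_map_of_mem (hL _ (Or.inr (by simp [xk, hux])))
    · simp only [xk, map_sub, map_smul, hx', t', w₁]
      abel
  have hfull : w₁ ∈ S → ∀ t, t ∈ S := fun h t => by
    obtain ⟨s, hs, c, rfl⟩ := hspan t
    exact add_mem hs (S.smul_mem c h)
  have hget : ∀ t ∈ S, ∃ G : LefPen.Form r k (e + 1), Bad i G x ∧ C.J hy hyV (e + 1) G = t := by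
    rintro t ⟨G, hG, rfl⟩
    exact ⟨G, (C₀.bad_iff_J hx hxV G).2 hG, rfl⟩
  refine ⟨?_, ?_⟩
  · by_cases h : w₁ ∈ S
    · exact Or.inl fun w => hget w (hfull h w)
    right
    have he1 : e = 1 := by
      by_contra hne1
      exact h ⟨pm e m₁ u, hL u (Or.inl (by omega)), hJ0 u huy⟩
    refine ⟨he1, fun μ hμ => ?_⟩
    subst he1
    by_contra hμy
    have hμx := (C₀.bad_iff_J hx hxV μ).1 hμ
    have hμL : pm 1 μ u ∈ L := LinearMap.mem_ker.2 (funext fun o => by
      rcases o with _ | l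
      · simp [C₀.J_pm_none, congrFun hμx]
      · simp [C₀.J_pm_some, congrFun hμx])
    refine h ?_
    have : w₁ = (C.J hy hyV 1 μ none)⁻¹ • C.J hy hyV (1 + 1) (pm 1 μ u) := funext fun o => by
      rcases o with _ | l
      · simp [w₁, C.J_pm_none, huy]
      · simp [w₁, C.J_pm_some, huy, inv_mul_cancel_left₀ hμy]
    rw [this]
    exact S.smul_mem _ (Submodule.mem_map_of_mem hμL)
  · by_cases hall : ∀ o, Pi.single o (1 : k) ∈ S
    · refine ⟨none, fun w => ?_⟩
      have hw : w ∈ S := by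
        rw [pi_eq_sum_univ' w]
        exact S.sum_mem fun o _ => S.smul_mem _ (hall o)
      obtain ⟨G, hG, hG'⟩ := hget w hw
      exact ⟨G, hG, fun o _ => by rw [hG']⟩
    · push Not at hall
      obtain ⟨o₀, ho₀⟩ := hall
      refine ⟨o₀, fun w => ?_⟩
      obtain ⟨s₀, hs₀, c₀, he₀⟩ := hspan (Pi.single o₀ 1)
      have hc₀ : c₀ ≠ 0 := fun h0 => ho₀ (by rw [he₀, h0, zero_smul, add_zero]; exact hs₀)
      obtain ⟨s, hs, c, hw⟩ := hspan w
      have hw₁ : w₁ = c₀⁻¹ • (Pi.single o₀ 1 - s₀) := by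
        rw [he₀, add_sub_cancel_left, smul_smul, inv_mul_cancel₀ hc₀, one_smul]
      obtain ⟨G, hG, hG'⟩ := hget (s - (c * c₀⁻¹) • s₀) (sub_mem hs (S.smul_mem _ hs₀))
      refine ⟨G, hG, fun o ho => ?_⟩
      rw [hG', hw, hw₁]
      simp [ho]
      ring

end Cases

end Groth.Agent.DualVar
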