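import Groth.Agent.DualVar.Param
import Groth.Agent.DualVar.HessPt
import Groth.Agent.DualVar.Through
import Groth.Agent.DualVar.Points

/-!
# In characteristic zero a dual hypersurface generically gives ordinary quadratic singularities
-/

set_option autoImplicit false
set_option linter.style.haveILetI false
set_option linter.unusedSectionVars false
set_option backward.isDefEq.respectTransparency false
set_option backward.isDefEq.respectTransparency.types false

universe u

open CategoryTheory CategoryTheory.Limits AlgebraicGeometry TopologicalSpace Opposite IsLocalRing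
open Groth.Agent.WeilLib (secStr)

noncomputable section

namespace Groth.Agent.DualVar

open MvPolynomial (eval)

variable {k : Type u} [Field k] [IsAlgClosed k] [CharZero k] {r d n : ℕ} {X : Scheme.{u}}
  {i : X ⟶ CohB1.ProjSpace r k} [IsClosedImmersion i] [IrreducibleSpace X] [SmoothOfRelativeDimension n (str i)]
  [LocallyOfFiniteType (str i)]

/-- The determinant of the jets of chosen forms. -/
def Ch.dE (C : Ch i n) (E : Option (Fin n) → LefPen.Form r k d) : Γ(X, C.V.1) :=
  letI := algV i C.V.1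
  (pM (fun o c => jet C.b (C.h d c) o) fun p => co (E p)).det

theorem Ch.pt_dE (C : Ch i n) (E : Option (Fin n) → LefPen.Form r k d) {y : X} (hy : IsClosed ({y} : Set X))
    (hyV : y ∈ C.V.1) : letI := algV i C.V.1
    C.pt hy hyV (C.dE E) = Matrix.det (fun o p => C.J hy hyV d (E p) o) := by
  letI := algV i C.V.1
  rw [Ch.dE, AlgHom.map_det]
  congr 1
  funext o p
  rw [C.J_sum, AlgHom.mapMatrix_apply, Matrix.map_apply, pM, map_sum]
  simp

include n

theorem exists_piece (hn : 1 ≤ n) (hd : 1 ≤ d) (C : Ch i n) (E : Option (Fin n) → LefPen.Form r k d) {x : X}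
    (hx : IsClosed ({x} : Set X)) (hxV : x ∈ C.V.1) (hxE : ev (str i) hx hxV (C.dE E) ≠ 0)
    (p : CoR k r d) (hp : Irreducible p) (a : Fin (Module.finrank k (LefPen.Form r k d)))
    (ha : MvPolynomial.pderiv a p ≠ 0)
    (hdvd : ∀ P : CoR k r d, (∀ (y : X) (H : LefPen.Form r k d), IsClosed ({y} : Set X) → Bad i H y →
      eval (co H) P = 0) → p ∣ P) :
    ∃ P₀ : CoR k r d, ¬ p ∣ P₀ ∧ ∀ (H : LefPen.Form r k d) (y : X) (hy : IsClosed ({y} : Set X)) (hyV : y ∈ C.V.1),
      ev (str i) hy hyV (C.dE E) ≠ 0 → Bad i H y → eval (co H) P₀ ≠ 0 →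
        OrdAt i n H y ∧ ∀ G : LefPen.Form r k d, C.J hy hyV d G none = 0 →
          ∑ c, co G c * eval (co H) (MvPolynomial.pderiv c p) = 0 := by
  classical
  haveI : Smooth (str i) := SmoothOfRelativeDimension.smooth n (str i)
  haveI hufm : UniqueFactorizationMonoid (CoR k r d) := ufm _ k
  letI := algV i C.V.1
  haveI := isDomain_chart C hxV
  haveI : Algebra.FiniteType k Γ(X, C.V.1) := WeilLib.finiteType_secStr (str i) C.V.2
  let A := Γ(X, C.V.1)
  let N := Module.finrank k (LefPen.Form r k d)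
  let Φ : Option (Fin n) → Fin N → A := fun o c => jet C.b (C.h d c) o
  let Ev : Option (Fin n) → Fin N → k := fun p => co (E p)
  -- a complement
  let Lc : (Option (Fin n) → k) →ₗ[k] (Fin N → k) :=
    { toFun := fun s => ∑ p, s p • Ev p
      map_add' := fun s s' => by simp [add_smul, Finset.sum_add_distrib]
      map_smul' := fun t s => by simp [Finset.smul_sum, smul_smul] }
  have hLc : Function.Injective Lc := by
    refine (injective_iff_map_eq_zero Lc).2 fun s hs => ?_
    refine Matrix.eq_zero_of_mulVec_eq_zero (M := fun o p => C.J hx hxV d (E p) o)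
      (by rw [← C.pt_dE E hx hxV]; exact hxE) (funext fun o => ?_)
    have h0 : (∑ c, Lc s c * C.pt hx hxV (Φ o c)) = 0 := by simp [hs]
    rw [Pi.zero_apply, ← h0]
    simp only [Lc, LinearMap.coe_mk, AddHom.coe_mk, Finset.sum_apply, Pi.smul_apply, smul_eq_mul, Finset.sum_mul,
      Matrix.mulVec, dotProduct, C.J_sum, Φ, Ev]
    rw [Finset.sum_comm]
    refine Finset.sum_congr rfl fun c _ => Finset.sum_congr rfl fun p _ => by ring
  obtain ⟨W, hW⟩ := Submodule.exists_isCompl (LinearMap.range Lc)
  haveI : Module.Free k W := Module.Free.of_divisionRing k W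
  let bW : Fin (Module.finrank k W) → Fin N → k := fun q => (Module.finBasis k W q).1
  have hNm : n + Module.finrank k W < N := by
    have h1 := Submodule.finrank_add_eq_of_isCompl hW
    rw [LinearMap.finrank_range_of_inj hLc, Module.finrank_pi, Module.finrank_fin_fun, Fintype.card_option,
      Fintype.card_fin] at h1
    omega
  have hdec0 : ∀ c : Fin N, ∃ (τ : Fin (Module.finrank k W) → k) (σ : Option (Fin n) → k), ∀ c',
      (if c = c' then (1 : k) else 0) = ∑ q, τ q * bW q c' + ∑ p, σ p * Ev p c' := by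
    intro c
    obtain ⟨u, hu, w, hw, huw⟩ := Submodule.mem_sup.1 (hW.sup_eq_top.ge (trivial : (Pi.single c (1 : k) : Fin N → k) ∈ ⊤))
    obtain ⟨s, rfl⟩ := hu
    refine ⟨(Module.finBasis k W).equivFun ⟨w, hw⟩, s, fun c' => ?_⟩
    have h1 := congrArg Subtype.val ((Module.finBasis k W).sum_equivFun ⟨w, hw⟩)
    simp only [Submodule.coe_sum, Submodule.coe_smul] at h1
    have h2 := congrFun huw c'
    rw [← h1] at h2
    simp only [Lc, LinearMap.coe_mk, AddHom.coe_mk, Pi.add_apply, Finset.sum_apply, Pi.smul_apply, smul_eq_mul,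
      Pi.single_apply] at h2
    rw [show (if c = c' then (1 : k) else 0) = if c' = c then 1 else 0 from if_congr eq_comm rfl rfl, ← h2, add_comm]
  choose τ σ hdec using hdec0
  let z := pZ Φ Ev bW
  have hdetA : (pM Φ Ev).det ≠ 0 := fun h0 => hxE (by show ev (str i) hx hxV ((pM Φ Ev).det) = 0; rw [h0, map_zero])
  have hfib : ∀ (H : LefPen.Form r k d) (y : X) (hy : IsClosed ({y} : Set X)) (hyV : y ∈ C.V.1),
      ev (str i) hy hyV (C.dE E) ≠ 0 → Bad i H y →
        ∃ t : Fin (Module.finrank k W) → k, ∀ c, MvPolynomial.eval₂Hom (C.pt hy hyV).toRingHom t (z c) = co H c := by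
    intro H y hy hyV hne hB
    refine exists_eval_pZ Φ Ev bW (C.pt hy hyV) hne τ σ hdec (co H) fun o => ?_
    have := congrFun ((C.bad_iff_J hy hyV H).1 hB) o
    rwa [C.J_sum] at this
  have hevz : ∀ (y : X) (hy : IsClosed ({y} : Set X)) (hyV : y ∈ C.V.1) (t : Fin (Module.finrank k W) → k)
      (P : CoR k r d), MvPolynomial.eval₂Hom (C.pt hy hyV).toRingHom t (MvPolynomial.aeval z P) =
        eval (fun c => MvPolynomial.eval₂Hom (C.pt hy hyV).toRingHom t (z c)) P := by
    intro y hy hyV t P
    refine RingHom.congr_fun (f := (MvPolynomial.eval₂Hom (C.pt hy hyV).toRingHom t).comp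
      (MvPolynomial.aeval z).toRingHom) (g := eval (fun c => MvPolynomial.eval₂Hom (C.pt hy hyV).toRingHom t (z c)))
      (MvPolynomial.ringHom_ext (fun c => ?_) fun c => ?_) P
    · show MvPolynomial.eval₂Hom (C.pt hy hyV).toRingHom t (MvPolynomial.aeval z (MvPolynomial.C c)) = eval _ (MvPolynomial.C c)
      rw [MvPolynomial.aeval_C, MvPolynomial.eval_C]
      exact (MvPolynomial.eval₂Hom_C _ _ _).trans ((C.pt hy hyV).commutes c)
    · show MvPolynomial.eval₂Hom (C.pt hy hyV).toRingHom t (MvPolynomial.aeval z (MvPolynomial.X c)) = eval _ (MvPolynomial.X c)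
      rw [MvPolynomial.aeval_X, MvPolynomial.eval_X]
  have hker : ∀ P : CoR k r d, MvPolynomial.aeval z P = 0 → p ∣ P := by
    intro P hP
    refine hdvd P fun y H hy hB => ?_
    by_contra hne
    obtain ⟨U, hyU, hU⟩ := exists_open_nonvanishing n i hd P hy hB hne
    haveI : JacobsonSpace X := LocallyOfFiniteType.jacobsonSpace (str i)
    obtain ⟨y', hy', hy'c⟩ : ((U ⊓ X.basicOpen (C.dE E) : X.Opens) : Set X) ∩ closedPoints X |>.Nonempty := by
      refine nonempty_inter_closedPoints ?_ (U ⊓ X.basicOpen (C.dE E)).isOpen.isLocallyClosed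
      exact nonempty_preirreducible_inter U.isOpen (X.basicOpen (C.dE E)).isOpen ⟨y, hyU⟩
        ⟨x, (ev_ne_zero_iff (str i) hx hxV _).1 hxE⟩
    obtain ⟨G, hG, hGP⟩ := hU y' hy'.1 hy'c
    have hy'V := X.basicOpen_le _ hy'.2
    obtain ⟨t, ht⟩ := hfib G y' hy'c hy'V ((ev_ne_zero_iff (str i) hy'c hy'V _).2 hy'.2) hG
    refine hGP ?_
    have := hevz y' hy'c hy'V t P
    rw [hP, map_zero, funext ht] at this
    exact this.symm
  have hdep : ∀ b, ∃ P : CoR k r d, P ≠ 0 ∧ MvPolynomial.aeval (Function.update z a b) P = 0 := fun b =>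
    exists_rel_of_dim (k := k) (ringKrullDim_le n (str i) C.V.2) hNm _
  have hpz : MvPolynomial.aeval z p = 0 := by
    obtain ⟨P, hP0, hP⟩ := exists_rel_of_dim (k := k) (ringKrullDim_le n (str i) C.V.2) hNm z
    suffices ∀ (D : ℕ) (P : CoR k r d), P.totalDegree ≤ D → P ≠ 0 → MvPolynomial.aeval z P = 0 →
        MvPolynomial.aeval z p = 0 from this _ P le_rfl hP0 hP
    have hpd : 0 < p.totalDegree := lt_of_le_of_lt (Nat.zero_le _) (totalDegree_pderiv_lt ha)
    intro D
    induction D with
    | zero =>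
      intro P hD hP h
      obtain ⟨Q, rfl⟩ := hker P h
      rw [MvPolynomial.totalDegree_mul_of_isDomain (left_ne_zero_of_mul hP) (right_ne_zero_of_mul hP)] at hD
      omega
    | succ D ih =>
      intro P hD hP h
      obtain ⟨Q, rfl⟩ := hker P h
      rw [MvPolynomial.totalDegree_mul_of_isDomain (left_ne_zero_of_mul hP) (right_ne_zero_of_mul hP)] at hD
      rw [map_mul, mul_eq_zero] at h
      exact h.elim id fun h' => ih Q (by omega) (right_ne_zero_of_mul hP) h'
  -- the Hessian
  let Bt := MvPolynomial (Fin (Module.finrank k W)) A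
  let Hs : Matrix (Fin n) (Fin n) Bt := fun l m => ∑ c, z c * MvPolynomial.C (dB C.b m (dB C.b l (C.h d c)))
  have hΔ : Hs.det ≠ 0 := by
    intro h0
    let L := FractionRing Bt
    let ρ : A →ₐ[k] L := IsScalarTower.toAlgHom k A L
    have h1 : (Hs.map (algebraMap Bt L)).det = 0 := by
      rw [← RingHom.mapMatrix_apply, ← RingHom.map_det, h0, map_zero]
    obtain ⟨v, hv, hv0⟩ := Matrix.exists_mulVec_eq_zero_iff.2 h1
    let D : A →ₗ[k] L :=
      { toFun := fun c => ∑ m, v m * ρ (dB C.b m c)
        map_add' := fun c c' => by simp [mul_add, Finset.sum_add_distrib]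
        map_smul' := fun t c => by simp [Finset.smul_sum] }
    have hD : ∀ c c', D (c * c') = ρ c * D c' + D c * ρ c' := fun c c' => by
      simp only [D, LinearMap.coe_mk, AddHom.coe_mk, dB_mul, map_add, map_mul, Finset.mul_sum, Finset.sum_mul,
        ← Finset.sum_add_distrib]
      exact Finset.sum_congr rfl fun m _ => by ring
    let t : Fin (Module.finrank k W) → L := fun q => algebraMap Bt L (MvPolynomial.X q)
    have hev : MvPolynomial.eval₂Hom ρ.toRingHom t = algebraMap Bt L :=
      MvPolynomial.ringHom_ext (fun c => by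
        rw [MvPolynomial.eval₂Hom_C]
        exact IsScalarTower.algebraMap_apply A Bt L c) fun q => MvPolynomial.eval₂Hom_X' _ _ _
    have hρdet : ρ (pM Φ Ev).det ≠ 0 := by
      intro h
      refine hdetA ?_
      have h' : algebraMap Bt L (MvPolynomial.C (pM Φ Ev).det) = 0 := by
        rw [← h]; exact (IsScalarTower.algebraMap_apply A Bt L _).symm
      rwa [map_eq_zero_iff _ (IsFractionRing.injective Bt L), MvPolynomial.C_eq_zero] at h'
    obtain ⟨w, hw⟩ := exists_theta Φ Ev bW ρ hρdet τ σ hdec D hD t 0 (fun o => by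
      rw [show ∑ c, (0 : Fin N → L) c * ρ (Φ o c) = 0 from Finset.sum_eq_zero fun c _ => zero_mul _, zero_add]
      rw [Finset.sum_congr rfl fun c _ => congrArg (· * D (Φ o c)) (RingHom.congr_fun hev (pZ Φ Ev bW c))]
      refine Eq.trans (Finset.sum_congr rfl fun c _ =>
        (Finset.mul_sum Finset.univ (fun m => v m * ρ (dB C.b m (Φ o c))) (algebraMap Bt L (z c)))) ?_
      refine Eq.trans Finset.sum_comm ?_
      rcases o with _ | l
      · refine Finset.sum_eq_zero fun m _ => ?_
        have := congrArg (algebraMap Bt L) (sum_pZ Φ Ev bW (some m))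
        simp only [map_sum, map_mul, map_zero] at this
        rw [← mul_zero (v m), ← this, Finset.mul_sum]
        refine Finset.sum_congr rfl fun c _ => ?_
        rw [show ρ (dB C.b m (Φ none c)) = algebraMap Bt L (MvPolynomial.C (Φ (some m) c)) from
          IsScalarTower.algebraMap_apply A Bt L _]
        simp only [z]
        ring
      · rw [← show (Hs.map (algebraMap Bt L)).mulVec v l = 0 from congrFun hv0 l]
        simp only [Matrix.mulVec, dotProduct, Matrix.map_apply, Hs, map_sum, map_mul, Finset.sum_mul]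
        refine Finset.sum_congr rfl fun m _ => Finset.sum_congr rfl fun c _ => ?_
        rw [show ρ (dB C.b m (Φ (some l) c)) = algebraMap Bt L (MvPolynomial.C (dB C.b m (dB C.b l (C.h d c)))) from
          IsScalarTower.algebraMap_apply A Bt L _]
        ring)
    refine hv (funext fun l => ?_)
    have hD0 : ∀ c, D c = 0 := fun c => by
      have := snd_eq_zero_of_dep z ha hker hdep (theta ρ D hD t w) (fun b hb => by
        rw [fst_theta, hev] at hb
        exact (map_eq_zero_iff _ (IsFractionRing.injective Bt L)).1 hb) (fun c' => by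
        show TrivSqZeroExt.snd (theta ρ D hD t w (pZ Φ Ev bW c')) = 0
        rw [hw]; rfl) (MvPolynomial.C c)
      simpa [theta_C] using this
    have hspan : ∀ ω : Ω[A⁄k], ∑ m, v m * ρ (C.b.coord m ω) = 0 := by
      intro ω
      have hω : ω ∈ Submodule.span A (Set.range (KaehlerDifferential.D k A)) := by
        rw [KaehlerDifferential.span_range_derivation]; trivial
      induction hω using Submodule.span_induction with
      | mem w hw =>
        obtain ⟨c, rfl⟩ := hw
        exact hD0 c
      | zero => simp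
      | add w w' _ _ ih ih' => simp only [map_add, mul_add, Finset.sum_add_distrib, ih, ih', add_zero]
      | smul c w _ ih =>
        simp only [map_smul, smul_eq_mul, map_mul, mul_left_comm (v _), ← Finset.mul_sum, ih, mul_zero]
    have := hspan (C.b l)
    simpa [Module.Basis.coord_apply, Module.Basis.repr_self, Finsupp.single_apply, apply_ite ρ] using this
  obtain ⟨P₀, hP₀p, hP₀⟩ := exists_mem_span_of_dep z ha hker hdep hΔ
  refine ⟨P₀, hP₀p, fun H y hy hyV hne hB hP₀H => ?_⟩
  obtain ⟨t, ht⟩ := hfib H y hy hyV hne hB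
  let f := MvPolynomial.eval₂Hom (C.pt hy hyV).toRingHom t
  have hΔy : (Hs.map f).det ≠ 0 := by
    obtain ⟨Q, hQ⟩ := Ideal.mem_span_singleton'.1 hP₀
    intro h0
    refine hP₀H ?_
    have := hevz y hy hyV t P₀
    rw [funext ht] at this
    rw [← this, ← hQ, map_mul, RingHom.map_det, RingHom.mapMatrix_apply, h0, mul_zero]
  have hHs : ∀ l m, f (Hs l m) = ∑ c, co H c * C.pt hy hyV (dB C.b m (dB C.b l (C.h d c))) := fun l m => by
    show f (∑ c, z c * _) = _
    rw [map_sum]
    refine Finset.sum_congr rfl fun c _ => ?_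
    rw [map_mul, show f (z c) = co H c from ht c]
    exact congrArg (co H c * ·) (MvPolynomial.eval₂Hom_C _ _ _)
  have hzero : ∀ (w : Fin n → k), (Hs.map f).mulVec w = 0 → w = 0 := fun w hw =>
    Matrix.eq_zero_of_mulVec_eq_zero hΔy hw
  refine ⟨?_, fun G hG => ?_⟩
  · obtain ⟨ψ, hC, hψ⟩ := C.exists_coord hn hy hyV
    refine (hψ d H hB).2 (not_deg_of_hess C.b hC ((C.bad_iff hy hyV H).2.2.1 hB) fun c hc => hzero c (funext fun l => ?_))
    rw [Pi.zero_apply, ← hc l, ← C.sum_h H]
    simp only [Matrix.mulVec, dotProduct, Matrix.map_apply, hHs, map_sum, map_smul, smul_eq_mul]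
    exact Finset.sum_congr rfl fun m _ => mul_comm _ _
  · have hunit : IsUnit (Hs.map f) := (Matrix.isUnit_iff_isUnit_det _).2 (isUnit_iff_ne_zero.2 hΔy)
    obtain ⟨v, hv⟩ := (Matrix.mulVec_surjective_iff_isUnit.2 hunit) fun l => -C.J hy hyV d G (some l)
    let D : A →ₗ[k] k :=
      { toFun := fun c => ∑ m, v m * C.pt hy hyV (dB C.b m c)
        map_add' := fun c c' => by simp [mul_add, Finset.sum_add_distrib]
        map_smul' := fun s c => by simp [Finset.mul_sum, mul_left_comm] }
    have hD : ∀ c c', D (c * c') = C.pt hy hyV c * D c' + D c * C.pt hy hyV c' := fun c c' => by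
      simp only [D, LinearMap.coe_mk, AddHom.coe_mk, dB_mul, map_add, map_mul, Finset.mul_sum, Finset.sum_mul,
        ← Finset.sum_add_distrib]
      exact Finset.sum_congr rfl fun m _ => by ring
    obtain ⟨w, hw⟩ := exists_theta Φ Ev bW (C.pt hy hyV) hne τ σ hdec D hD t (co G) (fun o => by
      rw [show ∑ c, MvPolynomial.eval₂Hom (C.pt hy hyV).toRingHom t (pZ Φ Ev bW c) * D (Φ o c) = ∑ c, co H c * D (Φ o c)
        from Finset.sum_congr rfl fun c _ => congrArg (· * D (Φ o c)) (ht c)]
      simp only [Φ]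
      rw [← C.J_sum hy hyV G o]
      show _ + ∑ c, co H c * ∑ m, v m * C.pt hy hyV (dB C.b m (jet C.b (C.h d c) o)) = 0
      simp only [Finset.mul_sum]
      rw [Finset.sum_comm]
      rcases o with _ | l
      · rw [hG, zero_add]
        refine Finset.sum_eq_zero fun m _ => ?_
        have := congrFun ((C.bad_iff_J hy hyV H).1 hB) (some m)
        rw [C.J_sum, Pi.zero_apply] at this
        rw [← mul_zero (v m), ← this, Finset.mul_sum]
        exact Finset.sum_congr rfl fun c _ => by simp only [jet_none, jet_some_eq]; ring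
      · rw [← neg_eq_iff_add_eq_zero, ← show (Hs.map f).mulVec v l = -C.J hy hyV d G (some l) from congrFun hv l]
        simp only [Matrix.mulVec, dotProduct, Matrix.map_apply, hHs, Finset.sum_mul, jet_some_eq]
        exact Finset.sum_congr rfl fun m _ => Finset.sum_congr rfl fun c _ => by ring)
    have h1 := congrArg TrivSqZeroExt.snd (congrArg (theta (C.pt hy hyV) D hD t w) hpz)
    rw [map_zero, TrivSqZeroExt.snd_zero, MvPolynomial.comp_aeval_apply, snd_aeval_dual] at h1
    simp only [fst_theta] at h1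
    rw [← h1]
    refine Finset.sum_congr rfl fun c _ => ?_
    rw [hw, MvPolynomial.aeval_eq_eval, funext ht, mul_comm]

/-- In characteristic zero the worse forms contain no hypersurface. -/
theorem noHyp_wbad_of_charZero (hn : 1 ≤ n) : NoHyp (WBad (d := 1) i n) := by
  classical
  haveI : Smooth (str i) := SmoothOfRelativeDimension.smooth n (str i)
  haveI : JacobsonSpace X := LocallyOfFiniteType.jacobsonSpace (str i)
  haveI hufm : UniqueFactorizationMonoid (CoR k r 1) := ufm _ k
  intro p hp
  by_contra hno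
  push Not at hno
  have hpp : Prime p := UniqueFactorizationMonoid.irreducible_iff_prime.1 hp
  haveI : (Ideal.span {p}).IsPrime := (Ideal.span_singleton_prime hpp.ne_zero).2 hpp
  have hnull : ∀ P : CoR k r 1, (∀ v, eval v p = 0 → eval v P = 0) → p ∣ P := by
    intro P hP
    have hmem : P ∈ MvPolynomial.vanishingIdeal k (MvPolynomial.zeroLocus k (Ideal.span {p})) := by
      rw [MvPolynomial.mem_vanishingIdeal_iff]
      intro v hv
      rw [MvPolynomial.mem_zeroLocus_iff] at hv
      have hv' : eval v p = 0 := by simpa [MvPolynomial.aeval_eq_eval] using hv p (Ideal.mem_span_singleton_self p)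
      simpa [MvPolynomial.aeval_eq_eval] using hP v hv'
    rwa [MvPolynomial.IsPrime.vanishingIdeal_zeroLocus, Ideal.mem_span_singleton] at hmem
  have hdvd : ∀ P : CoR k r 1, (∀ (y : X) (H : LefPen.Form r k 1), IsClosed ({y} : Set X) → Bad i H y →
      eval (co H) P = 0) → p ∣ P := fun P hP => hnull P fun v hv => by
    obtain ⟨⟨y, hy, hB⟩, -⟩ := hno v hv
    have := hP y (fc v) hy hB
    rwa [co_fc] at this
  obtain ⟨a, ha⟩ := exists_pderiv_ne_zero hp
  have hap : ¬ p ∣ MvPolynomial.pderiv a p := by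
    rintro ⟨Q, hQ⟩
    have := totalDegree_pderiv_lt ha
    rw [hQ, MvPolynomial.totalDegree_mul_of_isDomain hpp.ne_zero (right_ne_zero_of_mul (hQ ▸ ha))] at this
    omega
  -- pieces covering the space
  have hloc : ∀ x : closedPoints X, ∃ (C : Ch i n) (E : Option (Fin n) → LefPen.Form r k 1),
      x.1 ∈ X.basicOpen (C.dE E) := by
    intro x
    obtain ⟨C, hxV⟩ := exists_ch (n := n) (i := i) x.2
    choose E hE using fun o : Option (Fin n) => C.J_surjective x.2 hxV le_rfl (Pi.single o (1 : k))
    refine ⟨C, E, (ev_ne_zero_iff (str i) x.2 hxV _).1 ?_⟩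
    rw [← C.pt_apply x.2 hxV, C.pt_dE]
    have : (fun o p => C.J x.2 hxV 1 (E p) o) = (1 : Matrix (Option (Fin n)) (Option (Fin n)) k) := by
      funext o p
      simp [hE, Pi.single_apply, Matrix.one_apply]
    rw [this, Matrix.det_one]
    exact one_ne_zero
  choose C E hCE using hloc
  haveI : IsProper (CohB1.ProjSpace.toSpec r k) := ProjMor.isProper_toSpec r k
  haveI : IsProper (str i) := inferInstance
  haveI : CompactSpace X := QuasiCompact.compactSpace_of_compactSpace (str i)
  have hcov : (Set.univ : Set X) ⊆ ⋃ x, (X.basicOpen ((C x).dE (E x)) : Set X) := by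
    intro y _
    by_contra hy
    obtain ⟨z, hz, hzc⟩ := nonempty_inter_closedPoints
      (⟨y, hy⟩ : ((⋃ x, (X.basicOpen ((C x).dE (E x)) : Set X))ᶜ).Nonempty)
      ((isOpen_iUnion fun x => (X.basicOpen ((C x).dE (E x))).isOpen).isClosed_compl.isLocallyClosed)
    exact hz (Set.mem_iUnion.2 ⟨⟨z, hzc⟩, hCE ⟨z, hzc⟩⟩)
  obtain ⟨T, hT⟩ := isCompact_univ.elim_finite_subcover _ (fun x => (X.basicOpen ((C x).dE (E x))).isOpen) hcov
  have hpc := fun x : closedPoints X => exists_piece hn le_rfl (C x) (E x) x.2 (X.basicOpen_le _ (hCE x))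
    ((ev_ne_zero_iff (str i) x.2 _ _).2 (hCE x)) p hp a ha hdvd
  choose P₀ hP₀p hP₀ using hpc
  obtain ⟨v, hv, hvne⟩ : ∃ v, eval v p = 0 ∧ eval v (MvPolynomial.pderiv a p * ∏ x ∈ T, P₀ x) ≠ 0 := by
    by_contra hc
    push Not at hc
    rcases hpp.dvd_or_dvd (hnull _ hc) with h | h
    · exact hap h
    · obtain ⟨x, -, hx⟩ := hpp.exists_mem_finset_dvd h
      exact hP₀p x hx
  obtain ⟨⟨y, hy, hB⟩, hnO⟩ := hno v hv
  rw [map_mul, map_prod, mul_ne_zero_iff, Finset.prod_ne_zero_iff] at hvne
  have hloc' : ∀ y' : X, IsClosed ({y'} : Set X) → Bad i (fc (d := 1) v) y' →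
      ∃ (C' : Ch i n) (hyV : y' ∈ C'.V.1) (hy' : IsClosed ({y'} : Set X)), OrdAt i n (fc (d := 1) v) y' ∧
        ∀ G : LefPen.Form r k 1, C'.J hy' hyV 1 G none = 0 → ∑ c, co G c * eval v (MvPolynomial.pderiv c p) = 0 := by
    intro y' hy' hB'
    obtain ⟨x, hx, hyx⟩ := Set.mem_iUnion₂.1 (hT (Set.mem_univ y'))
    have hyV := X.basicOpen_le _ hyx
    obtain ⟨h1, h2⟩ := hP₀ x (fc v) y' hy' hyV ((ev_ne_zero_iff (str i) hy' hyV _).2 hyx) hB'
      (by rw [co_fc]; exact hvne.2 x hx)
    rw [co_fc] at h2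
    exact ⟨C x, hyV, hy', h1, h2⟩
  obtain ⟨C₁, hV₁, hy₁, hord, hg₁⟩ := hloc' y hy hB
  refine hnO ((oneOrdQuad_iff hn _).2 ⟨y, hy, hB, hord, fun y' hy' hB' => ?_⟩)
  by_contra hne
  obtain ⟨C₂, hV₂, hy₂, -, hg₂⟩ := hloc' y' hy' hB'
  obtain ⟨m, hm₁, hm₂⟩ := exists_lin_sep C₁ C₂ hy₁ hV₁ hy₂ hV₂ hne
  refine hvne.1 ?_
  let γ : LefPen.Form r k 1 → k := fun G => ∑ c, co G c * eval v (MvPolynomial.pderiv c p)
  have hγ : ∀ G, γ G = 0 := by
    intro G
    have h := hg₂ (G - C₂.J hy₂ hV₂ 1 G none • m) (by simp [hm₂])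
    have hm := hg₁ m hm₁
    rw [show G - C₂.J hy₂ hV₂ 1 G none • m = G + (-(C₂.J hy₂ hV₂ 1 G none)) • m by module] at h
    simp only [co_add, co_smul, Pi.add_apply, Pi.smul_apply, smul_eq_mul, add_mul,
      Finset.sum_add_distrib, mul_assoc, ← Finset.mul_sum, hm, mul_zero, add_zero] at h
    exact h
  have := hγ (bF r k 1 a)
  simpa [γ, co, Finsupp.single_apply] using this

end Groth.Agent.DualVar
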